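import Cfsg.Agent.Lib.Fi24Act.LoopDefs

/-!
Seven words of Fi24 for the generators of the Held group, the conjugators to the letters, the relators.
-/

set_option autoImplicit false
set_option linter.style.longLine false

namespace CfsgLib.Fi24Act

open CfsgLib.Fi24Pres

/-- the images of the seven generators -/
def heW : List (List ℕ) := [
  [9, 5, 3, 4, 1, 2, 3, 7, 8, 6, 4, 5, 3, 4, 2, 3, 7, 1, 2, 3, 4, 5, 6, 9, 2, 3, 4, 1, 2, 3, 7, 5, 6, 4, 5, 3, 4, 2, 3, 7, 1, 2, 3, 4, 5, 6, 3, 4, 5, 2, 3, 4, 1, 2, 3, 7, 8, 3, 4, 2, 3, 7, 1, 2, 3, 4, 5, 7, 3, 4, 7, 1, 2, 3, 1, 8],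
  [11, 7, 3, 4, 1, 2, 3, 7, 8, 4, 5, 3, 4, 2, 3, 7, 1, 2, 3, 4, 5, 6, 5, 4, 3, 7, 2, 3, 4, 5, 8, 7, 1, 2, 3, 4, 7, 2, 3, 7, 2, 1],
  [4, 0, 1, 2, 3, 7, 8, 5, 4, 2, 3, 7, 5, 6, 3, 4, 5, 2, 3, 4, 1, 2, 3, 7, 8, 5, 3, 4, 1, 2, 3, 7, 0, 1, 2, 3, 4, 5, 6, 9, 7, 8, 1, 2, 3, 7, 4, 5, 6, 3, 4, 5, 2, 3, 4, 1, 2, 3, 7, 8, 3, 4, 1, 2, 3, 7, 0, 1, 2, 3, 4, 5, 6, 3, 4, 5, 2, 3, 4, 1, 2, 3, 7, 8, 4, 5, 3, 4, 2, 3, 7, 0, 1, 2, 3, 4, 5, 4, 1, 2, 3, 7, 8, 4, 2, 3, 7, 0, 1, 2, 3, 4, 7, 0, 1, 2, 3, 7, 2, 0, 1, 0, 8, 10],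
  [6, 5, 4, 2, 3, 7, 8, 6, 4, 5, 3, 4, 2, 3, 7, 1, 2, 3, 4, 5, 6, 9, 6, 5, 2, 3, 4, 1, 2, 3, 7, 8, 6, 4, 5, 3, 4, 2, 3, 7, 1, 2, 3, 4, 5, 6, 4, 2, 3, 7, 8, 7, 3, 4, 2, 3, 7, 1, 2, 3, 4, 5, 4, 2, 3, 7, 8, 3, 4, 2, 3, 7, 1, 2, 3, 4, 2, 3, 7, 1, 2, 3, 1, 2, 1, 8],
  [4, 5, 6, 9, 8, 3, 4, 2, 3, 7, 5, 6, 4, 5, 3, 4, 2, 3, 7, 1, 2, 3, 4, 5, 6, 9, 6, 4, 5, 2, 3, 4, 1, 2, 3, 7, 8, 4, 5, 3, 4, 2, 3, 7, 1, 2, 3, 4, 5, 6, 8, 5, 4, 2, 3, 7, 1, 2, 3, 4, 5, 4, 2, 3, 7, 8, 7, 3, 4, 2, 3, 7, 1, 2, 3, 4, 2, 3, 8, 7, 2, 1],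
  [5, 6, 0, 1, 2, 3, 7, 8, 4, 3, 7, 2, 3, 4, 1, 2, 3, 7, 0, 1, 2, 3, 4, 5, 7, 8, 3, 7, 0, 1, 2, 3, 8, 7, 0, 1, 2, 0, 1, 0, 8, 10],
  [11, 8, 7, 2, 3, 4, 5, 6, 9, 7, 8, 1, 2, 3, 7, 4, 5, 2, 3, 4, 1, 2, 3, 7, 8, 4, 5, 2, 3, 4, 0, 1, 2, 3, 7, 6, 5, 4, 3, 2, 1, 0, 11, 9, 5, 4, 0, 1, 2, 3, 7, 8, 6, 5, 2, 3, 4, 1, 2, 3, 7, 0, 1, 2, 3, 4, 5, 6, 9, 5, 2, 3, 4, 1, 2, 3, 7, 8, 3, 7, 6, 5, 2, 3, 4, 1, 2, 3, 7, 0, 1, 2, 3, 4, 5, 6, 8, 7, 4, 5, 2, 3, 4, 1, 2, 3, 7, 8, 4, 5, 2, 3, 4, 1, 2, 3, 7, 0, 1, 2, 3, 4, 5, 8, 4, 3, 7, 2, 3, 4, 1, 2, 3, 7, 0, 1, 2, 3, 4, 8, 7, 0, 1, 2, 3, 8, 7, 1, 2, 0, 1, 10]]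

/-- words conjugating `l` to each letter -/
def heU : List (List ℕ) := [
  [11, 0, 10, 11],
  [0, 1, 11, 0, 10, 11],
  [1, 2, 0, 1, 11, 0, 10, 11],
  [2, 3, 1, 2, 0, 1, 11, 0, 10, 11],
  [3, 4, 2, 3, 1, 2, 0, 1, 11, 0, 10, 11],
  [4, 5, 3, 4, 2, 3, 1, 2, 0, 1, 11, 0, 10, 11],
  [5, 6, 4, 5, 3, 4, 2, 3, 1, 2, 0, 1, 11, 0, 10, 11],
  [3, 7, 2, 3, 1, 2, 0, 1, 11, 0, 10, 11],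
  [7, 8, 3, 7, 2, 3, 1, 2, 0, 1, 11, 0, 10, 11],
  [6, 9, 5, 6, 4, 5, 3, 4, 2, 3, 1, 2, 0, 1, 11, 0, 10, 11],
  [],
  [10, 11]]

/-- the relators -/
def heRels : List (List ℕ) := [
  [0, 0],
  [1, 1],
  [2, 2],
  [3, 3],
  [4, 4],
  [5, 5],
  [6, 6],
  [0, 1, 0, 1, 0, 1, 0, 1],
  [0, 2, 0, 2],
  [0, 3, 0, 3],
  [0, 4, 0, 4],
  [0, 5, 0, 5],
  [0, 6, 0, 6],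
  [1, 2, 1, 2, 1, 2],
  [1, 3, 1, 3],
  [1, 4, 1, 4],
  [1, 5, 1, 5],
  [1, 6, 1, 6],
  [2, 3, 2, 3, 2, 3, 2, 3, 2, 3, 2, 3, 2, 3, 2, 3, 2, 3, 2, 3],
  [2, 4, 2, 4],
  [2, 5, 2, 5],
  [2, 6, 2, 6],
  [3, 4, 3, 4, 3, 4],
  [3, 5, 3, 5, 3, 5],
  [3, 6, 3, 6, 3, 6],
  [4, 5, 4, 5],
  [4, 6, 4, 6],
  [5, 6, 5, 6, 5, 6, 5, 6],
  [4, 6, 5, 6, 5],
  [4, 2, 1, 0, 2, 1, 0, 2, 1, 0],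
  [0, 3, 2, 3, 2, 3, 2, 3, 2, 3, 2],
  [2, 3, 5, 6, 2, 3, 5, 6, 2, 3, 5, 6, 2, 3, 5, 6]]

/-- the word of a relator -/
noncomputable def relW (r : List ℕ) : List ℕ := (r.map fun i => heW.getD i []).flatten

/-- the loop of a relator moved to a letter -/
noncomputable def heQ (r u : List ℕ) : List ℕ := u.reverse ++ ((relW r).reverse ++ u)

/-- all twelve loops of a relator -/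
noncomputable def relFixes (r : List ℕ) (ls : List LoopWit) : Bool :=
  (List.range 12).all fun j => loopOK (heQ r (heU.getD j [])) 0 [] (ls.getD j ⟨[], [], 0⟩)

end CfsgLib.Fi24Act
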