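import Cfsg.Agent.Lib.Fi24Act.Simple
import Cfsg.Agent.Lib.Fi24Act.DataHe
import Cfsg.Prelude.Def_SporadicB

/-!
The 306936 transpositions of the presented Fi24.
-/

set_option autoImplicit false

namespace CfsgLib.Fi24Act

open CfsgLib.CosetEnum Cfsg.Spor CfsgLib.Fi24Pres
open CfsgLib.Fi23Pres (certA setupA rho)

theorem ten_subH {x : Fi24} (hx : x ∈ subH) : Commute x (gen 10) := by
  induction hx using Subgroup.closure_induction with
  | mem y hy =>
    obtain ⟨g, hg, rfl⟩ := hy
    exact ten_comm hg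
  | one => exact Commute.one_left _
  | mul a b _ _ ha hb => exact ha.mul_left hb
  | inv a _ ha => exact ha.inv_left

/-- conjugation step along an edge -/
theorem conj_step {a b : ℕ} (ha : a < 12) (hb : b < 12) (hadj : adjB a b = true) {u : List ℕ}
    (hu : prodW gen u * gen 10 * (prodW gen u)⁻¹ = gen a) :
    prodW gen ([a, b] ++ u) * gen 10 * (prodW gen ([a, b] ++ u))⁻¹ = gen b := by
  have hbr := cox.braid a ha b hb hadj
  have hi : ∀ x, (gen x)⁻¹ = gen x := fun x => inv_eq_of_mul_eq_one_right (gen_sq x)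
  rw [prodW_append, prodW_cons, prodW_cons, prodW_nil, mul_one, mul_inv_rev, mul_inv_rev, hi, hi,
    show gen a * gen b * prodW gen u * gen 10 * ((prodW gen u)⁻¹ * (gen b * gen a)) =
      gen a * gen b * (prodW gen u * gen 10 * (prodW gen u)⁻¹) * (gen b * gen a) by
      simp only [mul_assoc], hu]
  calc gen a * gen b * gen a * (gen b * gen a) = gen b * (gen a * (gen b * gen b) * gen a) := by
        rw [hbr]; simp only [mul_assoc]
    _ = gen b := by rw [gen_sq, mul_one, gen_sq, mul_one]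

theorem heU_conj : ∀ j < 12,
    prodW gen (heU.getD j []) * gen 10 * (prodW gen (heU.getD j []))⁻¹ = gen j := by
  have h10 : prodW gen [] * gen 10 * (prodW gen [])⁻¹ = gen 10 := by simp
  have h11 := conj_step (b := 11) (by norm_num) (by norm_num) (by decide) h10
  have h0 := conj_step (b := 0) (by norm_num) (by norm_num) (by decide) h11
  have h1 := conj_step (b := 1) (by norm_num) (by norm_num) (by decide) h0
  have h2 := conj_step (b := 2) (by norm_num) (by norm_num) (by decide) h1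
  have h3 := conj_step (b := 3) (by norm_num) (by norm_num) (by decide) h2
  have h4 := conj_step (b := 4) (by norm_num) (by norm_num) (by decide) h3
  have h5 := conj_step (b := 5) (by norm_num) (by norm_num) (by decide) h4
  have h6 := conj_step (b := 6) (by norm_num) (by norm_num) (by decide) h5
  have h9 := conj_step (b := 9) (by norm_num) (by norm_num) (by decide) h6
  have h7 := conj_step (b := 7) (by norm_num) (by norm_num) (by decide) h3
  have h8 := conj_step (b := 8) (by norm_num) (by norm_num) (by decide) h7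
  intro j hj
  interval_cases j
  exacts [h0, h1, h2, h3, h4, h5, h6, h7, h8, h9, h10, h11]

/-- the transpositions -/
noncomputable def transClass : Set Fi24 := conjugatesOf (gen 10)

theorem gen_mem {j : ℕ} (hj : j < 12) : gen j ∈ transClass :=
  (isConj_iff.mpr ⟨_, heU_conj j hj⟩ : IsConj (gen 10) (gen j))

theorem conj_of_point {g h : Fi24} (e : actF g pt0 = actF h pt0) :
    g * gen 10 * g⁻¹ = h * gen 10 * h⁻¹ := by
  have hm : h⁻¹ * g ∈ subH := by
    rw [← stab_eq]
    show actF (h⁻¹ * g) pt0 = pt0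
    rw [map_mul, Equiv.Perm.mul_apply, e, ← Equiv.Perm.mul_apply, ← map_mul, inv_mul_cancel, map_one,
      Equiv.Perm.one_apply]
  have hc : gen 10 * (h⁻¹ * g) = h⁻¹ * g * gen 10 := ((ten_subH hm).eq).symm
  calc g * gen 10 * g⁻¹ = h * (h⁻¹ * g * gen 10) * g⁻¹ := by group
    _ = h * (gen 10 * (h⁻¹ * g)) * g⁻¹ := by rw [hc]
    _ = h * gen 10 * h⁻¹ := by group

theorem base_moves : actF (gen 11) pt0 = ptK 1 1 ∧
    actF (gen 11 * psiK (prodW genK [10, 0])⁻¹ * gen 11) pt0 = ptK 2 1 := by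
  have hk : ∀ i : Fin 9, actF (gen 11) (src i) = dst i := by
    intro i
    rw [actF_gen (by norm_num), genX_apply, stepX, if_neg (by norm_num), if_pos rfl]
    simpa using kFun_src i (one_mem subRight)
  obtain ⟨e0, e1, e2, e3, f0, f1, f2, f3⟩ := edge_vals
  have hW : ∀ s : ℕ, ptW s [] = ptK (kind s) 1 := fun s => by rw [ptW, prodW_nil]
  have h0 : actF (gen 11) pt0 = ptK 1 1 := by
    have := hk 0
    rw [src, dst, e0, e1, e2, e3, hW, hW] at this
    exact this
  refine ⟨h0, ?_⟩
  have h4 := hk 4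
  rw [src, dst, f0, f1, f2, f3, hW, show ptW 1 [10, 0] = actK (prodW genK [10, 0])⁻¹ (ptW 1 []) from
    ptW_shift 1 [] [10, 0], hW] at h4
  rw [map_mul, map_mul, Equiv.Perm.mul_apply, Equiv.Perm.mul_apply, h0, actF_psiK]
  exact h4

theorem base_conj : (gen 10 * (gen 11 * gen 10 * (gen 11)⁻¹)) ^ 3 = 1 ∧
    gen 11 * psiK (prodW genK [10, 0])⁻¹ * gen 11 * gen 10 *
      (gen 11 * psiK (prodW genK [10, 0])⁻¹ * gen 11)⁻¹ = gen 0 := by
  have hi : ∀ x, (gen x)⁻¹ = gen x := fun x => inv_eq_of_mul_eq_one_right (gen_sq x)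
  have cancel : ∀ (x : ℕ) (y : Fi24), gen x * (gen x * y) = y := fun x y => by
    rw [← mul_assoc, gen_sq, one_mul]
  have hb : gen 11 * gen 10 * gen 11 = gen 10 * gen 11 * gen 10 := cox.braid 11 (by norm_num) 10 (by norm_num) (by decide)
  have hb0 : gen 11 * gen 0 * gen 11 = gen 0 * gen 11 * gen 0 := cox.braid 11 (by norm_num) 0 (by norm_num) (by decide)
  refine ⟨?_, ?_⟩
  · rw [hi, hb]
    have h3 : (gen 11 * gen 10) ^ 3 = 1 := cube_one (gen_sq _) (gen_sq _) hb
    rw [show gen 10 * (gen 10 * gen 11 * gen 10) = gen 11 * gen 10 by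
      simp only [mul_assoc, cancel]]
    exact h3
  · rw [psiK.map_inv, psiK_word (by simp), prodW_cons, prodW_cons, prodW_nil, mul_one]
    simp only [mul_inv_rev, hi]
    calc gen 11 * (gen 0 * gen 10) * gen 11 * gen 10 * (gen 11 * (gen 10 * gen 0 * gen 11))
        = gen 11 * gen 0 * gen 10 * (gen 11 * gen 10 * gen 11) * (gen 10 * gen 0 * gen 11) := by
          simp only [mul_assoc]
      _ = gen 11 * (gen 0 * gen 11 * gen 0) * gen 11 := by
          rw [hb]; simp only [mul_assoc, cancel]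
      _ = gen 0 := by rw [← hb0]; simp only [mul_assoc, cancel, gen_sq, mul_one]

theorem pair_order (g : Fi24) :
    (gen 10 * (g * gen 10 * g⁻¹)) ^ 2 = 1 ∨ (gen 10 * (g * gen 10 * g⁻¹)) ^ 3 = 1 := by
  obtain ⟨s, x, hx⟩ := ptK_surj (actF g pt0)
  rw [pt_move] at hx
  set y := psiK x⁻¹
  have hy : y * gen 10 = gen 10 * y := (ten_subH (psiK_mem _)).eq
  have key : ∀ h : Fi24, actF h pt0 = ptK s 1 →
      g * gen 10 * g⁻¹ = y * (h * gen 10 * h⁻¹) * y⁻¹ := by
    intro h eh
    rw [conj_of_point (h := y * h) (by rw [map_mul, Equiv.Perm.mul_apply, eh, actF_psiK, hx])]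
    group
  have out : ∀ (h : Fi24) (n : ℕ), actF h pt0 = ptK s 1 → (gen 10 * (h * gen 10 * h⁻¹)) ^ n = 1 →
      (gen 10 * (g * gen 10 * g⁻¹)) ^ n = 1 := by
    intro h n eh e
    rw [key h eh, show gen 10 * (y * (h * gen 10 * h⁻¹) * y⁻¹) =
      y * (gen 10 * (h * gen 10 * h⁻¹)) * y⁻¹ by rw [← mul_assoc y (gen 10), hy]; group, conj_pow, e,
      mul_one, mul_inv_cancel]
  fin_cases s
  · exact Or.inl (out 1 2 (by rw [map_one]; rfl) (by simp [gen_sq]))
  · exact Or.inr (out _ 3 base_moves.1 base_conj.1)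
  · refine Or.inl (out _ 2 base_moves.2 ?_)
    rw [base_conj.2, pow_two, (ten_comm (show 0 < 11 by norm_num)).mul_mul_mul_comm, gen_sq, gen_sq, one_mul]

theorem ten_moves (x : K) : actF (gen 10) (ptK 1 x) ≠ ptK 1 x := by
  rw [← psiK_genK (show 10 < 11 by norm_num), actF_psiK, actK_ptK, Ne, ptK_eq]
  rw [genK_inv, show x * genK 10 * x⁻¹ = genK 10 by rw [← (ten_central x).eq, mul_inv_cancel_right]]
  rintro ⟨σ, h, e⟩
  rw [show (genK 10).1 = 1 from ten_fst] at h
  rw [h.unique Permutes.one] at e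
  revert e
  simp only [map_one]
  decide

theorem centralizer_ten : Subgroup.centralizer ({gen 10} : Set Fi24) = subH := by
  haveI := finite_card.1
  have hle : subH ≤ Subgroup.centralizer ({gen 10} : Set Fi24) :=
    fun g hg => Subgroup.mem_centralizer_singleton_iff.mpr (ten_subH hg).eq
  refine le_antisymm (fun g hg => ?_) hle
  rw [← stab_eq]
  set C := Subgroup.centralizer ({gen 10} : Set Fi24)
  have hkind : ∀ h ∈ C, (actF h pt0).1 ≠ (1 : Fin 3) := by
    intro h hh e
    obtain ⟨s, x, hx⟩ := ptK_surj (actF h pt0)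
    rw [← hx] at e
    obtain rfl : s = 1 := e
    refine ten_moves x ?_
    rw [hx, ← Equiv.Perm.mul_apply, ← map_mul, ← (Subgroup.mem_centralizer_singleton_iff.mp hh), map_mul,
      Equiv.Perm.mul_apply]
    refine congrArg _ ?_
    rw [← psiK_genK (show 10 < 11 by norm_num), actF_psiK, pt0, actK_ptK, ptK_eq]
    trivial
  by_contra hne
  have hne' : (actF g pt0).1 ≠ (0 : Fin 3) := by
    intro e
    refine hne ?_
    show actF g pt0 = pt0
    obtain ⟨s, x, hx⟩ := ptK_surj (actF g pt0)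
    rw [← hx] at e ⊢
    obtain rfl : s = 0 := e
    exact ptK_eq.mpr trivial
  have h2 : (actF g pt0).1 = (2 : Fin 3) := by have := hkind g hg; omega
  have hB : ∀ p : X, (∃ h ∈ C, actF h pt0 = p) ↔ p.1 = (0 : Fin 3) ∨ p.1 = (2 : Fin 3) := by
    intro p
    constructor
    · rintro ⟨h, hh, rfl⟩
      have := hkind h hh
      omega
    · rintro (h | h)
      · refine ⟨1, one_mem _, ?_⟩
        rw [map_one, Equiv.Perm.one_apply]
        obtain ⟨s, x, rfl⟩ := ptK_surj p
        obtain rfl : s = 0 := h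
        exact ((ptK_eq (s := 0)).mpr (by trivial)).symm
      · obtain ⟨y, hy⟩ := even_move p
        obtain ⟨z, hz⟩ := even_move (actF g pt0)
        rw [h] at hy
        rw [h2] at hz
        refine ⟨psiK ((y, 1) * (z, 1)⁻¹) * g, mul_mem (hle (psiK_mem _)) hg, ?_⟩
        rw [map_mul, Equiv.Perm.mul_apply, actF_psiK, map_mul, Equiv.Perm.mul_apply]
        conv_lhs => arg 2; arg 2; rw [← hz]
        rw [← Equiv.Perm.mul_apply (actK (z, 1)⁻¹), ← map_mul, inv_mul_cancel, map_one,
          Equiv.Perm.one_apply, hy]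
  let f : C ⧸ subH.subgroupOf C → {p : X | p.1 = (0 : Fin 3) ∨ p.1 = (2 : Fin 3)} := fun c =>
    ⟨actF c.out.1 pt0, (hB _).mp ⟨_, c.out.2, rfl⟩⟩
  have hf : Function.Bijective f := by
    constructor
    · intro a b e
      rw [← QuotientGroup.out_eq' a, ← QuotientGroup.out_eq' b, QuotientGroup.eq, Subgroup.mem_subgroupOf]
      refine le_of_eq stab_eq ?_
      show actF (a.out.1⁻¹ * b.out.1) pt0 = pt0
      have e' : actF a.out.1 pt0 = actF b.out.1 pt0 := congrArg Subtype.val e
      rw [map_mul, Equiv.Perm.mul_apply, ← e',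
        ← Equiv.Perm.mul_apply, ← map_mul, inv_mul_cancel, map_one, Equiv.Perm.one_apply]
    · rintro ⟨p, hp⟩
      obtain ⟨h, hh, rfl⟩ := (hB p).mpr hp
      refine ⟨QuotientGroup.mk ⟨h, hh⟩, Subtype.ext ?_⟩
      obtain ⟨u, eu⟩ := QuotientGroup.mk_out_eq_mul (subH.subgroupOf C) ⟨h, hh⟩
      show actF (QuotientGroup.mk ⟨h, hh⟩ : C ⧸ subH.subgroupOf C).out.1 pt0 = actF h pt0
      rw [eu, Subgroup.coe_mul, map_mul, Equiv.Perm.mul_apply]
      exact congrArg _ (subH_fix u.2)
  have hcard : (subH.subgroupOf C).index = 31672 := by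
    rw [Subgroup.index, Nat.card_eq_of_bijective f hf, Nat.card_coe_set_eq]
    rw [show {p : X | p.1 = (0 : Fin 3) ∨ p.1 = (2 : Fin 3)} =
      {p : X | p.1 = (0 : Fin 3)} ∪ {p : X | p.1 = (2 : Fin 3)} from rfl,
      Set.ncard_union_eq (Set.disjoint_left.mpr fun q h h' => absurd (h.symm.trans h') (by decide))
        (Set.toFinite _) (Set.toFinite _), kind_ncard, kind_ncard, kind_cards.2.2, kind_cards.2.1]
  have hd := Subgroup.relIndex_mul_index hle
  rw [Subgroup.relIndex, hcard, subH_index] at hd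
  omega

theorem transClass_card : Nat.card transClass = 306936 := by
  haveI := finite_card.1
  have h := MulAction.index_stabilizer (ConjAct Fi24) (gen 10)
  have e : MulAction.orbit (ConjAct Fi24) (gen 10) = transClass := by
    ext y
    rw [ConjAct.mem_orbit_conjAct, isConj_comm]
    rfl
  rw [e, ConjAct.stabilizer_eq_centralizer] at h
  rw [Nat.card_coe_set_eq, ← h]
  exact (congrArg Subgroup.index centralizer_ten).trans subH_index

theorem transClass_three : Cfsg.IsThreeTranspositionClass transClass := by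
  haveI : Fact (Nat.Prime 2) := ⟨Nat.prime_two⟩
  have hne : gen 10 ≠ 1 := fun h => ten_moves 1 (by rw [h, map_one]; rfl)
  refine ⟨⟨fun d hd => ?_, fun d hd e he => ?_⟩, ⟨gen 10, mem_conjugatesOf_self, rfl⟩, ?_⟩
  · obtain ⟨c, rfl⟩ := isConj_iff.mp (hd : IsConj (gen 10) d)
    rw [show c * gen 10 * c⁻¹ = MulAut.conj c (gen 10) from rfl, MulEquiv.orderOf_eq]
    exact orderOf_eq_prime (by rw [pow_two, gen_sq]) hne
  · obtain ⟨c, rfl⟩ := isConj_iff.mp (hd : IsConj (gen 10) d)
    obtain ⟨c', rfl⟩ := isConj_iff.mp (he : IsConj (gen 10) e)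
    have h := pair_order (c⁻¹ * c')
    have e : c * gen 10 * c⁻¹ * (c' * gen 10 * c'⁻¹) =
        c * (gen 10 * (c⁻¹ * c' * gen 10 * (c⁻¹ * c')⁻¹)) * c⁻¹ := by group
    rw [e, conj_pow, conj_pow]
    rcases h with h | h
    · left; rw [h, mul_one, mul_inv_cancel]
    · right; rw [h, mul_one, mul_inv_cancel]
  · refine eq_top_iff.mpr ?_
    rw [← gen_top]
    exact Subgroup.closure_mono fun y ⟨g, hg, e⟩ => e ▸ gen_mem hg

theorem centralizer_trans {d : Fi24} (hd : d ∈ transClass) :
    Nat.card (Subgroup.centralizer ({d} : Set Fi24)) = 2 * 4089470473293004800 ∧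
      ∃ K : Subgroup Fi24, K ≤ Subgroup.centralizer ({d} : Set Fi24) ∧ Cfsg.IsFi23 K := by
  obtain ⟨c, rfl⟩ := isConj_iff.mp (hd : IsConj (gen 10) d)
  have e : Subgroup.centralizer ({c * gen 10 * c⁻¹} : Set Fi24) = subH.map (MulAut.conj c).toMonoidHom := by
    ext g
    rw [← centralizer_ten, Subgroup.mem_map_equiv, Subgroup.mem_centralizer_singleton_iff,
      Subgroup.mem_centralizer_singleton_iff, MulAut.conj_symm_apply]
    constructor <;> intro h
    · calc c⁻¹ * g * c * gen 10 = c⁻¹ * (g * (c * gen 10 * c⁻¹)) * c := by group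
        _ = c⁻¹ * (c * gen 10 * c⁻¹ * g) * c := by rw [h]
        _ = gen 10 * (c⁻¹ * g * c) := by group
    · calc g * (c * gen 10 * c⁻¹) = c * (c⁻¹ * g * c * gen 10) * c⁻¹ := by group
        _ = c * (gen 10 * (c⁻¹ * g * c)) * c⁻¹ := by rw [h]
        _ = c * gen 10 * c⁻¹ * g := by group
  rw [e]
  refine ⟨?_, ?_⟩
  · rw [← Nat.card_congr (subH.equivMapOfInjective _ (MulAut.conj c).injective).toEquiv, card_subH]
  · let φ : Fi23 →* Fi24 := (MulAut.conj c).toMonoidHom.comp
      (psiK.comp (MonoidHom.inl Fi23 (Multiplicative (ZMod 2))))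
    have hφ : Function.Injective φ := fun a b h =>
      congrArg Prod.fst (psiK_injective ((MulAut.conj c).injective h))
    let q := MonoidHom.ofInjective hφ
    haveI : IsSimpleGroup Fi23 := Fi23Pres.isFi23.1
    refine ⟨φ.range, ?_, MulEquiv.isSimpleGroup q.symm, (Nat.card_congr q.toEquiv).symm.trans Fi23Pres.isFi23.2⟩
    rintro y ⟨a, rfl⟩
    exact Subgroup.mem_map_of_mem _ (psiK_mem _)

theorem fi24'_has_fi23 : ∃ K : Subgroup Fi24', Cfsg.IsFi23 K := by
  haveI : IsSimpleGroup Fi23 := Fi23Pres.isFi23.1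
  let φ : Fi23 →* Fi24' := (MulEquiv.subgroupCongr commutator_eq.symm).toMonoidHom.comp evenH
  have hφ : Function.Injective φ := fun a b h => evenH_injective ((MulEquiv.subgroupCongr commutator_eq.symm).injective h)
  let q := MonoidHom.ofInjective hφ
  exact ⟨φ.range, MulEquiv.isSimpleGroup q.symm, (Nat.card_congr q.toEquiv).symm.trans Fi23Pres.isFi23.2⟩

end CfsgLib.Fi24Act
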