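import Cfsg.Agent.Lib.Fi24Act.SymDefs

/-!
Kernel checks of the candidates for the images of base points.
-/

set_option autoImplicit false

namespace CfsgLib.Fi24Act

theorem sym0_ok : symOK 0 = true := by decide +kernel

theorem sym1_ok : symOK 1 = true := by decide +kernel

theorem sym2_ok : symOK 2 = true := by decide +kernel

theorem sym3_ok : symOK 3 = true := by decide +kernel

theorem sym4_ok : symOK 4 = true := by decide +kernel

theorem sym5_ok : symOK 5 = true := by decide +kernel

theorem sym6_ok : symOK 6 = true := by decide +kernel

theorem sym7_ok : symOK 7 = true := by decide +kernel

theorem sym8_ok : symOK 8 = true := by decide +kernel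

theorem sym9_ok : symOK 9 = true := by decide +kernel

theorem sym10_ok : symOK 10 = true := by decide +kernel

theorem sym11_ok : symOK 11 = true := by decide +kernel

theorem sym12_ok : symOK 12 = true := by decide +kernel

theorem sym13_ok : symOK 13 = true := by decide +kernel

theorem sym14_ok : symOK 14 = true := by decide +kernel

theorem sym15_ok : symOK 15 = true := by decide +kernel

theorem sym16_ok : symOK 16 = true := by decide +kernel

theorem sym17_ok : symOK 17 = true := by decide +kernel

theorem sym18_ok : symOK 18 = true := by decide +kernel

theorem sym19_ok : symOK 19 = true := by decide +kernel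

theorem sym20_ok : symOK 20 = true := by decide +kernel

theorem sym21_ok : symOK 21 = true := by decide +kernel

theorem sym22_ok : symOK 22 = true := by decide +kernel

theorem sym23_ok : symOK 23 = true := by decide +kernel

theorem sym24_ok : symOK 24 = true := by decide +kernel

end CfsgLib.Fi24Act
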