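import Cfsg.Agent.Lib.Fi24Act.SymDefs

/-!
Kernel checks of sizes and of the action of letters on the classes.
-/

set_option autoImplicit false

namespace CfsgLib.Fi24Act

theorem comm_table : CosetEnum.Cert.allPts Fi23Pres.certA.N commAt = true := by decide +kernel

theorem class_reps : ((List.range 3).all classRepOK) = true := by decide +kernel

theorem letter1_ok : classOK [1] [0, 2, 1, 3] = true := by decide +kernel

theorem letter2_ok : classOK [2] [0, 2, 1, 3] = true := by decide +kernel

theorem letter3_ok : classOK [3] [0, 2, 1, 3] = true := by decide +kernel

theorem letter4_ok : classOK [4] [0, 2, 1, 3] = true := by decide +kernel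

theorem letter5_ok : classOK [5] [0, 2, 1, 3] = true := by decide +kernel

theorem letter6_ok : classOK [6] [0, 2, 1, 3] = true := by decide +kernel

theorem letter7_ok : classOK [7] [0, 2, 1, 3] = true := by decide +kernel

theorem letter8_ok : classOK [8] [0, 2, 1, 3] = true := by decide +kernel

theorem letter9_ok : classOK [9] [0, 2, 1, 3] = true := by decide +kernel

end CfsgLib.Fi24Act
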