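import Cfsg.Agent.Lib.Fi24Act.SymDefs

/-!
Kernel checks of the sizes of the tables, one table at a time to keep the memory of each check small.
-/

set_option autoImplicit false

namespace CfsgLib.Fi24Act

theorem nbrCnt0_ok : nbrCntOK 0 = true := by decide +kernel

theorem nbrCnt1_ok : nbrCntOK 1 = true := by decide +kernel

theorem nbrCnt2_ok : nbrCntOK 2 = true := by decide +kernel

theorem nbrCnt3_ok : nbrCntOK 3 = true := by decide +kernel

theorem nbrCnt4_ok : nbrCntOK 4 = true := by decide +kernel

theorem nbrCnt5_ok : nbrCntOK 5 = true := by decide +kernel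

theorem nbrCnt6_ok : nbrCntOK 6 = true := by decide +kernel

theorem nbrCnt7_ok : nbrCntOK 7 = true := by decide +kernel

theorem nbrCnt8_ok : nbrCntOK 8 = true := by decide +kernel

theorem nbrCnt9_ok : nbrCntOK 9 = true := by decide +kernel

theorem nbrCnt10_ok : nbrCntOK 10 = true := by decide +kernel

theorem nbrCnt11_ok : nbrCntOK 11 = true := by decide +kernel

theorem nbrCnt12_ok : nbrCntOK 12 = true := by decide +kernel

theorem nbrCnt13_ok : nbrCntOK 13 = true := by decide +kernel

theorem nbrCnt14_ok : nbrCntOK 14 = true := by decide +kernel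

theorem nbrCnt15_ok : nbrCntOK 15 = true := by decide +kernel

theorem nbrCnt16_ok : nbrCntOK 16 = true := by decide +kernel

theorem nbrCnt17_ok : nbrCntOK 17 = true := by decide +kernel

theorem nbrCnt18_ok : nbrCntOK 18 = true := by decide +kernel

theorem nbrCnt19_ok : nbrCntOK 19 = true := by decide +kernel

theorem nbrCnt20_ok : nbrCntOK 20 = true := by decide +kernel

theorem nbrCnt21_ok : nbrCntOK 21 = true := by decide +kernel

theorem nbrCnt22_ok : nbrCntOK 22 = true := by decide +kernel

theorem nbrCnt23_ok : nbrCntOK 23 = true := by decide +kernel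

theorem candCnt0_ok : cntOK 0 = true := by decide +kernel

theorem candCnt1_ok : cntOK 1 = true := by decide +kernel

theorem candCnt2_ok : cntOK 2 = true := by decide +kernel

theorem candCnt3_ok : cntOK 3 = true := by decide +kernel

theorem candCnt4_ok : cntOK 4 = true := by decide +kernel

theorem candCnt5_ok : cntOK 5 = true := by decide +kernel

theorem candCnt6_ok : cntOK 6 = true := by decide +kernel

theorem candCnt7_ok : cntOK 7 = true := by decide +kernel

theorem candCnt8_ok : cntOK 8 = true := by decide +kernel

theorem candCnt9_ok : cntOK 9 = true := by decide +kernel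

theorem candCnt10_ok : cntOK 10 = true := by decide +kernel

theorem candCnt11_ok : cntOK 11 = true := by decide +kernel

theorem candCnt12_ok : cntOK 12 = true := by decide +kernel

theorem candCnt13_ok : cntOK 13 = true := by decide +kernel

theorem candCnt14_ok : cntOK 14 = true := by decide +kernel

theorem candCnt15_ok : cntOK 15 = true := by decide +kernel

theorem candCnt16_ok : cntOK 16 = true := by decide +kernel

theorem candCnt17_ok : cntOK 17 = true := by decide +kernel

theorem candCnt18_ok : cntOK 18 = true := by decide +kernel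

theorem candCnt19_ok : cntOK 19 = true := by decide +kernel

theorem candCnt20_ok : cntOK 20 = true := by decide +kernel

theorem candCnt21_ok : cntOK 21 = true := by decide +kernel

theorem candCnt22_ok : cntOK 22 = true := by decide +kernel

theorem candCnt23_ok : cntOK 23 = true := by decide +kernel

theorem candCnt24_ok : cntOK 24 = true := by decide +kernel

theorem nbr_counts : ((List.range 24).all nbrCntOK) = true := by
  refine List.all_eq_true.2 fun i hi => ?_
  rw [List.mem_range] at hi
  interval_cases i
  exacts [nbrCnt0_ok, nbrCnt1_ok, nbrCnt2_ok, nbrCnt3_ok, nbrCnt4_ok, nbrCnt5_ok, nbrCnt6_ok,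
    nbrCnt7_ok, nbrCnt8_ok, nbrCnt9_ok, nbrCnt10_ok, nbrCnt11_ok, nbrCnt12_ok, nbrCnt13_ok,
    nbrCnt14_ok, nbrCnt15_ok, nbrCnt16_ok, nbrCnt17_ok, nbrCnt18_ok, nbrCnt19_ok, nbrCnt20_ok,
    nbrCnt21_ok, nbrCnt22_ok, nbrCnt23_ok]

theorem cand_counts : ((List.range 25).all cntOK) = true := by
  refine List.all_eq_true.2 fun i hi => ?_
  rw [List.mem_range] at hi
  interval_cases i
  exacts [candCnt0_ok, candCnt1_ok, candCnt2_ok, candCnt3_ok, candCnt4_ok, candCnt5_ok,
    candCnt6_ok, candCnt7_ok, candCnt8_ok, candCnt9_ok, candCnt10_ok, candCnt11_ok, candCnt12_ok,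
    candCnt13_ok, candCnt14_ok, candCnt15_ok, candCnt16_ok, candCnt17_ok, candCnt18_ok,
    candCnt19_ok, candCnt20_ok, candCnt21_ok, candCnt22_ok, candCnt23_ok, candCnt24_ok]

end CfsgLib.Fi24Act
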