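import Cfsg.Agent.Lib.Fi24Act.SymDefs

/-!
Kernel checks of tables of neighbours of base points, part 0.
-/

set_option autoImplicit false

namespace CfsgLib.Fi24Act

theorem nbr0_ok : nbrOK 0 = true := by decide +kernel

theorem nbr1_ok : nbrOK 1 = true := by decide +kernel

theorem nbr2_ok : nbrOK 2 = true := by decide +kernel

theorem nbr3_ok : nbrOK 3 = true := by decide +kernel

end CfsgLib.Fi24Act
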