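import Cfsg.Agent.Lib.Fi24Act.SymDefs

/-!
Kernel checks of tables of neighbours of base points, part 2.
-/

set_option autoImplicit false

namespace CfsgLib.Fi24Act

theorem nbr8_ok : nbrOK 8 = true := by decide +kernel

theorem nbr9_ok : nbrOK 9 = true := by decide +kernel

theorem nbr10_ok : nbrOK 10 = true := by decide +kernel

theorem nbr11_ok : nbrOK 11 = true := by decide +kernel

end CfsgLib.Fi24Act
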