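import Cfsg.Agent.Lib.Fi24Act.SymDefs

/-!
Kernel checks of tables of neighbours of base points, part 3.
-/

set_option autoImplicit false

namespace CfsgLib.Fi24Act

theorem nbr12_ok : nbrOK 12 = true := by decide +kernel

theorem nbr13_ok : nbrOK 13 = true := by decide +kernel

theorem nbr14_ok : nbrOK 14 = true := by decide +kernel

theorem nbr15_ok : nbrOK 15 = true := by decide +kernel

end CfsgLib.Fi24Act
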