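import Cfsg.Agent.Lib.Fi24Act.SymDefs

/-!
Kernel checks of tables of neighbours of base points, part 4.
-/

set_option autoImplicit false

namespace CfsgLib.Fi24Act

theorem nbr16_ok : nbrOK 16 = true := by decide +kernel

theorem nbr17_ok : nbrOK 17 = true := by decide +kernel

theorem nbr18_ok : nbrOK 18 = true := by decide +kernel

theorem nbr19_ok : nbrOK 19 = true := by decide +kernel

end CfsgLib.Fi24Act
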