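import Cfsg.Agent.Lib.Fi24Act.SymDefs
import Cfsg.Agent.Lib.Fi24Pres.DataWalks
import Cfsg.Agent.Lib.CosetEnum.OutSplit

/-!
Kernel check of the action of the third stabiliser element on the classes.
-/

set_option autoImplicit false

namespace CfsgLib.Fi24Act

open CfsgLib.CosetEnum

/-- the letters below ten of a word -/
noncomputable def below (w : List ℕ) : List ℕ := w.filter fun g => Nat.blt g 10

/-- a point of a class goes to the class told -/
noncomputable def intoAt (w : List ℕ) (σ : List ℕ) (z : ℕ) : Bool :=
  strict z fun z => strict (clsOf z) fun c => pick (Nat.blt c 3)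
    (Nat.beq (clsOf (Fi23Pres.certA.run z w.reverse)) (nth σ c 3)) true

theorem tau_into_block0 : Cert.blockPts Fi23Pres.certA.N (intoAt (below Fi24Pres.tauW) [1, 0, 2]) 12 0 = true := by
  decide +kernel

theorem tau_into_block1 : Cert.blockPts Fi23Pres.certA.N (intoAt (below Fi24Pres.tauW) [1, 0, 2]) 12 1 = true := by
  decide +kernel

theorem tau_into_block2 : Cert.blockPts Fi23Pres.certA.N (intoAt (below Fi24Pres.tauW) [1, 0, 2]) 12 2 = true := by
  decide +kernel

theorem tau_into_block3 : Cert.blockPts Fi23Pres.certA.N (intoAt (below Fi24Pres.tauW) [1, 0, 2]) 12 3 = true := by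
  decide +kernel

theorem tau_into_block4 : Cert.blockPts Fi23Pres.certA.N (intoAt (below Fi24Pres.tauW) [1, 0, 2]) 12 4 = true := by
  decide +kernel

theorem tau_into_block5 : Cert.blockPts Fi23Pres.certA.N (intoAt (below Fi24Pres.tauW) [1, 0, 2]) 12 5 = true := by
  decide +kernel

theorem tau_into_block6 : Cert.blockPts Fi23Pres.certA.N (intoAt (below Fi24Pres.tauW) [1, 0, 2]) 12 6 = true := by
  decide +kernel

theorem tau_into_block7 : Cert.blockPts Fi23Pres.certA.N (intoAt (below Fi24Pres.tauW) [1, 0, 2]) 12 7 = true := by
  decide +kernel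

theorem tau_into : Cert.allPts Fi23Pres.certA.N (intoAt (below Fi24Pres.tauW) [1, 0, 2]) = true :=
  Cert.allPts_of_blockPts (k := 12) (b := 8) (by decide +kernel) (by decide +kernel) fun j hj => by
    match j, hj with
    | 0, _ => exact tau_into_block0
    | 1, _ => exact tau_into_block1
    | 2, _ => exact tau_into_block2
    | 3, _ => exact tau_into_block3
    | 4, _ => exact tau_into_block4
    | 5, _ => exact tau_into_block5
    | 6, _ => exact tau_into_block6
    | 7, _ => exact tau_into_block7
    | m + 8, h => omega

theorem class_sizes : ((List.range 3).all fun j =>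
    Nat.beq (cntN fun z => Nat.beq (clsOf z) j) 1080) = true := by decide +kernel

end CfsgLib.Fi24Act
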