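import Cfsg.Agent.Lib.Fi23Cent.Env
import Cfsg.Agent.Lib.Fi24Pres.Index
import Cfsg.Agent.Lib.Fi24Act.ChkClass
import Cfsg.Agent.Lib.Fi24Act.ChkCount
import Cfsg.Agent.Lib.Fi24Act.ChkCand
import Cfsg.Agent.Lib.Fi24Act.ChkTau
import Cfsg.Agent.Lib.Fi24Act.ChkNbr0
import Cfsg.Agent.Lib.Fi24Act.ChkNbr1
import Cfsg.Agent.Lib.Fi24Act.ChkNbr2
import Cfsg.Agent.Lib.Fi24Act.ChkNbr3
import Cfsg.Agent.Lib.Fi24Act.ChkNbr4
import Cfsg.Agent.Lib.Fi24Act.ChkNbr5

/-!
The elements of `Fi23 × 2` permuting three classes of 1080 points, with the matching parity, form a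
subgroup of index at least 275264.
-/

set_option autoImplicit false

namespace CfsgLib.Fi24Act

open CfsgLib.CosetEnum Cfsg.Spor CfsgLib.Fi24Pres
open CfsgLib.Fi23Pres (certA setupA rho repWords graph commMask central card_faithful)

/-- the 31671 points -/
abbrev Pts : Type := Fin certA.N

theorem certA_N : certA.N = 31671 := rfl

theorem PTab.get_lt (t : PTab) : ∀ w i, t.get w i < 2 ^ w := by
  induction t with
  | leaf p => exact fun w i => Nat.mod_lt _ (Nat.two_pow_pos w)
  | node l r ihl ihr =>
    intro w i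
    show Nat.rec (l.get w) (fun _ _ => r.get w) (i % 2) (i / 2) < 2 ^ w
    rcases Nat.mod_two_eq_zero_or_one i with h | h <;> rw [h]
    · exact ihl w _
    · exact ihr w _

theorem clsOf_lt (z : ℕ) : clsOf z < 4 := by
  rw [clsOf, PTab.at', strict_eq]
  exact PTab.get_lt classTab 2 z

theorem cntUp_eq (f : ℕ → Bool) (n : ℕ) : ∀ k b, cntUp f n k b =
    ((Finset.Ico b (b + 2 ^ k)).filter fun x => x < n ∧ f x = true).card
  | 0, b => by
    show strict b (fun b => pick (ltB b n) (pick (f b) 1 0) 0) = _
    rw [strict_eq, show b + 2 ^ 0 = b + 1 by simp, Nat.Ico_succ_singleton, Finset.filter_singleton]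
    by_cases hb : b < n
    · rw [show ltB b n = true from ltB_iff.mpr hb, pick_true]
      cases hf : f b <;> simp [hb]
    · rw [show ltB b n = false from Bool.eq_false_iff.mpr fun e => hb (ltB_iff.mp e), pick_false]
      simp [hb]
  | k + 1, b => by
    have e : cntUp f n (k + 1) b = cntUp f n k b + cntUp f n k (b + 2 ^ k) := by
      unfold cntUp
      simp only [strict_eq]
      rfl
    rw [e, cntUp_eq f n k b, cntUp_eq f n k (b + 2 ^ k), ← Finset.card_union_of_disjoint,
      ← Finset.filter_union, Finset.Ico_union_Ico_eq_Ico (Nat.le_add_right _ _) (Nat.le_add_right _ _),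
      show b + 2 ^ k + 2 ^ k = b + 2 ^ (k + 1) by rw [pow_succ]; ring]
    exact Finset.disjoint_filter_filter (Finset.Ico_disjoint_Ico_consecutive _ _ _)

theorem cntN_eq (f : ℕ → Bool) :
    cntN f = (Finset.univ.filter fun z : Pts => f z = true).card := by
  unfold cntN
  rewrite [cntUp_eq f certA.N, ← Finset.card_map Fin.valEmbedding]
  refine congrArg Finset.card ?_
  ext x
  simp only [Finset.mem_filter, Finset.mem_Ico, Finset.mem_map, Finset.mem_univ, true_and,
    Fin.valEmbedding_apply]
  constructor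
  · rintro ⟨-, hx, hf⟩; exact ⟨⟨x, hx⟩, hf, rfl⟩
  · rintro ⟨z, hf, rfl⟩
    have := z.2
    have e : certA.N = 31671 := rfl
    exact ⟨⟨Nat.zero_le _, by omega⟩, z.2, hf⟩

theorem run_rev {w : List ℕ} (hw : ∀ g ∈ w, g < 10) (z : Pts) :
    (rho (prodW Fi23Pres.gen w) z : ℕ) = certA.run z w.reverse := by
  rw [setupA.rho_prodW hw, revInv_eq_reverse hw]

/-- a permutation of the three classes, extended -/
def extP (σ : Equiv.Perm (Fin 3)) (j : ℕ) : ℕ := if h : j < 3 then (σ ⟨j, h⟩ : ℕ) else j

theorem extP_mul (σ τ : Equiv.Perm (Fin 3)) (j : ℕ) : extP (σ * τ) j = extP σ (extP τ j) := by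
  unfold extP
  by_cases h : j < 3
  · simp [h]
  · simp [h]

theorem extP_one (j : ℕ) : extP 1 j = j := by unfold extP; split <;> simp

/-- an element permutes the classes -/
def Permutes (y : Fi23) (σ : Equiv.Perm (Fin 3)) : Prop :=
  ∀ z : Pts, clsOf (rho y z : ℕ) = extP σ (clsOf z)

theorem Permutes.one : Permutes 1 1 := fun z => by simp [extP_one]

theorem Permutes.mul {y y' : Fi23} {σ σ' : Equiv.Perm (Fin 3)} (h : Permutes y σ)
    (h' : Permutes y' σ') : Permutes (y * y') (σ * σ') := fun z => by
  rw [map_mul, Equiv.Perm.mul_apply, h, h', extP_mul]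

theorem Permutes.inv {y : Fi23} {σ : Equiv.Perm (Fin 3)} (h : Permutes y σ) :
    Permutes y⁻¹ σ⁻¹ := fun z => by
  have e := h (rho y⁻¹ z)
  rw [← Equiv.Perm.mul_apply, ← map_mul, mul_inv_cancel, map_one, Equiv.Perm.one_apply] at e
  rw [e, ← extP_mul, inv_mul_cancel, extP_one]

/-- a point in each class -/
noncomputable def repPt (j : Fin 3) : Pts := ⟨nth classRep j 0, by
  have h := class_reps
  simp only [List.all_eq_true, List.mem_range, classRepOK, Bool.and_eq_true, Nat.blt_eq] at h
  exact (h j j.2).1⟩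

theorem repPt_cls (j : Fin 3) : clsOf (repPt j : ℕ) = j := by
  have h := class_reps
  simp only [List.all_eq_true, List.mem_range, classRepOK, Bool.and_eq_true] at h
  exact Nat.eq_of_beq_eq_true (h j j.2).2

theorem Permutes.unique {y : Fi23} {σ σ' : Equiv.Perm (Fin 3)} (h : Permutes y σ)
    (h' : Permutes y σ') : σ = σ' := Equiv.ext fun j => Fin.ext <| by
  have e := (h (repPt j)).symm.trans (h' (repPt j))
  rw [repPt_cls] at e
  simpa [extP] using e

/-- parity as a sign -/
def signZ : Multiplicative (ZMod 2) →* ℤˣ where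
  toFun e := (-1) ^ (Multiplicative.toAdd e).val
  map_one' := rfl
  map_mul' := by decide

theorem signZ_inj : Function.Injective signZ := by decide

/-- The elements permuting the classes with the matching parity. -/
noncomputable def subS1 : Subgroup K where
  carrier := {x | ∃ σ, Permutes x.1 σ ∧ signZ x.2 = Equiv.Perm.sign σ}
  one_mem' := ⟨1, Permutes.one, by simp⟩
  mul_mem' := by
    rintro x y ⟨σ, h, e⟩ ⟨σ', h', e'⟩
    exact ⟨σ * σ', h.mul h', by rw [Prod.snd_mul, map_mul, e, e', map_mul]⟩
  inv_mem' := by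
    rintro x ⟨σ, h, e⟩
    exact ⟨σ⁻¹, h.inv, by rw [Prod.snd_inv, map_inv, e, map_inv]⟩

/-! ### The tables of neighbours -/

theorem nbr_all : ∀ i < 24, nbrOK i = true := by
  intro i hi
  interval_cases i
  exacts [nbr0_ok, nbr1_ok, nbr2_ok, nbr3_ok, nbr4_ok, nbr5_ok, nbr6_ok, nbr7_ok, nbr8_ok, nbr9_ok,
    nbr10_ok, nbr11_ok, nbr12_ok, nbr13_ok, nbr14_ok, nbr15_ok, nbr16_ok, nbr17_ok, nbr18_ok,
    nbr19_ok, nbr20_ok, nbr21_ok, nbr22_ok, nbr23_ok]

theorem sym_all : ∀ i < 25, symOK i = true := by
  intro i hi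
  interval_cases i
  exacts [sym0_ok, sym1_ok, sym2_ok, sym3_ok, sym4_ok, sym5_ok, sym6_ok, sym7_ok, sym8_ok, sym9_ok,
    sym10_ok, sym11_ok, sym12_ok, sym13_ok, sym14_ok, sym15_ok, sym16_ok, sym17_ok, sym18_ok,
    sym19_ok, sym20_ok, sym21_ok, sym22_ok, sym23_ok, sym24_ok]

/-- the base points -/
noncomputable def basePt (i : ℕ) : Pts :=
  if h : symPt i < certA.N then ⟨symPt i, h⟩ else setupA.base

theorem basePt_val {i : ℕ} (hi : i < 25) : (basePt i : ℕ) = symPt i := by
  have h := sym_all i hi
  simp only [symOK, Bool.and_eq_true, Nat.blt_eq] at h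
  rw [basePt, dif_pos h.1.1.1]

theorem comm_spec (z : Pts) : tabB commTab z = commMask.testBit z := by
  have h := Cert.allPts_spec comm_table z z.2
  simp only [commAt, strict_eq, beq_iff_eq] at h
  exact h.symm

theorem nbr_spec {i : ℕ} (hi : i < 24) (z : Pts) :
    tabB (nbrOf i) z = certA.relB commMask (basePt i) z := by
  classical
  have h := nbr_all i hi
  simp only [nbrOK, Bool.and_eq_true, beq_iff_eq] at h
  obtain ⟨hw, hf⟩ := h
  set q := basePt i with hq
  have hqv : (q : ℕ) = symPt i := basePt_val (by omega)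
  obtain ⟨hlt, hrep⟩ := setupA.coreRep_eq repWords q
  have hlt10 : ∀ g ∈ certA.repWord q, g < 10 := hlt
  have hwq : certA.repWord q = repLit i := by rw [hqv, hw]
  set φ : Equiv.Perm Pts := rho (coreRep certA Fi23Pres.gen q) with hφ
  let S : Finset Pts := Finset.univ.filter fun z => certA.relB commMask q z = true
  let T : Finset Pts := Finset.univ.filter fun z => tabB (nbrOf i) z = true
  let W : Finset Pts := Finset.univ.filter fun z => tabB commTab z = true
  have hSW : S.map φ.toEmbedding = W := by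
    ext u
    obtain ⟨z, rfl⟩ := φ.surjective u
    have e : certA.relB commMask q z = tabB commTab (φ z : ℕ) := by
      rw [comm_spec, hφ, setupA.seenFrom_eq repWords]
      rfl
    simp [S, W, e]
  have hST : S ⊆ T := by
    intro z hz
    have hmem : φ z ∈ W := hSW ▸ Finset.mem_map_of_mem φ.toEmbedding hz
    have hw' : tabB commTab (φ z : ℕ) = true := by simpa [W] using hmem
    have h1 := Cert.allPts_spec hf (φ z) (φ z).2
    simp only [nbrFwd, strict_eq, hw', Bool.not_true, Bool.false_or] at h1
    have e : certA.run (φ z) (repLit i) = (z : ℕ) := by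
      have hrev : ∀ g ∈ (certA.repWord q).reverse, g < 10 := fun g hg =>
        hlt10 g (List.mem_reverse.mp hg)
      have e1 := run_rev hrev (φ z)
      rw [List.reverse_reverse, hwq] at e1
      rw [← e1, ← hwq, ← revInv_eq_reverse hlt10, setupA.model.revInv_eq, ← hrep, hφ,
        ← Equiv.Perm.mul_apply, ← map_mul, inv_mul_cancel, map_one, Equiv.Perm.one_apply]
    rw [e] at h1
    simpa [T] using h1
  have hcard : T.card = S.card := by
    have hc := nbr_counts
    simp only [List.all_eq_true, List.mem_range, nbrCntOK] at hc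
    have h2 := Nat.eq_of_beq_eq_true (hc i hi)
    rw [cntN_eq, cntN_eq] at h2
    calc T.card = W.card := h2
      _ = S.card := by rw [← hSW, Finset.card_map]
  have heq : S = T := Finset.eq_of_subset_of_card_le hST hcard.le
  have := congrArg (fun U : Finset Pts => decide (z ∈ U)) heq
  simpa [S, T] using this.symm

/-! ### The bound -/

/-- the elements keeping every class and fixing the first base points -/
noncomputable def fixTo : ℕ → Subgroup Fi23
  | 0 =>
    { carrier := {y | Permutes y 1}
      one_mem' := Permutes.one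
      mul_mem' := fun h h' => by simpa using h.mul h'
      inv_mem' := fun h => by simpa using h.inv }
  | i + 1 => fixTo i ⊓
      (MulAction.stabilizer (Equiv.Perm Pts) (basePt i)).comap rho

theorem fixTo_spec : ∀ {i : ℕ} {y : Fi23}, y ∈ fixTo i →
    Permutes y 1 ∧ ∀ j < i, rho y (basePt j) = basePt j
  | 0, y, h => ⟨h, fun j hj => absurd hj (by omega)⟩
  | i + 1, y, ⟨h1, h2⟩ => by
    obtain ⟨a, b⟩ := fixTo_spec h1
    refine ⟨a, fun j hj => ?_⟩
    rcases Nat.lt_succ_iff_lt_or_eq.mp hj with h | rfl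
    · exact b j h
    · exact h2

theorem orbit_cand {i : ℕ} (hi : i < 25) {y : Fi23} (hy : y ∈ fixTo i) :
    candB i (rho y (basePt i) : ℕ) = true := by
  obtain ⟨hP, hfix⟩ := fixTo_spec hy
  have h := sym_all i hi
  simp only [symOK, Bool.and_eq_true, List.all_eq_true, List.mem_range] at h
  obtain ⟨⟨⟨-, hcls⟩, hne⟩, hscan⟩ := h
  have h1 := Cert.allPts_spec hscan (rho y (basePt i)) (Fin.isLt _)
  simp only [candAt, strict_eq] at h1
  have hc : clsOf (rho y (basePt i) : ℕ) = (symLevels.getD i (0, 0, 0)).2.1 := by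
    rw [hP, extP_one, basePt_val hi, Nat.eq_of_beq_eq_true hcls]
  rw [hc, Nat.beq_refl, pick_true, Bool.or_eq_true] at h1
  refine h1.resolve_right fun hd => ?_
  suffices key : ∀ j ≤ i, Nat.rec (motive := fun _ => Bool) false (fun j ih =>
      pick (Nat.beq (rho y (basePt i) : ℕ) (symPt j)) true
        (pick (tabB (nbrOf j) (rho y (basePt i) : ℕ) == tabB (nbrOf j) (symPt i)) ih true)) j = false by
    have := key i le_rfl
    rw [symDiff'] at hd
    rw [hd] at this
    exact Bool.noConfusion this
  intro j hj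
  induction j with
  | zero => rfl
  | succ j ih =>
    show pick (Nat.beq _ (symPt j)) true (pick _ _ true) = false
    have hne1 : Nat.beq (rho y (basePt i) : ℕ) (symPt j) = false := by
      rw [Bool.eq_false_iff]
      intro e
      have e1 : rho y (basePt i) = basePt j := Fin.ext (by
        rw [basePt_val (by omega)]; exact Nat.eq_of_beq_eq_true e)
      have e2 := (rho y).injective (e1.trans (hfix j (by omega)).symm)
      have h2 := hne j (by omega)
      rw [← basePt_val hi, ← basePt_val (show j < 25 by omega), e2, Nat.beq_refl] at h2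
      exact Bool.noConfusion h2
    have hrel : tabB (nbrOf j) (rho y (basePt i) : ℕ) = tabB (nbrOf j) (symPt i) := by
      rw [← basePt_val hi, nbr_spec (by omega), nbr_spec (by omega)]
      conv_lhs => rw [← hfix j (by omega)]
      exact setupA.relB_smul repWords graph.inv y _ _
    rw [hne1, pick_false, hrel]
    simpa using ih (by omega)

theorem card_step {i : ℕ} (hi : i < 25) :
    Nat.card (fixTo i) ≤ (symLevels.getD i (0, 0, 0)).2.2 * Nat.card (fixTo (i + 1)) := by
  classical
  let O : Finset Pts := Finset.univ.filter fun z : Pts => candB i z = true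
  have hO : O.card = (symLevels.getD i (0, 0, 0)).2.2 := by
    have h := cand_counts
    simp only [List.all_eq_true, List.mem_range, cntOK] at h
    rw [← Nat.eq_of_beq_eq_true (h i hi), cntN_eq]
  let pick' : Pts → fixTo i := fun z =>
    if h : ∃ y : fixTo i, rho y (basePt i) = z then h.choose else 1
  have hpick : ∀ y : fixTo i, rho (pick' (rho y (basePt i))) (basePt i) = rho y (basePt i) := fun y => by
    have h : ∃ x : fixTo i, rho x (basePt i) = rho y (basePt i) := ⟨y, rfl⟩
    simp only [pick', dif_pos h]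
    exact h.choose_spec
  let φ : fixTo i → O × fixTo (i + 1) := fun y =>
    (⟨rho y (basePt i), by simpa [O] using orbit_cand hi y.2⟩,
      ⟨((pick' (rho y (basePt i)))⁻¹ * y : fixTo i), ((pick' (rho y (basePt i)))⁻¹ * y : fixTo i).2, by
        show rho _ (basePt i) = basePt i
        rw [Subgroup.coe_mul, Subgroup.coe_inv, map_mul, map_inv, Equiv.Perm.mul_apply,
          Equiv.Perm.inv_eq_iff_eq]
        exact (hpick y).symm⟩)
  have hφ : Function.Injective φ := by
    intro y y' e
    simp only [φ, Prod.mk.injEq, Subtype.mk.injEq] at e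
    obtain ⟨e1, e2⟩ := e
    have e3 : (pick' (rho y (basePt i)))⁻¹ * y = (pick' (rho y' (basePt i)))⁻¹ * y' :=
      Subtype.ext (congrArg (fun x : fixTo (i + 1) => (x : Fi23)) e2)
    rw [e1] at e3
    exact mul_left_cancel e3
  have h := Nat.card_le_card_of_injective φ hφ
  rwa [Nat.card_prod, Nat.card_eq_finsetCard, hO] at h

/-- the product of the numbers of candidates from a level on -/
def prodFrom : ℕ → ℕ → ℕ
  | _, 0 => 1
  | i, k + 1 => (symLevels.getD i (0, 0, 0)).2.2 * prodFrom (i + 1) k

theorem fixTo_last : fixTo 25 = ⊥ := by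
  refine (Subgroup.eq_bot_iff_forall _).mpr fun y hy => ?_
  obtain ⟨-, hfix⟩ := fixTo_spec hy
  have hmem : ∀ x ∈ [11589, 8006, 8005, 8003, 8002, 8001, 8000, 8004, 8007, 7999],
      ∃ j ∈ List.range 25, symPt j = x := by decide +kernel
  have hgen : ∀ g < certA.K, Commute y (Fi23Pres.gen g) := by
    intro g hg
    obtain ⟨x, hx, e⟩ := Fi23Cent.letter_targets g hg
    obtain ⟨j, hj, ej⟩ := hmem x hx
    have hj' := List.mem_range.mp hj
    have hxj : x = basePt j := Fin.ext (by rw [basePt_val hj', ej])
    have h1 := setupA.conjAt_smul Fi23Pres.comm_central y x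
    rw [hxj, hfix j hj', ← hxj, e, mul_inv_eq_iff_eq_mul] at h1
    exact h1
  have hall : ∀ x : Fi23, Commute y x := by
    intro x
    have hx : x ∈ Subgroup.closure {z | ∃ g < certA.K, Fi23Pres.gen g = z} := by
      rw [setupA.gen_top]; trivial
    induction hx using Subgroup.closure_induction with
    | mem z hz => obtain ⟨g, hg, rfl⟩ := hz; exact hgen g hg
    | one => exact Commute.one_right _
    | mul a b _ _ ha hb => exact ha.mul_right hb
    | inv a _ ha => exact ha.inv_right
  refine card_faithful.2 (Equiv.ext fun z => ?_)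
  obtain ⟨x, hx⟩ := setupA.pretransitive z
  obtain ⟨x0, hx0⟩ := setupA.pretransitive (basePt 0)
  rw [map_one, Equiv.Perm.one_apply]
  have hb : rho y setupA.base = setupA.base := by
    apply (rho x0).injective
    rw [← Equiv.Perm.mul_apply, ← map_mul, ← (hall x0).eq, map_mul, Equiv.Perm.mul_apply, hx0,
      hfix 0 (by norm_num)]
  rw [← hx, ← Equiv.Perm.mul_apply, ← map_mul, (hall x).eq, map_mul, Equiv.Perm.mul_apply, hb]

theorem card_fixTo : ∀ k i, i + k = 25 → Nat.card (fixTo i) ≤ prodFrom i k
  | 0, i, h => by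
    obtain rfl : i = 25 := by omega
    rw [fixTo_last, Subgroup.card_bot]
    exact le_rfl
  | k + 1, i, h => by
    refine (card_step (i := i) (by omega)).trans ?_
    rw [prodFrom]
    exact Nat.mul_le_mul_left _ (card_fixTo k (i + 1) (by omega))

theorem card_fixed : Nat.card (fixTo 0) ≤ 4952179814400 := by
  refine (card_fixTo 25 0 rfl).trans (le_of_eq ?_)
  decide +kernel

theorem card_le_classes (H : Subgroup K) (P : Finset (Equiv.Perm (Fin 3)))
    (hH : ∀ x ∈ H, ∃ σ ∈ P, Permutes x.1 σ ∧ signZ x.2 = Equiv.Perm.sign σ) :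
    Nat.card H ≤ P.card * 4952179814400 := by
  classical
  have hσ : ∀ x : H, ∃ σ, σ ∈ P ∧ Permutes x.1.1 σ ∧ signZ x.1.2 = Equiv.Perm.sign σ := fun x => hH x x.2
  choose σ hσP hσ1 hσ2 using hσ
  let π : H →* Equiv.Perm (Fin 3) :=
    { toFun := σ
      map_one' := (hσ1 1).unique Permutes.one
      map_mul' := fun x y => (hσ1 (x * y)).unique ((hσ1 x).mul (hσ1 y)) }
  have hker : Nat.card π.ker ≤ 4952179814400 := by
    let φ : π.ker → fixTo 0 := fun x => ⟨x.1.1.1, by
      have h := hσ1 x.1
      have e : σ x.1 = 1 := x.2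
      rw [e] at h
      exact h⟩
    have hφ : Function.Injective φ := by
      intro x y e
      refine Subtype.ext (Subtype.ext (Prod.ext (congrArg Subtype.val e) (signZ_inj ?_)))
      have ex : σ x.1 = 1 := x.2
      have ey : σ y.1 = 1 := y.2
      rw [hσ2 x.1, hσ2 y.1, ex, ey]
    exact (Nat.card_le_card_of_injective φ hφ).trans card_fixed
  have hidx : π.ker.index ≤ P.card := by
    rw [Subgroup.index_ker]
    let ψ : π.range → P := fun σ' => ⟨σ'.1, by obtain ⟨x, hx⟩ := σ'.2; rw [← hx]; exact hσP x⟩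
    refine (Nat.card_le_card_of_injective ψ fun a b e =>
      Subtype.ext (congrArg (fun c : P => (c : Equiv.Perm (Fin 3))) e)).trans
      (le_of_eq (Nat.card_eq_finsetCard P))
  rw [← π.ker.card_mul_index, mul_comm P.card]
  exact Nat.mul_le_mul hker hidx

theorem card_subS1 : Nat.card subS1 ≤ 6 * 4952179814400 := by
  have h := card_le_classes subS1 Finset.univ fun x hx => by
    obtain ⟨σ, h⟩ := hx
    exact ⟨σ, Finset.mem_univ _, h⟩
  rw [Finset.card_univ, Fintype.card_perm, Fintype.card_fin] at h
  exact h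

theorem subS1_index : 275264 ≤ subS1.index := by
  have h := subS1.card_mul_index
  rw [card_K] at h
  refine Nat.le_of_mul_le_mul_left ?_ (show 0 < 6 * 4952179814400 by norm_num)
  calc 6 * 4952179814400 * 275264 = 8178940946586009600 := by norm_num
    _ = Nat.card subS1 * subS1.index := h.symm
    _ ≤ 6 * 4952179814400 * subS1.index := Nat.mul_le_mul_right _ card_subS1

theorem permutes_word {w : List ℕ} {σl : List ℕ} (h : classOK w σl = true)
    (σ : Equiv.Perm (Fin 3)) (hσ : ∀ j < 4, nth σl j 3 = extP σ j) :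
    Permutes (prodW Fi23Pres.gen w) σ := by
  simp only [classOK, Bool.and_eq_true, List.all_eq_true, Nat.blt_eq] at h
  intro z
  have h1 := Cert.allPts_spec h.2 z z.2
  simp only [classAt, strict_eq] at h1
  rw [run_rev h.1, Nat.eq_of_beq_eq_true h1, hσ _ (clsOf_lt z)]

theorem right_le_S1 : subRight ≤ subS1 := by
  refine (Subgroup.closure_le _).mpr ?_
  rintro y ⟨g, h1, h10, rfl⟩
  have hc : classOK [g] [0, 2, 1, 3] = true := by
    interval_cases g
    exacts [letter1_ok, letter2_ok, letter3_ok, letter4_ok, letter5_ok, letter6_ok, letter7_ok,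
      letter8_ok, letter9_ok]
  refine ⟨Equiv.swap 1 2, ?_, ?_⟩
  · have := permutes_word hc (Equiv.swap 1 2) (by decide)
    simpa [genK] using this
  · rw [Equiv.Perm.sign_swap (by decide)]
    rfl

theorem fst_below (w : List ℕ) : (prodW genK w).1 = prodW Fi23Pres.gen (below w) := by
  rw [prodW_genK]
  rfl

theorem tau_permutes : Permutes (prodW genK tauW).1 (Equiv.swap 0 1) := by
  classical
  rw [fst_below]
  set y := prodW Fi23Pres.gen (below tauW) with hy
  have hlt : ∀ g ∈ below tauW, g < 10 := strip_lt tauW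
  have hinto : ∀ z : Pts, clsOf z < 3 →
      clsOf (rho y z : ℕ) = extP (Equiv.swap 0 1) (clsOf z) := by
    intro z hz
    have h := Cert.allPts_spec tau_into z z.2
    simp only [intoAt, strict_eq] at h
    rw [Nat.blt_eq.mpr hz, pick_true] at h
    rw [hy, run_rev hlt, Nat.eq_of_beq_eq_true h]
    generalize clsOf (z : ℕ) = c at hz
    interval_cases c <;> decide
  have hsize : ∀ j < 3, (Finset.univ.filter fun z : Pts => clsOf z = j).card = 1080 := by
    intro j hj
    have h := class_sizes
    simp only [List.all_eq_true, List.mem_range] at h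
    have h1 := (cntN_eq fun z => Nat.beq (clsOf z) j).symm.trans (Nat.eq_of_beq_eq_true (h j hj))
    have e : (Finset.univ.filter fun z : Pts => clsOf z = j) =
        Finset.univ.filter fun z : Pts => Nat.beq (clsOf z) j = true :=
      Finset.filter_congr fun z _ => ⟨fun e => by rw [e]; exact Nat.beq_refl j, Nat.eq_of_beq_eq_true⟩
    rewrite [e]
    exact h1
  have honto : ∀ j : Fin 3, ∀ u : Pts, clsOf u = (Equiv.swap (0 : Fin 3) 1 j : ℕ) →
      ∃ z : Pts, clsOf z = j ∧ rho y z = u := by
    intro j u hu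
    have hmap : (Finset.univ.filter fun z : Pts => clsOf z = j).map (rho y).toEmbedding =
        Finset.univ.filter fun z : Pts => clsOf z = (Equiv.swap (0 : Fin 3) 1 j : ℕ) := by
      refine Finset.eq_of_subset_of_card_le (fun v hv => ?_) (le_of_eq ?_)
      · obtain ⟨z, hz, rfl⟩ := Finset.mem_map.mp hv
        simp only [Finset.mem_filter, Finset.mem_univ, true_and] at hz ⊢
        rw [Equiv.toEmbedding_apply, hinto z (hz ▸ j.2), hz]
        simp [extP, j.2]
      · rw [Finset.card_map, hsize _ (Fin.isLt _), hsize _ j.2]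
    have : u ∈ (Finset.univ.filter fun z : Pts => clsOf z = j).map (rho y).toEmbedding := by
      rw [hmap]; simpa using hu
    obtain ⟨z, hz, e⟩ := Finset.mem_map.mp this
    exact ⟨z, by simpa using hz, e⟩
  intro z
  by_cases hz : clsOf z < 3
  · exact hinto z hz
  have hz3 : clsOf z = 3 := by have := clsOf_lt z; omega
  rw [hz3, show extP (Equiv.swap 0 1) 3 = 3 from rfl]
  by_contra hne
  have hlt3 : clsOf (rho y z : ℕ) < 3 := by have := clsOf_lt (rho y z : ℕ); omega
  obtain ⟨z', hz', e⟩ := honto ((Equiv.swap (0 : Fin 3) 1) ⟨_, hlt3⟩) (rho y z) (by simp)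
  have e' := (rho y).injective e
  rw [e'] at hz'
  have := ((Equiv.swap (0 : Fin 3) 1) ⟨_, hlt3⟩).2
  omega

theorem tau_mem : prodW genK tauW ∈ subS1 :=
  ⟨Equiv.swap 0 1, tau_permutes, by
    rw [Equiv.Perm.sign_swap (by decide), prodW_genK]
    decide +kernel⟩

theorem stab_mem {st : List ℕ} {cls : ℕ} (h : stabOK transW 1 st cls = true) :
    prodW genK (stabW transW 1 st cls) ∈ subS1 := by
  simp only [stabOK, Bool.and_eq_true, Nat.blt_eq] at h
  rw [stabW, if_pos rfl, prodW_append]
  refine mul_mem (right_le_S1 (right_mem h.1)) ?_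
  have hcls : cls < 3 := h.2
  interval_cases cls
  · simp [transW]
  · simpa [transW] using tau_mem
  · have hb : prodW genK [1] ∈ subS1 := right_le_S1 (right_mem (by decide +kernel))
    simpa [transW, prodW_append] using mul_mem tau_mem hb

end CfsgLib.Fi24Act
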