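import Cfsg.Agent.Lib.Fi24Act.DataLoopTen

/-!
Kernel check of loops (ten).
-/

set_option autoImplicit false

namespace CfsgLib.Fi24Act

open CfsgLib.Fi24Pres

theorem ten_loops : ((List.range 9).all fun i => loopFrom tenQ i [] (tenLoops.getD i ⟨[], [], 0⟩)) = true := by decide +kernel

end CfsgLib.Fi24Act
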