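import Cfsg.Agent.Lib.Fi24Act.DataLoopZero

/-!
Kernel check of loops (zero).
-/

set_option autoImplicit false

namespace CfsgLib.Fi24Act

open CfsgLib.Fi24Pres

theorem zero_loops : ((List.range zeroStarts.length).all fun j =>
    loopFrom zeroQ (zeroStarts.getD j (0, [])).1 (zeroStarts.getD j (0, [])).2.reverse
      (zeroLoops.getD j ⟨[], [], 0⟩)) = true := by decide +kernel

end CfsgLib.Fi24Act
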