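import Cfsg.Agent.Lib.Fi24Act.DataOrbC

/-!
Kernel check of the orbits of the stabiliser C.
-/

set_option autoImplicit false

namespace CfsgLib.Fi24Act

open CfsgLib.CosetEnum CfsgLib.Fi24Pres

theorem orbC_ok : famOK gensC orbsC = true := by decide +kernel

theorem orbC_fix : gensFix gensC pointA = true := by decide +kernel

end CfsgLib.Fi24Act
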