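import Cfsg.Agent.Lib.Fi24Act.DataOrbT6

/-!
Kernel check of the orbits of the stabiliser T6.
-/

set_option autoImplicit false

namespace CfsgLib.Fi24Act

open CfsgLib.CosetEnum CfsgLib.Fi24Pres

theorem orbT6_ok : famOK gensT6 orbsT6 = true := by decide +kernel

theorem orbT6_fix : gensFix gensT6 (Fi23Pres.certA.run pointA (strip [1, 0])) = true := by decide +kernel

end CfsgLib.Fi24Act
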