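import Cfsg.Agent.Lib.Fi24Act.DataOrbT7
import Cfsg.Agent.Lib.Fi24Act.DataT

/-!
Kernel check of the orbits of the stabiliser T7.
-/

set_option autoImplicit false

namespace CfsgLib.Fi24Act

open CfsgLib.CosetEnum CfsgLib.Fi24Pres

theorem orbT7_ok : famOK gensT7 orbsT7 = true := by decide +kernel

theorem orbT7_idx : (gensT7Idx.all fun i => Nat.blt i basicT.length) &&
    (gensT7Idx.map (fun i => basicT.getD i []) == gensT7) = true := by decide +kernel

end CfsgLib.Fi24Act
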