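import Cfsg.Agent.Lib.Fi24Act.DataOrbT8

/-!
Kernel check of the orbits of the stabiliser T8.
-/

set_option autoImplicit false

namespace CfsgLib.Fi24Act

open CfsgLib.CosetEnum CfsgLib.Fi24Pres

theorem orbT8_ok : famOK gensT8 orbsT8 = true := by decide +kernel

theorem orbT8_fix : gensFix gensT8 (Fi23Pres.certA.run pointA (strip rho8)) = true := by decide +kernel

end CfsgLib.Fi24Act
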