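import Cfsg.Agent.Lib.Fi23Pres.OutBase
import Cfsg.Agent.Lib.Fi24Act.DataSym

/-!
Checks for the subgroup permuting three classes of points.
-/

set_option autoImplicit false

namespace CfsgLib.Fi24Act

open CfsgLib.CosetEnum

/-- Bit `i` of a table. -/
noncomputable def tabB (t : PTab) (i : ℕ) : Bool := Nat.beq (t.at' (nat_lit 1) i) (nat_lit 1)

/-- the class of a point, three for the rest -/
noncomputable def clsOf (z : ℕ) : ℕ := classTab.at' (nat_lit 2) z

/-- the table of commuting cosets is the mask -/
noncomputable def commAt (z : ℕ) : Bool :=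
  strict z fun z => Nat.testBit Fi23Pres.commMask z == tabB commTab z

/-- one direction: a commuting coset, moved to `q`, is in the table -/
noncomputable def nbrFwd (t : PTab) (w : List ℕ) (z : ℕ) : Bool :=
  strict z fun z => !(tabB commTab z) || tabB t (Fi23Pres.certA.run z w)

/-- the point with a number -/
noncomputable def symPt (i : ℕ) : ℕ := (symLevels.getD i (0, 0, 0)).1

/-- the table of neighbours with a number -/
noncomputable def nbrOf (i : ℕ) : PTab := nbrTabs.getD i (.leaf 0)

/-- the word of the representative of a base point -/
noncomputable def repLit (i : ℕ) : List ℕ := repLits.getD i []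

/-- the check of a table of neighbours -/
noncomputable def nbrOK (i : ℕ) : Bool :=
  (Fi23Pres.certA.repWord (symPt i) == repLit i) &&
    Cert.allPts Fi23Pres.certA.N (nbrFwd (nbrOf i) (repLit i))

/-- number of points from `b` to `b + 2^k` below `n` satisfying a test -/
noncomputable def cntUp (f : ℕ → Bool) (n : ℕ) (k : ℕ) : ℕ → ℕ :=
  Nat.rec (fun b => strict b fun b => pick (ltB b n) (pick (f b) 1 0) 0) (fun k ih b =>
    strict b fun b => strict (ih b) fun u => strict (ih (Nat.add b (Nat.pow (nat_lit 2) k))) fun v =>
      Nat.add u v) k

/-- the number of points with a property -/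
noncomputable def cntN (f : ℕ → Bool) : ℕ := cntUp f Fi23Pres.certA.N (nat_lit 15) (nat_lit 0)

/-- the size of a table of neighbours -/
noncomputable def nbrCntOK (i : ℕ) : Bool := Nat.beq (cntN (tabB (nbrOf i))) (cntN (tabB commTab))

/-- a candidate for the image of a base point -/
noncomputable def candB (i z : ℕ) : Bool :=
  pick (ltB i candTabs.length) (tabB (candTabs.getD i (.leaf 0)) z) (Nat.beq z (symPt i))

/-- `z` differs from the point `i` in its relation to an earlier point -/
noncomputable def symDiff' (i z : ℕ) : Bool :=
  Nat.rec false (fun j ih =>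
    pick (Nat.beq z (symPt j)) true
      (pick (tabB (nbrOf j) z == tabB (nbrOf j) (symPt i)) ih true)) i

/-- a point of the class and pattern is a candidate -/
noncomputable def candAt (i z : ℕ) : Bool :=
  strict z fun z => pick (Nat.beq (clsOf z) (symLevels.getD i (0, 0, 0)).2.1)
    (candB i z || symDiff' i z) true

/-- the check of a level -/
noncomputable def symOK (i : ℕ) : Bool :=
  Nat.blt (symPt i) Fi23Pres.certA.N &&
    Nat.beq (clsOf (symPt i)) (symLevels.getD i (0, 0, 0)).2.1 &&
    ((List.range i).all fun j => !(Nat.beq (symPt i) (symPt j))) &&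
    Cert.allPts Fi23Pres.certA.N (candAt i)

/-- the count of a level -/
noncomputable def cntOK (i : ℕ) : Bool :=
  Nat.beq (cntN (candB i)) (symLevels.getD i (0, 0, 0)).2.2

/-- a word permutes the classes as told -/
noncomputable def classAt (w : List ℕ) (σ : List ℕ) (z : ℕ) : Bool :=
  strict z fun z => Nat.beq (clsOf (Fi23Pres.certA.run z w.reverse)) (nth σ (clsOf z) 3)

/-- the check of the action of a word on the classes -/
noncomputable def classOK (w : List ℕ) (σ : List ℕ) : Bool :=
  (w.all fun g => Nat.blt g 10) && Cert.allPts Fi23Pres.certA.N (classAt w σ)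

/-- the check of the points chosen in the classes -/
noncomputable def classRepOK (j : ℕ) : Bool :=
  Nat.blt (nth classRep j 0) Fi23Pres.certA.N && Nat.beq (clsOf (nth classRep j 0)) j

end CfsgLib.Fi24Act
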