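import Cfsg.Agent.Lib.Fi24Act.DataT
import Cfsg.Agent.Lib.Fi24Act.SymDefs
import Cfsg.Agent.Lib.Fi24Pres.Facts
import Cfsg.Agent.Lib.CosetEnum.ChainSplit

/-!
Kernel checks for the stabiliser of the seventh edge.
-/

set_option autoImplicit false

namespace CfsgLib.Fi24Act

open CfsgLib.CosetEnum CfsgLib.Fi24Pres

/-- a generator fixes a coset -/
noncomputable def fixOK (s : ℕ) (r w : List ℕ) (d : List ℕ × ℕ) : Bool :=
  rightOK w && stabOK transW s d.1 d.2 && eqK (r ++ w.reverse) (stabW transW s d.1 d.2 ++ r)

/-- the check of one generator -/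
noncomputable def genTOK (i : ℕ) : Bool :=
  fixOK fact7.s fact7.rho (basicT.getD i []) (witA.getD i ([], 0)) &&
    fixOK fact7.t fact7.sigma (basicT.getD i []) (witB.getD i ([], 0))

theorem genT_ok : ((List.range basicT.length).all genTOK) = true := by decide +kernel

theorem levelsT_ok : chainOK Fi23Pres.certA levelsT = true := by decide +kernel

theorem levelsT_size : chainSize Fi23Pres.certA levelsT = 45349632 := by decide +kernel

/-- the indices of the words of the chain -/
noncomputable def idxOK : Bool :=
  (chainWords levelsT).all fun w => w.all fun g => Nat.blt g 10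

theorem levelsT_lt : idxOK = true := by decide +kernel

theorem edge_class_sizes : Nat.beq (cntN fun z => Nat.beq (clsOf z) 3) 28431 &&
    Nat.beq (cntN fun z => Nat.beq (clsOf z) 0) 1080 &&
    Nat.beq (cntN fun z => Nat.beq (clsOf z) 1 || Nat.beq (clsOf z) 2) 2160 = true := by
  decide +kernel

theorem edge_classes : Nat.beq (clsOf pointA) 3 &&
    Nat.beq (clsOf (Fi23Pres.certA.run pointA (strip [1, 0]))) 0 &&
    (Nat.beq (clsOf (Fi23Pres.certA.run pointA (strip rho8))) 1 ||
      Nat.beq (clsOf (Fi23Pres.certA.run pointA (strip rho8))) 2) = true := by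
  decide +kernel

end CfsgLib.Fi24Act
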