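import Cfsg.Agent.Lib.Fi24Act.DataTauConj
import Cfsg.Agent.Lib.Fi24Pres.DataWalks

/-!
Kernel check of the conjugates of the even generators.
-/

set_option autoImplicit false

namespace CfsgLib.Fi24Act

open CfsgLib.Fi24Pres

theorem tau_conjs : (tauConjs.all fun p =>
    rightOK p.2 && eqK (tauW.reverse ++ p.1 ++ tauW) p.2) = true := by decide +kernel

theorem tau_conjs_mem : (([1, 2, 3, 4, 5, 6, 7, 8, 9] : List ℕ).all fun g =>
    (tauConjs.any fun p => p.1 == [g, 1]) && (tauConjs.any fun p => p.1 == [1, g])) = true := by
  decide +kernel

/-- the diagram relations among the letters below eleven -/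
noncomputable def coxPairOK (p q : ℕ) : Bool :=
  if adjB p q then eqK [p, q, p] [q, p, q] else eqK [p, q] [q, p]

theorem cox_pairs : ((List.range 11).all fun p => (List.range 11).all (coxPairOK p)) = true := by
  decide +kernel

theorem ten_seven : eqK [10] sevenW = true := by decide +kernel

end CfsgLib.Fi24Act
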