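import Cfsg.Agent.Lib.Fi24Act.LoopDefs

/-!
Witnesses of loops for the square of `k`.
-/

set_option autoImplicit false
set_option linter.style.longLine false

namespace CfsgLib.Fi24Act

open CfsgLib.Fi24Pres

/-- a loop -/
def sqLoop0 : LoopWit := ⟨[⟨0, [], 0, []⟩,
  ⟨1, [], 0, []⟩], [], 0⟩

/-- a loop -/
def sqLoop1 : LoopWit := ⟨[⟨1, [], 0, []⟩,
  ⟨0, [], 0, []⟩], [], 0⟩

/-- a loop -/
def sqLoop2 : LoopWit := ⟨[⟨2, [], 0, []⟩,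
  ⟨2, [], 0, []⟩], [], 0⟩

/-- a loop -/
def sqLoop3 : LoopWit := ⟨[⟨3, [], 0, []⟩,
  ⟨3, [], 0, []⟩], [], 0⟩

/-- a loop -/
def sqLoop4 : LoopWit := ⟨[⟨4, [], 0, []⟩,
  ⟨5, [], 0, []⟩], [], 0⟩

/-- a loop -/
def sqLoop5 : LoopWit := ⟨[⟨5, [], 0, []⟩,
  ⟨4, [], 0, []⟩], [], 0⟩

/-- a loop -/
def sqLoop6 : LoopWit := ⟨[⟨6, [], 0, []⟩,
  ⟨6, [], 0, []⟩], [], 0⟩

/-- a loop -/
def sqLoop7 : LoopWit := ⟨[⟨7, [], 0, []⟩,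
  ⟨7, [], 0, [3, 4, 5, 7, 3, 4, 8, 7, 3]⟩], [], 0⟩

/-- a loop -/
def sqLoop8 : LoopWit := ⟨[⟨8, [], 0, []⟩,
  ⟨8, [], 0, []⟩], [], 0⟩

/-- the loops for the square of `k` -/
def sqLoops : List LoopWit := [sqLoop0, sqLoop1, sqLoop2, sqLoop3, sqLoop4, sqLoop5, sqLoop6, sqLoop7, sqLoop8]

end CfsgLib.Fi24Act
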