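import Cfsg.Agent.Lib.Fi24Act.LoopDefs

/-!
Witnesses of loops for the commutator of `k` and the stabiliser element.
-/

set_option autoImplicit false
set_option linter.style.longLine false

namespace CfsgLib.Fi24Act

open CfsgLib.Fi24Pres

/-- a loop -/
def tauLoop0 : LoopWit := ⟨[⟨0, [], 0, []⟩,
  ⟨1, [], 1, []⟩], [10, 0, 1, 2, 3, 4, 5, 7, 3, 2, 4, 3, 7, 8, 7, 3, 2, 1, 4, 3, 5, 4, 7, 3, 0, 3, 2, 4, 6, 5, 4, 3, 2, 1, 7, 3, 2, 1, 4, 3, 2, 5, 6, 7, 8, 7, 3, 4, 9, 6, 5, 4, 3, 2, 1, 7, 3, 0, 1, 2, 3, 8, 7, 3, 9, 6, 5, 4, 3, 10, 9, 3, 7, 5, 2, 3, 4, 1, 2, 3, 7, 8, 2, 3, 4, 1, 2, 3, 7, 6, 5, 4, 3, 2, 1, 0, 10], 0⟩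

/-- a loop -/
def tauLoop1 : LoopWit := ⟨[⟨0, [1], 0, []⟩,
  ⟨1, [], 1, []⟩], [10, 0, 1, 2, 3, 4, 5, 7, 3, 2, 4, 3, 7, 8, 7, 3, 2, 1, 4, 3, 5, 4, 7, 3, 0, 3, 2, 4, 6, 5, 4, 3, 2, 1, 7, 3, 2, 1, 4, 3, 2, 5, 6, 7, 8, 7, 3, 4, 9, 6, 5, 4, 3, 2, 1, 7, 3, 0, 1, 2, 3, 8, 7, 3, 9, 6, 5, 4, 3, 10, 9, 3, 7, 5, 2, 3, 4, 1, 2, 3, 7, 8, 2, 3, 4, 1, 2, 3, 7, 6, 5, 4, 3, 2, 1, 0, 10, 1], 0⟩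

/-- part of a word -/
def tau2finp0 : List ℕ := [4, 5, 3, 4, 2, 3, 1, 2, 6, 5, 9, 6, 4, 3, 7, 4, 6, 8, 5, 2, 3, 1, 2, 4, 6, 5, 4, 3, 2, 7, 1, 9, 5, 3, 7, 4, 5, 2, 3, 4, 2, 8, 5, 6, 7, 3, 5, 4, 7, 3, 6, 1, 2, 9, 3, 5, 8, 7, 3, 7, 4, 8, 1, 3, 2, 1, 6, 5, 6, 3, 4, 7, 4, 8, 5, 3, 6, 5, 7, 6, 4, 3, 5, 8, 4, 7, 5, 6, 5, 9, 6, 2, 3, 1, 5, 4, 7, 6, 3, 2, 1, 3, 7, 4, 3, 2, 6, 4, 3, 7, 4, 6, 8, 5, 2, 3, 1, 2, 4, 6, 5, 4, 3, 2, 7, 1, 9, 5, 3, 7, 4, 5, 2, 3, 4, 2, 8, 5, 6, 7, 3, 5, 4, 7, 3, 6, 1, 2, 9, 3, 5, 8, 7, 3, 7, 4, 8, 1, 3, 2, 1, 6, 5, 6, 3, 4, 7, 4, 8, 5, 3, 6, 5, 7, 6, 4, 3, 5, 8, 4, 7, 5, 7, 8, 6, 5, 9, 6, 4, 3, 7, 4, 6,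 8, 5, 2, 3, 1, 2, 4, 6, 5, 4, 3, 2, 7, 1, 9, 5, 3, 7, 4, 5, 2, 3, 4, 2, 8, 5, 6, 7, 3, 5, 4, 7, 3, 6, 1, 2, 9, 3, 5, 8, 7, 3, 7, 4, 8, 1, 3, 2, 1, 6, 5, 6, 3, 4, 7, 4, 8]

/-- part of a word -/
def tau2finp1 : List ℕ := [5, 3, 6, 5, 7, 6, 4, 3, 5, 8, 4, 7, 5, 6, 2, 3, 1, 4, 7, 3, 2, 1, 3, 7, 4, 3, 2, 4, 8, 7, 3, 4, 7, 6, 5, 9, 6, 2, 3, 1, 5, 4, 7, 6, 3, 2, 1, 3, 7, 4, 3, 2, 9, 5, 2, 3, 1, 4, 7, 3, 2, 1, 3, 7, 4, 3, 2, 4, 8, 7, 3, 4, 7, 8, 5, 6, 5, 9, 6, 4, 3, 7, 4, 6, 8, 5, 2, 3, 1, 2, 4, 6, 5, 4, 3, 2, 7, 1, 9, 5, 3, 7, 4, 5, 2, 3, 4, 2, 8, 5, 6, 7, 3, 5, 4, 7, 3, 6, 1, 2, 9, 3, 5, 8, 7, 3, 7, 4, 8, 1, 3, 2, 1, 6, 5, 6,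 3, 4, 2, 3, 1, 2, 3, 4, 8, 7, 8, 3, 6, 5, 4, 9, 7, 3, 2, 8, 7, 8, 5, 4, 1, 3, 2, 6, 5, 9, 6, 2, 3, 1, 5, 4, 7, 6, 3, 2, 1, 3, 7, 4, 3, 2, 6, 2, 3, 1, 5, 4, 7, 6, 3, 2, 1, 3, 7, 4, 3, 2, 9, 5, 6, 5, 1, 8]

/-- a loop -/
def tauLoop2 : LoopWit := ⟨[⟨1, [], 0, []⟩,
  ⟨0, [10, 0, 1, 2, 3, 4, 5, 6, 7, 3, 2, 1, 4, 3, 2, 8, 7, 3, 2, 1, 4, 3, 2, 5, 7, 3, 9, 10, 3, 4, 5, 6, 9, 3, 7, 8, 3, 2, 1, 0, 3, 7, 1, 2, 3, 4, 5, 6, 9, 4, 3, 7, 8, 7, 6, 5, 2, 3, 4, 1, 2, 3, 7, 1, 2, 3, 4, 5, 6, 4, 2, 3, 0, 3, 7, 4, 5, 3, 4, 1, 2, 3, 7, 8, 7, 3, 4, 2, 3, 7, 5, 4, 3, 2, 1, 0, 10], 0, []⟩], [tau2finp0, tau2finp1].flatten, 1⟩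

/-- part of a word -/
def tau3finp0 : List ℕ := [4, 5, 3, 4, 2, 3, 1, 2, 6, 5, 9, 6, 4, 3, 7, 4, 6, 8, 5, 2, 3, 1, 2, 4, 6, 5, 4, 3, 2, 7, 1, 9, 5, 3, 7, 4, 5, 2, 3, 4, 2, 8, 5, 6, 7, 3, 5, 4, 7, 3, 6, 1, 2, 9, 3, 5, 8, 7, 3, 7, 4, 8, 1, 3, 2, 1, 6, 5, 6, 3, 4, 7, 4, 8, 5, 3, 6, 5, 7, 6, 4, 3, 5, 8, 4, 7, 5, 6, 5, 9, 6, 2, 3, 1, 5, 4, 7, 6, 3, 2, 1, 3, 7, 4, 3, 2, 6, 4, 3, 7, 4, 6, 8, 5, 2, 3, 1, 2, 4, 6, 5, 4, 3, 2, 7, 1, 9, 5, 3, 7, 4, 5, 2, 3, 4, 2, 8, 5, 6, 7, 3, 5, 4, 7, 3, 6, 1, 2, 9, 3, 5, 8, 7, 3, 7, 4, 8, 1, 3, 2, 1, 6, 5, 6, 3, 4, 7, 4, 8, 5, 3, 6, 5, 7, 6, 4, 3, 5, 8, 4, 7, 5, 7, 8, 6, 5, 9, 6, 4, 3, 7, 4, 6,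 8, 5, 2, 3, 1, 2, 4, 6, 5, 4, 3, 2, 7, 1, 9, 5, 3, 7, 4, 5, 2, 3, 4, 2, 8, 5, 6, 7, 3, 5, 4, 7, 3, 6, 1, 2, 9, 3, 5, 8, 7, 3, 7, 4, 8, 1, 3, 2, 1, 6, 5, 6, 3, 4, 7, 4, 8]

/-- part of a word -/
def tau3finp1 : List ℕ := [5, 3, 6, 5, 7, 6, 4, 3, 5, 8, 4, 7, 5, 6, 2, 3, 1, 4, 7, 3, 2, 1, 3, 7, 4, 3, 2, 4, 8, 7, 3, 4, 7, 6, 5, 9, 6, 2, 3, 1, 5, 4, 7, 6, 3, 2, 1, 3, 7, 4, 3, 2, 9, 5, 2, 3, 1, 4, 7, 3, 2, 1, 3, 7, 4, 3, 2, 4, 8, 7, 3, 4, 7, 8, 5, 6, 5, 9, 6, 4, 3, 7, 4, 6, 8, 5, 2, 3, 1, 2, 4, 6, 5, 4, 3, 2, 7, 1, 9, 5, 3, 7, 4, 5, 2, 3, 4, 2, 8, 5, 6, 7, 3, 5, 4, 7, 3, 6, 1, 2, 9, 3, 5, 8, 7, 3, 7, 4, 8, 1, 3, 2, 1, 6, 5, 6,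 3, 4, 2, 3, 1, 2, 3, 4, 8, 7, 8, 3, 6, 5, 4, 9, 7, 3, 2, 8, 7, 8, 5, 4, 1, 3, 2, 6, 5, 9, 6, 2, 3, 1, 5, 4, 7, 6, 3, 2, 1, 3, 7, 4, 3, 2, 6, 2, 3, 1, 5, 4, 7, 6, 3, 2, 1, 3, 7, 4, 3, 2, 9, 5, 6, 5, 1, 8]

/-- a loop -/
def tauLoop3 : LoopWit := ⟨[⟨1, [1], 0, []⟩,
  ⟨0, [10, 0, 1, 2, 3, 4, 5, 6, 7, 3, 2, 1, 4, 3, 2, 8, 7, 3, 2, 1, 4, 3, 2, 5, 7, 3, 9, 10, 3, 4, 5, 6, 9, 3, 7, 8, 3, 2, 1, 0, 3, 7, 1, 2, 3, 4, 5, 6, 9, 4, 3, 7, 8, 7, 6, 5, 2, 3, 4, 1, 2, 3, 7, 1, 2, 3, 4, 5, 6, 4, 2, 3, 0, 3, 7, 4, 5, 3, 4, 1, 2, 3, 7, 8, 7, 3, 4, 2, 3, 7, 5, 4, 3, 2, 1, 0, 10], 0, []⟩], [tau3finp0, tau3finp1].flatten, 2⟩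

/-- part of a word -/
def tau4finp0 : List ℕ := [4, 5, 3, 4, 2, 3, 1, 2, 6, 5, 9, 6, 4, 3, 7, 4, 6, 8, 5, 2, 3, 1, 2, 4, 6, 5, 4, 3, 2, 7, 1, 9, 5, 3, 7, 4, 5, 2, 3, 4, 2, 8, 5, 6, 7, 3, 5, 4, 7, 3, 6, 1, 2, 9, 3, 5, 8, 7, 3, 7, 4, 8, 1, 3, 2, 1, 6, 5, 6, 3, 4, 7, 4, 8, 5, 3, 6, 5, 7, 6, 4, 3, 5, 8, 4, 7, 5, 6, 5, 9, 6, 2, 3, 1, 5, 4, 7, 6, 3, 2, 1, 3, 7, 4, 3, 2, 6, 4, 3, 7, 4, 6, 8, 5, 2, 3, 1, 2, 4, 6, 5, 4, 3, 2, 7, 1, 9, 5, 3, 7, 4, 5, 2, 3, 4, 2, 8, 5, 6, 7, 3, 5, 4, 7, 3, 6, 1, 2, 9, 3, 5, 8, 7, 3, 7, 4, 8, 1, 3, 2, 1, 6, 5, 6, 3, 4, 7, 4, 8, 5, 3, 6, 5, 7, 6, 4, 3, 5, 8, 4, 7, 5, 7, 8, 6, 5, 9, 6, 4, 3, 7, 4, 6,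 8, 5, 2, 3, 1, 2, 4, 6, 5, 4, 3, 2, 7, 1, 9, 5, 3, 7, 4, 5, 2, 3, 4, 2, 8, 5, 6, 7, 3, 5, 4, 7, 3, 6, 1, 2, 9, 3, 5, 8, 7, 3, 7, 4, 8, 1, 3, 2, 1, 6, 5, 6, 3, 4, 7, 4, 8]

/-- part of a word -/
def tau4finp1 : List ℕ := [5, 3, 6, 5, 7, 6, 4, 3, 5, 8, 4, 7, 5, 6, 2, 3, 1, 4, 7, 3, 2, 1, 3, 7, 4, 3, 2, 4, 8, 7, 3, 4, 7, 6, 5, 9, 6, 2, 3, 1, 5, 4, 7, 6, 3, 2, 1, 3, 7, 4, 3, 2, 9, 5, 2, 3, 1, 4, 7, 3, 2, 1, 3, 7, 4, 3, 2, 4, 8, 7, 3, 4, 7, 8, 5, 6, 5, 9, 6, 4, 3, 7, 4, 6, 8, 5, 2, 3, 1, 2, 4, 6, 5, 4, 3, 2, 7, 1, 9, 5, 3, 7, 4, 5, 2, 3, 4, 2, 8, 5, 6, 7, 3, 5, 4, 7, 3, 6, 1, 2, 9, 3, 5, 8, 7, 3, 7, 4, 8, 1, 3, 2, 1, 6, 5, 6,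 3, 4, 2, 3, 1, 2, 3, 4, 8, 7, 8, 3, 6, 5, 4, 9, 7, 3, 2, 8, 7, 8, 5, 4, 1, 3, 2, 6, 5, 9, 6, 2, 3, 1, 5, 4, 7, 6, 3, 2, 1, 3, 7, 4, 3, 2, 6, 2, 3, 1, 5, 4, 7, 6, 3, 2, 1, 3, 7, 4, 3, 2, 9, 5, 6, 5, 1, 8]

/-- a loop -/
def tauLoop4 : LoopWit := ⟨[⟨2, [], 0, []⟩,
  ⟨2, [], 1, []⟩], [tau4finp0, tau4finp1].flatten, 1⟩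

/-- part of a word -/
def tau5finp0 : List ℕ := [4, 5, 3, 4, 2, 3, 1, 2, 6, 5, 9, 6, 4, 3, 7, 4, 6, 8, 5, 2, 3, 1, 2, 4, 6, 5, 4, 3, 2, 7, 1, 9, 5, 3, 7, 4, 5, 2, 3, 4, 2, 8, 5, 6, 7, 3, 5, 4, 7, 3, 6, 1, 2, 9, 3, 5, 8, 7, 3, 7, 4, 8, 1, 3, 2, 1, 6, 5, 6, 3, 4, 7, 4, 8, 5, 3, 6, 5, 7, 6, 4, 3, 5, 8, 4, 7, 5, 6, 5, 9, 6, 2, 3, 1, 5, 4, 7, 6, 3, 2, 1, 3, 7, 4, 3, 2, 6, 4, 3, 7, 4, 6, 8, 5, 2, 3, 1, 2, 4, 6, 5, 4, 3, 2, 7, 1, 9, 5, 3, 7, 4, 5, 2, 3, 4, 2, 8, 5, 6, 7, 3, 5, 4, 7, 3, 6, 1, 2, 9, 3, 5, 8, 7, 3, 7, 4, 8, 1, 3, 2, 1, 6, 5, 6, 3, 4, 7, 4, 8, 5, 3, 6, 5, 7, 6, 4, 3, 5, 8, 4, 7, 5, 7, 8, 6, 5, 9, 6, 4, 3, 7, 4, 6,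 8, 5, 2, 3, 1, 2, 4, 6, 5, 4, 3, 2, 7, 1, 9, 5, 3, 7, 4, 5, 2, 3, 4, 2, 8, 5, 6, 7, 3, 5, 4, 7, 3, 6, 1, 2, 9, 3, 5, 8, 7, 3, 7, 4, 8, 1, 3, 2, 1, 6, 5, 6, 3, 4, 7, 4, 8]

/-- part of a word -/
def tau5finp1 : List ℕ := [5, 3, 6, 5, 7, 6, 4, 3, 5, 8, 4, 7, 5, 6, 2, 3, 1, 4, 7, 3, 2, 1, 3, 7, 4, 3, 2, 4, 8, 7, 3, 4, 7, 6, 5, 9, 6, 2, 3, 1, 5, 4, 7, 6, 3, 2, 1, 3, 7, 4, 3, 2, 9, 5, 2, 3, 1, 4, 7, 3, 2, 1, 3, 7, 4, 3, 2, 4, 8, 7, 3, 4, 7, 8, 5, 6, 5, 9, 6, 4, 3, 7, 4, 6, 8, 5, 2, 3, 1, 2, 4, 6, 5, 4, 3, 2, 7, 1, 9, 5, 3, 7, 4, 5, 2, 3, 4, 2, 8, 5, 6, 7, 3, 5, 4, 7, 3, 6, 1, 2, 9, 3, 5, 8, 7, 3, 7, 4, 8, 1, 3, 2, 1, 6, 5, 6,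 3, 4, 2, 3, 1, 2, 3, 4, 8, 7, 8, 3, 6, 5, 4, 9, 7, 3, 2, 8, 7, 8, 5, 4, 1, 3, 2, 6, 5, 9, 6, 2, 3, 1, 5, 4, 7, 6, 3, 2, 1, 3, 7, 4, 3, 2, 6, 2, 3, 1, 5, 4, 7, 6, 3, 2, 1, 3, 7, 4, 3, 2, 9, 5, 6, 5, 1, 8]

/-- a loop -/
def tauLoop5 : LoopWit := ⟨[⟨2, [1], 0, []⟩,
  ⟨2, [], 1, []⟩], [tau5finp0, tau5finp1].flatten, 2⟩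

/-- part of a word -/
def tau6w1p0 : List ℕ := [6, 9, 7, 5, 3, 4, 2, 3, 7, 8, 4, 5, 3, 4, 2, 3, 7, 6, 5, 4, 3, 2, 6, 5, 9, 6, 4, 3, 7, 4, 6, 8, 5, 2, 3, 1, 2, 4, 6, 5, 4, 3, 2, 7, 1, 9, 5, 3, 7, 4, 5, 2, 3, 4, 2, 8, 5, 6, 7, 3, 5, 4, 7, 3, 6, 1, 2, 9, 3, 5, 8, 7, 3, 7, 4, 8, 1, 3, 2, 1, 6, 5, 6, 3, 4, 7, 4, 8, 5, 3, 6, 5, 7, 6, 4, 3, 5, 8, 4, 7, 5, 6, 5, 9, 6, 2, 3, 1, 5, 4, 7, 6, 3, 2, 1, 3, 7, 4, 3, 2, 9, 5, 2, 3, 1, 4, 7, 3, 2, 1, 3, 7, 4, 3, 2, 4, 8, 7, 3, 4, 7, 6, 5, 9, 6, 4, 3, 7, 4, 6, 8, 5, 2, 3, 1, 2, 4, 6, 5, 4, 3, 2, 7, 1, 9, 5, 3, 7, 4, 5, 2, 3, 4, 2, 8, 5, 6, 7, 3, 5, 4, 7, 3, 6, 1, 2, 9, 3, 5, 8, 7, 3, 7,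 4, 8, 1, 3, 2, 1, 6, 5, 6, 3, 4, 7, 4, 8, 5, 3, 6, 5, 7, 6, 4, 3, 5, 8, 4, 7, 5, 7, 5, 6, 5, 9, 6, 4, 3, 7, 4, 6, 8, 5, 2, 3, 1, 2, 4, 6, 5, 4, 3, 2, 7, 1, 9, 5, 3, 7, 4]

/-- part of a word -/
def tau6w1p1 : List ℕ := [5, 2, 3, 4, 2, 8, 5, 6, 7, 3, 5, 4, 7, 3, 6, 1, 2, 9, 3, 5, 8, 7, 3, 7, 4, 8, 1, 3, 2, 1, 6, 5, 6, 3, 4, 2, 3, 1, 2, 3, 4, 8, 7, 8, 3, 6, 5, 4, 9, 7, 3, 2, 8, 7, 8, 5, 4, 1, 3, 2, 6, 2, 3, 1, 4, 7, 3, 2, 1, 3, 7, 4, 3, 2, 4, 8, 7, 3, 4, 7, 6, 5, 9, 6, 2, 3, 1, 5, 4, 7, 6, 3, 2, 1, 3, 7, 4, 3, 2, 9, 5, 2, 3, 1, 4, 7, 3, 2, 1, 3, 7, 4, 3, 2, 4, 8, 7, 3, 4, 7, 6, 2, 3, 1, 4, 7, 3, 2, 1, 3, 7, 4, 3, 2, 4, 8,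 7, 3, 4, 7, 6, 5, 9, 6, 4, 3, 7, 4, 6, 8, 5, 2, 3, 1, 2, 4, 6, 5, 4, 3, 2, 7, 1, 9, 5, 3, 7, 4, 5, 2, 3, 4, 2, 8, 5, 6, 7, 3, 5, 4, 7, 3, 6, 1, 2, 9, 3, 5, 8, 7, 3, 7, 4, 8, 1, 3, 2, 1, 6, 5, 6, 3, 4, 7, 4, 8, 5, 3, 6, 5, 7, 6, 4, 3, 5, 8, 4, 7, 6, 5, 9, 6, 4, 3, 7, 4, 6, 8, 5, 2, 3, 1, 2, 4, 6, 5, 4, 3, 2, 7, 1, 9, 5, 3, 7, 4, 5, 2, 3, 4]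

/-- part of a word -/
def tau6w1p2 : List ℕ := [2, 8, 5, 6, 7, 3, 5, 4, 7, 3, 6, 1, 2, 9, 3, 5, 8, 7, 3, 7, 4, 8, 1, 3, 2, 1, 6, 5, 6, 3, 4, 2, 3, 1, 2, 3, 4, 8, 7, 8, 3, 6, 5, 4, 9, 7, 3, 2, 8, 7, 8, 5, 4, 1, 3, 2, 6, 5, 9, 6, 2, 3, 1, 5, 4, 7, 6, 3, 2, 1, 3, 7, 4, 3, 2, 6, 2, 3, 1, 5, 4, 7, 6, 3, 2, 1, 3, 7, 4, 3, 2, 9, 5, 6, 5, 6, 5, 9, 6, 4, 3, 7, 4, 6, 8, 5, 2, 3, 1, 2, 4, 6, 5, 4, 3, 2, 7, 1, 9, 5, 3, 7, 4, 5, 2, 3, 4, 2, 8, 5, 6, 7, 3, 5, 4, 7, 3, 6, 1, 2, 9, 3, 5, 8, 7, 3, 7, 4, 8, 1, 3, 2, 1, 6, 5, 6, 3, 4, 2, 3, 1, 2, 3, 4, 8, 7, 8, 3, 6, 5, 4, 9, 7, 3, 2, 8, 7, 8, 5, 4, 1, 3, 2, 6, 5, 9, 6, 4, 3, 7, 4, 6, 8,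 5, 2, 3, 1, 2, 4, 6, 5, 4, 3, 2, 7, 1, 9, 5, 3, 7, 4, 5, 2, 3, 4, 2, 8, 5, 6, 7, 3, 5, 4, 7, 3, 6, 1, 2, 9, 3, 5, 8, 7, 3, 7, 4, 8, 1, 3, 2, 1, 6, 5, 6, 3, 4, 7, 4, 8, 5]

/-- part of a word -/
def tau6w1p3 : List ℕ := [3, 6, 5, 7, 6, 4, 3, 5, 8, 4, 7, 6, 5, 9, 6, 4, 3, 7, 4, 6, 8, 5, 2, 3, 1, 2, 4, 6, 5, 4, 3, 2, 7, 1, 9, 5, 3, 7, 4, 5, 2, 3, 4, 2, 8, 5, 6, 7, 3, 5, 4, 7, 3, 6, 1, 2, 9, 3, 5, 8, 7, 3, 7, 4, 8, 1, 3, 2, 1, 6, 5, 6, 3, 4, 2, 3, 1, 2, 3, 4, 8, 7, 8, 3, 6, 5, 4, 9, 7, 3, 2, 8, 7, 8, 5, 4, 1, 3, 2, 7, 3, 4, 5, 3, 7, 2, 3, 1, 4, 7, 3, 2, 1, 3, 7, 4, 3, 2, 7, 3, 5, 4, 3, 7, 6, 5, 9, 6, 4, 3, 7, 4, 6, 8, 5, 2,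 3, 1, 2, 4, 6, 5, 4, 3, 2, 7, 1, 9, 5, 3, 7, 4, 5, 2, 3, 4, 2, 8, 5, 6, 7, 3, 5, 4, 7, 3, 6, 1, 2, 9, 3, 5, 8, 7, 3, 7, 4, 8, 1, 3, 2, 1, 6, 5, 6, 3, 4, 7, 4, 8, 5, 3, 6, 5, 7, 6, 4, 3, 5, 8, 4, 7, 5, 6, 5, 9, 6, 4, 3, 7, 4, 6, 8, 5, 2, 3, 1, 2, 4, 6, 5, 4, 3, 2, 7, 1, 9, 5, 3, 7, 4, 5, 2, 3, 4, 2, 8, 5, 6, 7, 3, 5, 4, 7, 3, 6, 1, 2, 9, 3]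

/-- part of a word -/
def tau6w1p4 : List ℕ := [5, 8, 7, 3, 7, 4, 8, 1, 3, 2, 1, 6, 5, 6, 3, 4, 7, 4, 8, 5, 3, 6, 5, 7, 6, 4, 3, 5, 8, 4, 7, 6, 5, 9, 6, 4, 3, 7, 4, 6, 8, 5, 2, 3, 1, 2, 4, 6, 5, 4, 3, 2, 7, 1, 9, 5, 3, 7, 4, 5, 2, 3, 4, 2, 8, 5, 6, 7, 3, 5, 4, 7, 3, 6, 1, 2, 9, 3, 5, 8, 7, 3, 7, 4, 8, 1, 3, 2, 1, 6, 5, 6, 3, 4, 2, 3, 1, 2, 3, 4, 8, 7, 8, 3, 6, 5, 4, 9, 7, 3, 2, 8, 7, 8, 5, 4, 1, 3, 2, 6, 5, 9, 6, 4, 3, 7, 4, 6, 8, 5, 2, 3, 1, 2, 4, 6, 5, 4, 3, 2, 7, 1, 9, 5, 3, 7, 4, 5, 2, 3, 4, 2, 8, 5, 6, 7, 3, 5, 4, 7, 3, 6, 1, 2, 9, 3, 5, 8, 7, 3, 7, 4, 8, 1, 3, 2, 1, 6, 5, 6, 3, 4, 7, 4, 8, 5, 3, 6, 5, 7, 6, 4, 3,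 5, 8, 4, 7, 8]

/-- part of a word -/
def tau6finp0 : List ℕ := [8, 7, 6, 5, 4, 3, 2, 6, 5, 9, 6, 4, 3, 7, 4, 6, 8, 5, 2, 3, 1, 2, 4, 6, 5, 4, 3, 2, 7, 1, 9, 5, 3, 7, 4, 5, 2, 3, 4, 2, 8, 5, 6, 7, 3, 5, 4, 7, 3, 6, 1, 2, 9, 3, 5, 8, 7, 3, 7, 4, 8, 1, 3, 2, 1, 6, 5, 6, 3, 4, 7, 4, 8, 5, 3, 6, 5, 7, 6, 4, 3, 5, 8, 4, 7, 5, 6, 5, 9, 6, 4, 3, 7, 4, 6, 8, 5, 2, 3, 1, 2, 4, 6, 5, 4, 3, 2, 7, 1, 9, 5, 3, 7, 4, 5, 2, 3, 4, 2, 8, 5, 6, 7, 3, 5, 4, 7, 3, 6, 1, 2, 9, 3, 5, 8, 7, 3, 7, 4, 8, 1, 3, 2, 1, 6, 5, 6, 3, 4, 7, 4, 8, 5, 3, 6, 5, 7, 6, 4, 3, 5, 8, 4, 7, 5, 7, 5, 6, 2, 3, 1, 4, 7, 3, 2, 1, 3, 7, 4, 3, 2, 4, 8, 7, 3, 4, 7, 5,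 6, 5, 9, 6, 4, 3, 7, 4, 6, 8, 5, 2, 3, 1, 2, 4, 6, 5, 4, 3, 2, 7, 1, 9, 5, 3, 7, 4, 5, 2, 3, 4, 2, 8, 5, 6, 7, 3, 5, 4, 7, 3, 6, 1, 2, 9, 3, 5, 8, 7, 3, 7, 4, 8, 1, 3, 2, 1, 6, 5, 6, 3]

/-- part of a word -/
def tau6finp1 : List ℕ := [4, 2, 3, 1, 2, 3, 4, 8, 7, 8, 3, 6, 5, 4, 9, 7, 3, 2, 8, 7, 8, 5, 4, 1, 3, 2, 6, 2, 3, 1, 4, 7, 3, 2, 1, 3, 7, 4, 3, 2, 4, 8, 7, 3, 4, 7, 6, 5, 9, 6, 2, 3, 1, 5, 4, 7, 6, 3, 2, 1, 3, 7, 4, 3, 2, 6, 2, 3, 1, 5, 4, 7, 6, 3, 2, 1, 3, 7, 4, 3, 2, 6, 4, 3, 7, 4, 6, 8, 5, 2, 3, 1, 2, 4, 6, 5, 4, 3, 2, 7, 1, 9, 5, 3, 7, 4, 5, 2, 3, 4, 2, 8, 5, 6, 7, 3, 5, 4, 7, 3, 6, 1, 2, 9, 3, 5, 8, 7, 3, 7, 4,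 8, 1, 3, 2, 1, 6, 5, 6, 3, 4, 7, 4, 8, 5, 3, 6, 5, 7, 6, 4, 3, 5, 8, 4, 7, 5, 6, 5, 9, 6, 2, 3, 1, 5, 4, 7, 6, 3, 2, 1, 3, 7, 4, 3, 2, 6, 4, 3, 7, 4, 6, 8, 5, 2, 3, 1, 2, 4, 6, 5, 4, 3, 2, 7, 1, 9, 5, 3, 7, 4, 5, 2, 3, 4, 2, 8, 5, 6, 7, 3, 5, 4, 7, 3, 6, 1, 2, 9, 3, 5, 8, 7, 3, 7, 4, 8, 1, 3, 2, 1, 6, 5, 6, 3, 4, 7, 4, 8, 5, 3, 6, 5, 7, 6, 4, 3, 5, 8, 4]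

/-- part of a word -/
def tau6finp2 : List ℕ := [7, 6, 5, 9, 6, 4, 3, 7, 4, 6, 8, 5, 2, 3, 1, 2, 4, 6, 5, 4, 3, 2, 7, 1, 9, 5, 3, 7, 4, 5, 2, 3, 4, 2, 8, 5, 6, 7, 3, 5, 4, 7, 3, 6, 1, 2, 9, 3, 5, 8, 7, 3, 7, 4, 8, 1, 3, 2, 1, 6, 5, 6, 3, 4, 2, 3, 1, 2, 3, 4, 8, 7, 8, 3, 6, 5, 4, 9, 7, 3, 2, 8, 7, 8, 5, 4, 1, 3, 2, 7, 3, 4, 5, 3, 7, 2, 3, 1, 4, 7, 3, 2, 1, 3, 7, 4, 3, 2, 7, 3, 5, 4, 3, 7, 5, 6, 5, 9, 6, 4, 3, 7, 4, 6, 8, 5, 2, 3, 1, 2, 4, 6, 5, 4, 3, 2, 7, 1, 9, 5, 3, 7, 4, 5, 2, 3, 4, 2, 8, 5, 6, 7, 3, 5, 4, 7, 3, 6, 1, 2, 9, 3, 5, 8, 7, 3, 7, 4, 8, 1, 3, 2, 1, 6, 5, 6, 3, 4, 2, 3, 1, 2, 3, 4, 8, 7, 8, 3, 6, 5, 4, 9, 7,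 3, 2, 8, 7, 8, 5, 4, 1, 3, 2, 6, 5, 9, 6, 4, 3, 7, 4, 6, 8, 5, 2, 3, 1, 2, 4, 6, 5, 4, 3, 2, 7, 1, 9, 5, 3, 7, 4, 5, 2, 3, 4, 2, 8, 5, 6, 7, 3, 5, 4, 7, 3, 6, 1, 2, 9, 3]

/-- part of a word -/
def tau6finp3 : List ℕ := [5, 8, 7, 3, 7, 4, 8, 1, 3, 2, 1, 6, 5, 6, 3, 4, 7, 4, 8, 5, 3, 6, 5, 7, 6, 4, 3, 5, 8, 4, 7, 5, 3, 5, 6, 5, 9, 6, 4, 3, 7, 4, 6, 8, 5, 2, 3, 1, 2, 4, 6, 5, 4, 3, 2, 7, 1, 9, 5, 3, 7, 4, 5, 2, 3, 4, 2, 8, 5, 6, 7, 3, 5, 4, 7, 3, 6, 1, 2, 9, 3, 5, 8, 7, 3, 7, 4, 8, 1, 3, 2, 1, 6, 5, 6, 3, 4, 2, 3, 1, 2, 3, 4, 8, 7, 8, 3, 6, 5, 4, 9, 7, 3, 2, 8, 7, 8, 5, 4, 1, 3, 2, 1, 8]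

/-- a loop -/
def tauLoop6 : LoopWit := ⟨[⟨3, [], 0, []⟩,
  ⟨3, [tau6w1p0, tau6w1p1, tau6w1p2, tau6w1p3, tau6w1p4].flatten, 1, [1, 2, 3, 4, 5, 6, 7, 3, 2, 1, 4, 3, 5, 8, 7, 3, 2, 1, 4, 3, 2, 5, 4, 3, 7, 3, 2, 8, 7, 9, 6, 5, 4, 3, 2, 1]⟩], [tau6finp0, tau6finp1, tau6finp2, tau6finp3].flatten, 1⟩

/-- part of a word -/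
def tau7w1p0 : List ℕ := [9, 1, 2, 3, 7, 8, 4, 5, 3, 4, 2, 3, 7, 6, 5, 4, 3, 2, 6, 2, 3, 1, 4, 7, 3, 2, 1, 3, 7, 4, 3, 2, 4, 8, 7, 3, 4, 7, 6, 5, 9, 6, 2, 3, 1, 5, 4, 7, 6, 3, 2, 1, 3, 7, 4, 3, 2, 9, 5, 6, 8, 3, 5, 7, 6, 2, 3, 1, 4, 7, 3, 2, 1, 3, 7, 4, 3, 2, 4, 8, 7, 3, 4, 7, 6, 2, 3, 1, 4, 7, 3, 2, 1, 3, 7, 4, 3, 2, 4, 8, 7, 3, 4, 7, 5, 6, 5, 9, 6, 4, 3, 7, 4, 6, 8, 5, 2, 3, 1, 2, 4, 6, 5, 4, 3, 2, 7, 1, 9, 5, 3, 7, 4, 5, 2, 3, 4, 2, 8, 5, 6, 7, 3, 5, 4, 7, 3, 6, 1, 2, 9, 3, 5, 8, 7, 3, 7, 4, 8, 1, 3, 2, 1, 6, 5, 6, 3, 4, 2, 3, 1, 2, 3, 4, 8, 7, 8, 3, 6, 5, 4, 9, 7, 3, 2, 8, 7, 8, 5, 4, 1, 3, 2, 6, 2, 3, 1, 4, 7, 3, 2,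 1, 3, 7, 4, 3, 2, 4, 8, 7, 3, 4, 7, 6, 5, 9, 6, 4, 3, 7, 4, 6, 8, 5, 2, 3, 1, 2, 4, 6, 5, 4, 3, 2, 7, 1, 9, 5, 3, 7, 4, 5, 2, 3, 4, 2, 8, 5, 6, 7]

/-- part of a word -/
def tau7w1p1 : List ℕ := [3, 5, 4, 7, 3, 6, 1, 2, 9, 3, 5, 8, 7, 3, 7, 4, 8, 1, 3, 2, 1, 6, 5, 6, 3, 4, 7, 4, 8, 5, 3, 6, 5, 7, 6, 4, 3, 5, 8, 4, 7, 5, 7, 3, 4, 5, 3, 7, 2, 3, 1, 4, 7, 3, 2, 1, 3, 7, 4, 3, 2, 7, 3, 5, 4, 3, 7, 5, 6, 5, 9, 6, 4, 3, 7, 4, 6, 8, 5, 2, 3, 1, 2, 4, 6, 5, 4, 3, 2, 7, 1, 9, 5, 3, 7, 4, 5, 2, 3, 4, 2, 8, 5, 6, 7, 3, 5, 4, 7, 3, 6, 1, 2, 9, 3, 5, 8, 7, 3, 7, 4, 8, 1, 3, 2, 1, 6, 5, 6, 3, 4, 2, 3, 1, 2, 3, 4, 8, 7, 8, 3, 6, 5, 4,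 9, 7, 3, 2, 8, 7, 8, 5, 4, 1, 3, 2, 7, 3, 4, 5, 3, 7, 2, 3, 1, 4, 7, 3, 2, 1, 3, 7, 4, 3, 2, 7, 3, 5, 4, 3, 7, 6, 5, 9, 6, 4, 3, 7, 4, 6, 8, 5, 2, 3, 1, 2, 4, 6, 5, 4, 3, 2, 7, 1, 9, 5, 3, 7, 4, 5, 2, 3, 4, 2, 8, 5, 6, 7, 3, 5, 4, 7, 3, 6, 1, 2, 9, 3, 5, 8, 7, 3, 7, 4, 8, 1, 3, 2, 1, 6, 5, 6, 3, 4, 7, 4, 8, 5, 3, 6]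

/-- part of a word -/
def tau7w1p2 : List ℕ := [5, 7, 6, 4, 3, 5, 8, 4, 7, 5, 6, 5, 9, 6, 4, 3, 7, 4, 6, 8, 5, 2, 3, 1, 2, 4, 6, 5, 4, 3, 2, 7, 1, 9, 5, 3, 7, 4, 5, 2, 3, 4, 2, 8, 5, 6, 7, 3, 5, 4, 7, 3, 6, 1, 2, 9, 3, 5, 8, 7, 3, 7, 4, 8, 1, 3, 2, 1, 6, 5, 6, 3, 4, 7, 4, 8, 5, 3, 6, 5, 7, 6, 4, 3, 5, 8, 4, 7, 5, 3, 5, 9, 1]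

/-- part of a word -/
def tau7finp0 : List ℕ := [4, 1, 2, 3, 7, 8, 5, 4, 3, 7, 6, 5, 4, 3, 1, 2, 6, 5, 9, 6, 4, 3, 7, 4, 6, 8, 5, 2, 3, 1, 2, 4, 6, 5, 4, 3, 2, 7, 1, 9, 5, 3, 7, 4, 5, 2, 3, 4, 2, 8, 5, 6, 7, 3, 5, 4, 7, 3, 6, 1, 2, 9, 3, 5, 8, 7, 3, 7, 4, 8, 1, 3, 2, 1, 6, 5, 6, 3, 4, 7, 4, 8, 5, 3, 6, 5, 7, 6, 4, 3, 5, 8, 4, 7, 6, 2, 3, 1, 4, 7, 3, 2, 1, 3, 7, 4, 3, 2, 4, 8, 7, 3, 4, 7, 6, 2, 3, 1, 4, 7, 3, 2, 1, 3, 7, 4, 3, 2, 4, 8, 7, 3, 4, 5, 6, 5, 9, 6, 4, 3, 7, 4, 6, 8, 5, 2, 3, 1, 2, 4, 6, 5, 4, 3, 2, 7, 1, 9, 5, 3, 7, 4, 5, 2, 3, 4, 2, 8, 5, 6, 7, 3, 5, 4, 7, 3, 6, 1, 2, 9, 3, 5, 8, 7, 3, 7, 4, 8, 1, 3, 2, 1, 6,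 5, 6, 3, 4, 2, 3, 1, 2, 3, 4, 8, 7, 8, 3, 6, 5, 4, 9, 7, 3, 2, 8, 7, 8, 5, 4, 1, 3, 2, 5, 6, 2, 3, 1, 4, 7, 3, 2, 1, 3, 7, 4, 3, 2, 4, 8, 7, 3, 4, 7, 6, 5, 9, 6, 4, 3, 7]

/-- part of a word -/
def tau7finp1 : List ℕ := [4, 6, 8, 5, 2, 3, 1, 2, 4, 6, 5, 4, 3, 2, 7, 1, 9, 5, 3, 7, 4, 5, 2, 3, 4, 2, 8, 5, 6, 7, 3, 5, 4, 7, 3, 6, 1, 2, 9, 3, 5, 8, 7, 3, 7, 4, 8, 1, 3, 2, 1, 6, 5, 6, 3, 4, 7, 4, 8, 5, 3, 6, 5, 7, 6, 4, 3, 5, 8, 4, 7, 5, 6, 5, 9, 6, 2, 3, 1, 5, 4, 7, 6, 3, 2, 1, 3, 7, 4, 3, 2, 9, 5, 6, 7, 3, 4, 5, 3, 7, 2, 3, 1, 4, 7, 3, 2, 1, 3, 7, 4, 3, 2, 7, 3, 5, 4, 3, 7, 5, 6, 5, 9, 6, 4, 3, 7, 4, 6, 8, 5, 2, 3, 1, 2, 4,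 6, 5, 4, 3, 2, 7, 1, 9, 5, 3, 7, 4, 5, 2, 3, 4, 2, 8, 5, 6, 7, 3, 5, 4, 7, 3, 6, 1, 2, 9, 3, 5, 8, 7, 3, 7, 4, 8, 1, 3, 2, 1, 6, 5, 6, 3, 4, 2, 3, 1, 2, 3, 4, 8, 7, 8, 3, 6, 5, 4, 9, 7, 3, 2, 8, 7, 8, 5, 4, 1, 3, 2, 7, 3, 4, 5, 3, 7, 2, 3, 1, 4, 7, 3, 2, 1, 3, 7, 4, 3, 2, 7, 3, 5, 4, 3, 7, 6, 5, 9, 6, 4, 3, 7, 4, 6, 8, 5, 2, 3, 1, 2, 4, 6]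

/-- part of a word -/
def tau7finp2 : List ℕ := [5, 4, 3, 2, 7, 1, 9, 5, 3, 7, 4, 5, 2, 3, 4, 2, 8, 5, 6, 7, 3, 5, 4, 7, 3, 6, 1, 2, 9, 3, 5, 8, 7, 3, 7, 4, 8, 1, 3, 2, 1, 6, 5, 6, 3, 4, 7, 4, 8, 5, 3, 6, 5, 7, 6, 4, 3, 5, 8, 4, 7, 5, 3, 5, 6, 5, 9, 6, 4, 3, 7, 4, 6, 8, 5, 2, 3, 1, 2, 4, 6, 5, 4, 3, 2, 7, 1, 9, 5, 3, 7, 4, 5, 2, 3, 4, 2, 8, 5, 6, 7, 3, 5, 4, 7, 3, 6, 1, 2, 9, 3, 5, 8, 7, 3, 7, 4, 8, 1, 3, 2, 1, 6, 5, 6, 3, 4, 2, 3, 1, 2, 3, 4, 8, 7, 8, 3, 6, 5, 4, 9, 7, 3, 2, 8, 7, 8, 5, 4, 1, 3, 2, 9, 8]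

/-- a loop -/
def tauLoop7 : LoopWit := ⟨[⟨3, [], 0, [1]⟩,
  ⟨3, [tau7w1p0, tau7w1p1, tau7w1p2].flatten, 1, [1, 2, 3, 4, 5, 6, 7, 3, 2, 1, 4, 3, 5, 4, 7, 8, 7, 3, 2, 1, 4, 3, 2, 5, 4, 7, 3, 4, 8, 7, 9, 6, 5, 4, 3, 2, 7, 3, 8, 7]⟩], [tau7finp0, tau7finp1, tau7finp2].flatten, 2⟩

/-- part of a word -/
def tau8finp0 : List ℕ := [8, 7, 6, 5, 4, 3, 2, 6, 5, 9, 6, 4, 3, 7, 4, 6, 8, 5, 2, 3, 1, 2, 4, 6, 5, 4, 3, 2, 7, 1, 9, 5, 3, 7, 4, 5, 2, 3, 4, 2, 8, 5, 6, 7, 3, 5, 4, 7, 3, 6, 1, 2, 9, 3, 5, 8, 7, 3, 7, 4, 8, 1, 3, 2, 1, 6, 5, 6, 3, 4, 7, 4, 8, 5, 3, 6, 5, 7, 6, 4, 3, 5, 8, 4, 7, 5, 6, 5, 9, 6, 4, 3, 7, 4, 6, 8, 5, 2, 3, 1,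 2, 4, 6, 5, 4, 3, 2, 7, 1, 9, 5, 3, 7, 4, 5, 2, 3, 4, 2, 8, 5, 6, 7, 3, 5, 4, 7, 3, 6, 1, 2, 9, 3, 5, 8, 7, 3, 7, 4, 8, 1, 3, 2, 1, 6, 5, 6, 3, 4, 7, 4, 8, 5, 3, 6, 5, 7, 6, 4, 3, 5, 8, 4, 7, 5, 7, 5, 6, 2, 3, 1, 4, 7, 3, 2, 1, 3, 7, 4, 3, 2, 4, 8, 7, 3, 4, 7, 5, 6, 5, 9, 6, 4, 3, 7, 4, 6, 8, 5, 2, 3, 1, 2, 4, 6, 5, 4, 3, 2, 7, 1, 9, 5, 3, 7, 4, 5, 2, 3, 4, 2, 8, 5, 6, 7, 3, 5, 4, 7, 3, 6, 1, 2, 9, 3, 5, 8, 7, 3, 7, 4, 8, 1, 3, 2, 1, 6, 5, 6, 3]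

/-- part of a word -/
def tau8finp1 : List ℕ := [4, 2, 3, 1, 2, 3, 4, 8, 7, 8, 3, 6, 5, 4, 9, 7, 3, 2, 8, 7, 8, 5, 4, 1, 3, 2, 6, 2, 3, 1, 4, 7, 3, 2, 1, 3, 7, 4, 3, 2, 4, 8, 7, 3, 4, 7, 6, 5, 9, 6, 2, 3, 1, 5, 4, 7, 6, 3, 2, 1, 3, 7, 4, 3, 2, 6, 2, 3, 1, 5, 4, 7, 6, 3, 2, 1, 3, 7, 4, 3, 2, 6, 4, 3, 7, 4, 6, 8, 5, 2, 3, 1, 2, 4, 6, 5, 4, 3, 2, 7, 1, 9, 5, 3, 7, 4, 5, 2, 3, 4, 2, 8, 5, 6, 7, 3, 5, 4, 7, 3, 6, 1, 2, 9, 3, 5, 8, 7, 3, 7, 4, 8, 1, 3, 2, 1, 6, 5, 6, 3, 4, 7, 4, 8, 5, 3, 6, 5, 7, 6, 4, 3, 5, 8, 4, 7, 5, 6, 5, 9, 6, 2, 3, 1, 5, 4, 7, 6, 3, 2, 1, 3, 7, 4, 3, 2, 6, 4, 3, 7, 4, 6, 8, 5, 2, 3, 1, 2, 4, 6, 5, 4, 3,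 2, 7, 1, 9, 5, 3, 7, 4, 5, 2, 3, 4, 2, 8, 5, 6, 7, 3, 5, 4, 7, 3, 6, 1, 2, 9, 3, 5, 8, 7, 3, 7, 4, 8, 1, 3, 2, 1, 6, 5, 6, 3, 4, 7, 4, 8, 5, 3, 6, 5, 7, 6, 4, 3, 5, 8, 4]

/-- part of a word -/
def tau8finp2 : List ℕ := [7, 6, 5, 9, 6, 4, 3, 7, 4, 6, 8, 5, 2, 3, 1, 2, 4, 6, 5, 4, 3, 2, 7, 1, 9, 5, 3, 7, 4, 5, 2, 3, 4, 2, 8, 5, 6, 7, 3, 5, 4, 7, 3, 6, 1, 2, 9, 3, 5, 8, 7, 3, 7, 4, 8, 1, 3, 2, 1, 6, 5, 6, 3, 4, 2, 3, 1, 2, 3, 4, 8, 7, 8, 3, 6, 5, 4, 9, 7, 3, 2, 8, 7, 8, 5, 4, 1, 3, 2, 7, 3, 4, 5, 3, 7, 2, 3, 1, 4, 7, 3, 2, 1, 3, 7, 4, 3, 2, 7, 3, 5, 4, 3, 7, 5, 6, 5, 9, 6, 4, 3, 7, 4, 6, 8, 5, 2, 3, 1, 2, 4, 6, 5, 4, 3, 2,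 7, 1, 9, 5, 3, 7, 4, 5, 2, 3, 4, 2, 8, 5, 6, 7, 3, 5, 4, 7, 3, 6, 1, 2, 9, 3, 5, 8, 7, 3, 7, 4, 8, 1, 3, 2, 1, 6, 5, 6, 3, 4, 2, 3, 1, 2, 3, 4, 8, 7, 8, 3, 6, 5, 4, 9, 7, 3, 2, 8, 7, 8, 5, 4, 1, 3, 2, 6, 5, 9, 6, 4, 3, 7, 4, 6, 8, 5, 2, 3, 1, 2, 4, 6, 5, 4, 3, 2, 7, 1, 9, 5, 3, 7, 4, 5, 2, 3, 4, 2, 8, 5, 6, 7, 3, 5, 4, 7, 3, 6, 1, 2, 9, 3]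

/-- part of a word -/
def tau8finp3 : List ℕ := [5, 8, 7, 3, 7, 4, 8, 1, 3, 2, 1, 6, 5, 6, 3, 4, 7, 4, 8, 5, 3, 6, 5, 7, 6, 4, 3, 5, 8, 4, 7, 5, 3, 5, 6, 5, 9, 6, 4, 3, 7, 4, 6, 8, 5, 2, 3, 1, 2, 4, 6, 5, 4, 3, 2, 7, 1, 9, 5, 3, 7, 4, 5, 2, 3, 4, 2, 8, 5, 6, 7, 3, 5, 4, 7, 3, 6, 1, 2, 9, 3, 5, 8, 7, 3, 7, 4, 8, 1, 3, 2, 1, 6, 5, 6, 3, 4, 2, 3, 1, 2, 3, 4, 8, 7, 8, 3, 6, 5, 4, 9, 7, 3, 2, 8, 7, 8, 5, 4, 1, 3, 2, 1, 8]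

/-- a loop -/
def tauLoop8 : LoopWit := ⟨[⟨4, [], 0, []⟩,
  ⟨5, [10, 0, 1, 2, 3, 4, 5, 6, 7, 3, 2, 1, 4, 3, 2, 8, 7, 3, 2, 1, 4, 3, 2, 5, 7, 3, 9, 10, 3, 4, 5, 6, 9, 3, 7, 8, 3, 2, 1, 0, 3, 7, 1, 2, 3, 4, 5, 6, 9, 4, 3, 7, 8, 7, 6, 5, 2, 3, 4, 1, 2, 3, 7, 1, 2, 3, 4, 5, 6, 4, 2, 3, 0, 3, 7, 4, 5, 3, 4, 1, 2, 3, 7, 8, 7, 3, 4, 2, 3, 7, 5, 4, 3, 2, 1, 0, 10, 1, 2, 3, 4, 5, 6, 9, 7, 8, 2, 3, 7, 3, 4, 5, 2, 3, 4, 1, 2, 3, 7, 8, 5, 3, 4, 1, 2, 3, 7, 6, 5, 4, 3, 2, 1], 0, [1, 2, 3, 4, 5, 6, 7, 3, 2, 1, 4, 3, 5, 8, 7, 3, 2, 1, 4, 3, 2, 5, 4, 3, 7, 3, 2, 8, 7, 9, 6, 5, 4, 3, 2, 1]⟩], [tau8finp0, tau8finp1, tau8finp2, tau8finp3].flatten,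 1⟩

/-- part of a word -/
def tau9finp0 : List ℕ := [4, 1, 2, 3, 7, 8, 5, 4, 3, 7, 6, 5, 4, 3, 1, 2, 6, 5, 9, 6, 4, 3, 7, 4, 6, 8, 5, 2, 3, 1, 2, 4, 6, 5, 4, 3, 2, 7, 1, 9, 5, 3, 7, 4, 5, 2, 3, 4, 2, 8, 5, 6, 7, 3, 5, 4, 7, 3, 6, 1, 2, 9, 3, 5, 8, 7, 3, 7, 4, 8, 1, 3, 2, 1, 6, 5, 6, 3, 4, 7, 4, 8, 5, 3, 6, 5, 7, 6, 4, 3, 5, 8, 4, 7, 6, 2, 3, 1, 4, 7, 3, 2, 1, 3, 7, 4, 3, 2, 4, 8, 7, 3, 4, 7, 6, 2, 3, 1, 4, 7, 3, 2, 1, 3, 7, 4, 3, 2, 4, 8, 7, 3, 4, 5, 6, 5, 9, 6, 4, 3, 7, 4, 6, 8, 5, 2, 3, 1, 2, 4, 6, 5, 4, 3, 2, 7, 1, 9, 5, 3, 7, 4, 5, 2, 3, 4, 2, 8, 5, 6, 7, 3, 5, 4, 7, 3, 6, 1, 2, 9, 3, 5, 8, 7, 3, 7, 4, 8, 1, 3, 2, 1,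 6, 5, 6, 3, 4, 2, 3, 1, 2, 3, 4, 8, 7, 8, 3, 6, 5, 4, 9, 7, 3, 2, 8, 7, 8, 5, 4, 1, 3, 2, 5, 6, 2, 3, 1, 4, 7, 3, 2, 1, 3, 7, 4, 3, 2, 4, 8, 7, 3, 4, 7, 6, 5, 9, 6, 4, 3, 7]

/-- part of a word -/
def tau9finp1 : List ℕ := [4, 6, 8, 5, 2, 3, 1, 2, 4, 6, 5, 4, 3, 2, 7, 1, 9, 5, 3, 7, 4, 5, 2, 3, 4, 2, 8, 5, 6, 7, 3, 5, 4, 7, 3, 6, 1, 2, 9, 3, 5, 8, 7, 3, 7, 4, 8, 1, 3, 2, 1, 6, 5, 6, 3, 4, 7, 4, 8, 5, 3, 6, 5, 7, 6, 4, 3, 5, 8, 4, 7, 5, 6, 5, 9, 6, 2, 3, 1, 5, 4, 7, 6, 3, 2, 1, 3, 7, 4, 3, 2, 9, 5, 6, 7, 3, 4, 5, 3, 7, 2, 3, 1, 4, 7, 3, 2, 1, 3, 7, 4, 3, 2, 7, 3, 5, 4, 3, 7, 5, 6, 5, 9, 6, 4, 3, 7, 4, 6, 8, 5, 2, 3, 1, 2,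 4, 6, 5, 4, 3, 2, 7, 1, 9, 5, 3, 7, 4, 5, 2, 3, 4, 2, 8, 5, 6, 7, 3, 5, 4, 7, 3, 6, 1, 2, 9, 3, 5, 8, 7, 3, 7, 4, 8, 1, 3, 2, 1, 6, 5, 6, 3, 4, 2, 3, 1, 2, 3, 4, 8, 7, 8, 3, 6, 5, 4, 9, 7, 3, 2, 8, 7, 8, 5, 4, 1, 3, 2, 7, 3, 4, 5, 3, 7, 2, 3, 1, 4, 7, 3, 2, 1, 3, 7, 4, 3, 2, 7, 3, 5, 4, 3, 7, 6, 5, 9, 6, 4, 3, 7, 4, 6, 8, 5, 2, 3, 1, 2, 4, 6]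

/-- part of a word -/
def tau9finp2 : List ℕ := [5, 4, 3, 2, 7, 1, 9, 5, 3, 7, 4, 5, 2, 3, 4, 2, 8, 5, 6, 7, 3, 5, 4, 7, 3, 6, 1, 2, 9, 3, 5, 8, 7, 3, 7, 4, 8, 1, 3, 2, 1, 6, 5, 6, 3, 4, 7, 4, 8, 5, 3, 6, 5, 7, 6, 4, 3, 5, 8, 4, 7, 5, 3, 5, 6, 5, 9, 6, 4, 3, 7, 4, 6, 8, 5, 2, 3, 1, 2, 4, 6, 5, 4, 3, 2, 7, 1, 9, 5, 3, 7, 4, 5, 2, 3, 4, 2, 8, 5, 6, 7, 3, 5, 4, 7, 3, 6, 1, 2, 9, 3, 5, 8, 7, 3, 7, 4, 8, 1, 3, 2, 1, 6, 5, 6, 3, 4, 2, 3, 1, 2, 3, 4, 8, 7, 8, 3, 6, 5, 4, 9, 7, 3, 2, 8, 7, 8, 5, 4, 1, 3, 2, 9, 8]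

/-- a loop -/
def tauLoop9 : LoopWit := ⟨[⟨4, [], 0, [1]⟩,
  ⟨5, [1, 10, 0, 1, 2, 3, 4, 5, 6, 7, 3, 2, 1, 4, 3, 2, 8, 7, 3, 2, 1, 4, 3, 2, 5, 7, 3, 9, 10, 3, 4, 5, 6, 9, 3, 7, 8, 3, 2, 1, 0, 3, 7, 1, 2, 3, 4, 5, 6, 9, 4, 3, 7, 8, 7, 6, 5, 2, 3, 4, 1, 2, 3, 7, 1, 2, 3, 4, 5, 6, 4, 2, 3, 0, 3, 7, 4, 5, 3, 4, 1, 2, 3, 7, 8, 7, 3, 4, 2, 3, 7, 5, 4, 3, 2, 1, 0, 10, 7, 8, 3, 7, 2, 3, 4, 5, 6, 9, 7, 8, 4, 3, 7, 4, 5, 2, 3, 4, 1, 2, 3, 7, 8, 7, 4, 5, 3, 4, 1, 2, 3, 7, 6, 5, 4, 3, 2, 1], 0, [1, 2, 3, 4, 5, 6, 7, 3, 2, 1, 4, 3, 5, 4, 7, 8, 7, 3, 2, 1, 4, 3, 2, 5, 4, 7, 3, 4, 8, 7, 9, 6, 5, 4, 3, 2, 7, 3, 8, 7]⟩], [tau9finp0, tau9finp1,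 tau9finp2].flatten, 2⟩

/-- part of a word -/
def tau10w1p0 : List ℕ := [6, 9, 7, 5, 3, 4, 2, 3, 7, 8, 4, 5, 3, 4, 2, 3, 7, 6, 5, 4, 3, 2, 6, 5, 9, 6, 4, 3, 7, 4, 6, 8, 5, 2, 3, 1, 2, 4, 6, 5, 4, 3, 2, 7, 1, 9, 5, 3, 7, 4, 5, 2, 3, 4, 2, 8, 5, 6, 7, 3, 5, 4, 7, 3, 6, 1, 2, 9, 3, 5, 8, 7, 3, 7, 4, 8, 1, 3, 2, 1, 6, 5, 6, 3, 4, 7, 4, 8, 5, 3, 6, 5, 7, 6, 4, 3, 5, 8, 4, 7, 5, 6, 5, 9, 6, 2, 3, 1, 5, 4, 7, 6, 3, 2, 1, 3, 7, 4, 3, 2, 9, 5, 2, 3, 1, 4, 7, 3, 2, 1, 3, 7, 4, 3, 2, 4, 8, 7, 3, 4, 7, 6, 5, 9, 6, 4, 3, 7, 4, 6, 8, 5, 2, 3, 1, 2, 4, 6, 5, 4, 3, 2, 7, 1, 9, 5, 3, 7, 4, 5, 2, 3, 4, 2, 8, 5, 6, 7, 3, 5, 4, 7, 3, 6, 1,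 2, 9, 3, 5, 8, 7, 3, 7, 4, 8, 1, 3, 2, 1, 6, 5, 6, 3, 4, 7, 4, 8, 5, 3, 6, 5, 7, 6, 4, 3, 5, 8, 4, 7, 5, 7, 5, 6, 5, 9, 6, 4, 3, 7, 4, 6, 8, 5, 2, 3, 1, 2, 4, 6, 5, 4, 3, 2, 7, 1, 9, 5, 3, 7, 4]

/-- part of a word -/
def tau10w1p1 : List ℕ := [5, 2, 3, 4, 2, 8, 5, 6, 7, 3, 5, 4, 7, 3, 6, 1, 2, 9, 3, 5, 8, 7, 3, 7, 4, 8, 1, 3, 2, 1, 6, 5, 6, 3, 4, 2, 3, 1, 2, 3, 4, 8, 7, 8, 3, 6, 5, 4, 9, 7, 3, 2, 8, 7, 8, 5, 4, 1, 3, 2, 6, 2, 3, 1, 4, 7, 3, 2, 1, 3, 7, 4, 3, 2, 4, 8, 7, 3, 4, 7, 6, 5, 9, 6, 2, 3, 1, 5, 4, 7, 6, 3, 2, 1, 3, 7, 4, 3, 2, 9, 5, 2, 3, 1, 4, 7, 3, 2, 1, 3, 7, 4, 3, 2, 4, 8, 7, 3, 4, 7, 6, 2, 3, 1, 4, 7, 3, 2,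 1, 3, 7, 4, 3, 2, 4, 8, 7, 3, 4, 7, 6, 5, 9, 6, 4, 3, 7, 4, 6, 8, 5, 2, 3, 1, 2, 4, 6, 5, 4, 3, 2, 7, 1, 9, 5, 3, 7, 4, 5, 2, 3, 4, 2, 8, 5, 6, 7, 3, 5, 4, 7, 3, 6, 1, 2, 9, 3, 5, 8, 7, 3, 7, 4, 8, 1, 3, 2, 1, 6, 5, 6, 3, 4, 7, 4, 8, 5, 3, 6, 5, 7, 6, 4, 3, 5, 8, 4, 7, 6, 5, 9, 6, 4, 3, 7, 4, 6, 8, 5, 2, 3, 1, 2, 4, 6, 5, 4, 3, 2, 7, 1, 9, 5, 3, 7, 4, 5, 2, 3, 4]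

/-- part of a word -/
def tau10w1p2 : List ℕ := [2, 8, 5, 6, 7, 3, 5, 4, 7, 3, 6, 1, 2, 9, 3, 5, 8, 7, 3, 7, 4, 8, 1, 3, 2, 1, 6, 5, 6, 3, 4, 2, 3, 1, 2, 3, 4, 8, 7, 8, 3, 6, 5, 4, 9, 7, 3, 2, 8, 7, 8, 5, 4, 1, 3, 2, 6, 5, 9, 6, 2, 3, 1, 5, 4, 7, 6, 3, 2, 1, 3, 7, 4, 3, 2, 6, 2, 3, 1, 5, 4, 7, 6, 3, 2, 1, 3, 7, 4, 3, 2, 9, 5, 6, 5, 6, 5, 9, 6, 4, 3, 7, 4, 6, 8, 5, 2, 3, 1, 2, 4, 6, 5, 4, 3, 2, 7, 1, 9, 5, 3, 7, 4, 5, 2, 3, 4, 2, 8, 5, 6, 7, 3, 5, 4, 7, 3, 6, 1, 2, 9, 3, 5, 8, 7, 3, 7, 4, 8, 1, 3, 2, 1, 6, 5, 6, 3, 4, 2, 3, 1, 2, 3, 4, 8, 7, 8, 3, 6, 5, 4, 9, 7, 3, 2, 8, 7, 8, 5, 4, 1, 3, 2, 6, 5, 9, 6, 4, 3, 7, 4, 6, 8,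 5, 2, 3, 1, 2, 4, 6, 5, 4, 3, 2, 7, 1, 9, 5, 3, 7, 4, 5, 2, 3, 4, 2, 8, 5, 6, 7, 3, 5, 4, 7, 3, 6, 1, 2, 9, 3, 5, 8, 7, 3, 7, 4, 8, 1, 3, 2, 1, 6, 5, 6, 3, 4, 7, 4, 8, 5]

/-- part of a word -/
def tau10w1p3 : List ℕ := [3, 6, 5, 7, 6, 4, 3, 5, 8, 4, 7, 6, 5, 9, 6, 4, 3, 7, 4, 6, 8, 5, 2, 3, 1, 2, 4, 6, 5, 4, 3, 2, 7, 1, 9, 5, 3, 7, 4, 5, 2, 3, 4, 2, 8, 5, 6, 7, 3, 5, 4, 7, 3, 6, 1, 2, 9, 3, 5, 8, 7, 3, 7, 4, 8, 1, 3, 2, 1, 6, 5, 6, 3, 4, 2, 3, 1, 2, 3, 4, 8, 7, 8, 3, 6, 5, 4, 9, 7, 3, 2, 8, 7, 8, 5, 4, 1, 3, 2, 7, 3, 4, 5, 3, 7, 2, 3, 1, 4, 7, 3, 2, 1, 3, 7, 4, 3, 2, 7, 3, 5, 4, 3, 7, 6, 5, 9, 6, 4, 3, 7, 4, 6, 8, 5, 2,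 3, 1, 2, 4, 6, 5, 4, 3, 2, 7, 1, 9, 5, 3, 7, 4, 5, 2, 3, 4, 2, 8, 5, 6, 7, 3, 5, 4, 7, 3, 6, 1, 2, 9, 3, 5, 8, 7, 3, 7, 4, 8, 1, 3, 2, 1, 6, 5, 6, 3, 4, 7, 4, 8, 5, 3, 6, 5, 7, 6, 4, 3, 5, 8, 4, 7, 5, 6, 5, 9, 6, 4, 3, 7, 4, 6, 8, 5, 2, 3, 1, 2, 4, 6, 5, 4, 3, 2, 7, 1, 9, 5, 3, 7, 4, 5, 2, 3, 4, 2, 8, 5, 6, 7, 3, 5, 4, 7, 3, 6, 1, 2, 9, 3]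

/-- part of a word -/
def tau10w1p4 : List ℕ := [5, 8, 7, 3, 7, 4, 8, 1, 3, 2, 1, 6, 5, 6, 3, 4, 7, 4, 8, 5, 3, 6, 5, 7, 6, 4, 3, 5, 8, 4, 7, 6, 5, 9, 6, 4, 3, 7, 4, 6, 8, 5, 2, 3, 1, 2, 4, 6, 5, 4, 3, 2, 7, 1, 9, 5, 3, 7, 4, 5, 2, 3, 4, 2, 8, 5, 6, 7, 3, 5, 4, 7, 3, 6, 1, 2, 9, 3, 5, 8, 7, 3, 7, 4, 8, 1, 3, 2, 1, 6, 5, 6, 3, 4, 2, 3, 1, 2, 3, 4, 8, 7, 8, 3, 6, 5, 4, 9, 7, 3, 2, 8, 7, 8, 5, 4, 1, 3, 2, 6, 5, 9, 6, 4, 3, 7, 4, 6, 8, 5, 2, 3, 1, 2, 4, 6, 5, 4, 3, 2, 7, 1, 9, 5, 3, 7, 4, 5, 2, 3, 4, 2, 8, 5, 6, 7, 3, 5, 4, 7, 3, 6, 1, 2, 9, 3, 5, 8, 7, 3, 7, 4, 8, 1, 3, 2, 1, 6, 5, 6, 3, 4, 7, 4, 8, 5, 3, 6, 5, 7, 6, 4, 3,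 5, 8, 4, 7, 8]

/-- a loop -/
def tauLoop10 : LoopWit := ⟨[⟨5, [], 0, []⟩,
  ⟨4, [tau10w1p0, tau10w1p1, tau10w1p2, tau10w1p3, tau10w1p4].flatten, 1, [1, 2, 3, 4, 5, 6, 7, 3, 2, 1, 4, 3, 5, 8, 7, 3, 2, 1, 4, 3, 2, 5, 4, 3, 7, 3, 2, 8, 7, 9, 6, 5, 4, 3, 2, 1]⟩], [1, 2, 3, 4, 5, 6, 7, 3, 2, 1, 4, 3, 5, 8, 7, 3, 2, 1, 4, 3, 2, 5, 4, 3, 7, 3, 2, 8, 7, 9, 6, 5, 4, 3, 2, 1, 10, 0, 1, 2, 3, 4, 5, 7, 3, 2, 4, 3, 7, 8, 7, 3, 2, 1, 4, 3, 5, 4, 7, 3, 0, 3, 2, 4, 6, 5, 4, 3, 2, 1, 7, 3, 2, 1, 4, 3, 2, 5, 6, 7, 8, 7, 3, 4, 9, 6, 5, 4, 3, 2, 1, 7, 3, 0, 1, 2, 3, 8, 7, 3, 9, 6, 5, 4, 3, 10, 9, 3, 7, 5, 2, 3, 4, 1, 2, 3, 7, 8, 2, 3, 4,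 1, 2, 3, 7, 6, 5, 4, 3, 2, 1, 0, 10], 0⟩

/-- part of a word -/
def tau11w1p0 : List ℕ := [9, 1, 2, 3, 7, 8, 4, 5, 3, 4, 2, 3, 7, 6, 5, 4, 3, 2, 6, 2, 3, 1, 4, 7, 3, 2, 1, 3, 7, 4, 3, 2, 4, 8, 7, 3, 4, 7, 6, 5, 9, 6, 2, 3, 1, 5, 4, 7, 6, 3, 2, 1, 3, 7, 4, 3, 2, 9, 5, 6, 8, 3, 5, 7, 6, 2, 3, 1, 4, 7, 3, 2, 1, 3, 7, 4, 3, 2, 4, 8, 7, 3, 4, 7, 6, 2, 3, 1, 4, 7, 3, 2, 1, 3, 7, 4, 3, 2, 4, 8, 7, 3, 4, 7, 5, 6, 5, 9, 6, 4, 3, 7, 4, 6, 8, 5, 2, 3, 1, 2, 4, 6, 5, 4, 3, 2, 7, 1, 9, 5, 3, 7, 4, 5, 2, 3, 4, 2, 8, 5, 6, 7, 3, 5, 4, 7, 3, 6, 1, 2, 9, 3, 5, 8, 7, 3, 7, 4, 8, 1, 3, 2, 1, 6, 5, 6, 3, 4, 2, 3, 1, 2, 3, 4, 8, 7, 8, 3, 6,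 5, 4, 9, 7, 3, 2, 8, 7, 8, 5, 4, 1, 3, 2, 6, 2, 3, 1, 4, 7, 3, 2, 1, 3, 7, 4, 3, 2, 4, 8, 7, 3, 4, 7, 6, 5, 9, 6, 4, 3, 7, 4, 6, 8, 5, 2, 3, 1, 2, 4, 6, 5, 4, 3, 2, 7, 1, 9, 5, 3, 7, 4, 5, 2, 3, 4, 2, 8, 5, 6, 7]

/-- part of a word -/
def tau11w1p1 : List ℕ := [3, 5, 4, 7, 3, 6, 1, 2, 9, 3, 5, 8, 7, 3, 7, 4, 8, 1, 3, 2, 1, 6, 5, 6, 3, 4, 7, 4, 8, 5, 3, 6, 5, 7, 6, 4, 3, 5, 8, 4, 7, 5, 7, 3, 4, 5, 3, 7, 2, 3, 1, 4, 7, 3, 2, 1, 3, 7, 4, 3, 2, 7, 3, 5, 4, 3, 7, 5, 6, 5, 9, 6, 4, 3, 7, 4, 6, 8, 5, 2, 3, 1, 2, 4, 6, 5, 4, 3, 2, 7, 1, 9, 5, 3, 7, 4, 5, 2, 3, 4, 2, 8, 5, 6, 7, 3, 5, 4, 7, 3, 6, 1, 2, 9, 3, 5, 8, 7, 3, 7, 4, 8,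 1, 3, 2, 1, 6, 5, 6, 3, 4, 2, 3, 1, 2, 3, 4, 8, 7, 8, 3, 6, 5, 4, 9, 7, 3, 2, 8, 7, 8, 5, 4, 1, 3, 2, 7, 3, 4, 5, 3, 7, 2, 3, 1, 4, 7, 3, 2, 1, 3, 7, 4, 3, 2, 7, 3, 5, 4, 3, 7, 6, 5, 9, 6, 4, 3, 7, 4, 6, 8, 5, 2, 3, 1, 2, 4, 6, 5, 4, 3, 2, 7, 1, 9, 5, 3, 7, 4, 5, 2, 3, 4, 2, 8, 5, 6, 7, 3, 5, 4, 7, 3, 6, 1, 2, 9, 3, 5, 8, 7, 3, 7, 4, 8, 1, 3, 2, 1, 6, 5, 6, 3, 4, 7, 4, 8, 5, 3, 6]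

/-- part of a word -/
def tau11w1p2 : List ℕ := [5, 7, 6, 4, 3, 5, 8, 4, 7, 5, 6, 5, 9, 6, 4, 3, 7, 4, 6, 8, 5, 2, 3, 1, 2, 4, 6, 5, 4, 3, 2, 7, 1, 9, 5, 3, 7, 4, 5, 2, 3, 4, 2, 8, 5, 6, 7, 3, 5, 4, 7, 3, 6, 1, 2, 9, 3, 5, 8, 7, 3, 7, 4, 8, 1, 3, 2, 1, 6, 5, 6, 3, 4, 7, 4, 8, 5, 3, 6, 5, 7, 6, 4, 3, 5, 8, 4, 7, 5, 3, 5, 9, 1]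

/-- a loop -/
def tauLoop11 : LoopWit := ⟨[⟨5, [], 0, [1]⟩,
  ⟨4, [tau11w1p0, tau11w1p1, tau11w1p2].flatten, 1, [1, 2, 3, 4, 5, 6, 7, 3, 2, 1, 4, 3, 5, 4, 7, 8, 7, 3, 2, 1, 4, 3, 2, 5, 4, 7, 3, 4, 8, 7, 9, 6, 5, 4, 3, 2, 7, 3, 8, 7]⟩], [1, 2, 3, 4, 5, 6, 7, 3, 2, 1, 4, 3, 5, 4, 7, 8, 7, 3, 2, 1, 4, 3, 2, 5, 4, 7, 3, 4, 8, 7, 9, 6, 5, 4, 3, 2, 7, 3, 8, 7, 10, 0, 1, 2, 3, 4, 5, 7, 3, 2, 4, 3, 7, 8, 7, 3, 2, 1, 4, 3, 5, 4, 7, 3, 0, 3, 2, 4, 6, 5, 4, 3, 2, 1, 7, 3, 2, 1, 4, 3, 2, 5, 6, 7, 8, 7, 3, 4, 9, 6, 5, 4, 3, 2, 1, 7, 3, 0, 1, 2, 3, 8, 7, 3, 9, 6, 5, 4, 3, 10, 9, 3, 7, 5, 2, 3, 4, 1, 2, 3, 7, 8, 2, 3, 4, 1, 2, 3, 7,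 6, 5, 4, 3, 2, 1, 0, 10, 1], 0⟩

/-- a loop -/
def tauLoop12 : LoopWit := ⟨[⟨6, [], 0, []⟩,
  ⟨8, [1, 0, 10, 0, 1, 2, 3, 4, 5, 6, 7, 3, 2, 1, 4, 3, 2, 8, 7, 3, 2, 1, 4, 3, 2, 5, 7, 3, 9, 10, 3, 4, 5, 6, 9, 3, 7, 8, 3, 2, 1, 0, 3, 7, 1, 2, 3, 4, 5, 6, 9, 4, 3, 7, 8, 7, 6, 5, 2, 3, 4, 1, 2, 3, 7, 1, 2, 3, 4, 5, 6, 4, 2, 3, 0, 3, 7, 4, 5, 3, 4, 1, 2, 3, 7, 8, 7, 3, 4, 2, 3, 7, 5, 4, 3, 2, 1, 0, 10, 7, 0, 1, 2, 3, 4, 5, 6, 9, 7, 8, 3, 7, 4, 5, 2, 3, 4, 1, 2, 3, 7, 8, 5, 3, 4, 1, 2, 3, 7, 6, 5, 4, 3, 2, 1], 0, [7]⟩], [1, 2, 3, 4, 5, 6, 7, 3, 2, 1, 4, 3, 5, 8, 7, 3, 2, 1, 4, 3, 2, 5, 4, 7, 3, 8, 7, 9, 6, 5, 4, 3, 2, 1, 0, 7,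 10, 0, 1, 2, 3, 4, 5, 7, 3, 2, 4, 3, 7, 8, 7, 3, 2, 1, 4, 3, 5, 4, 7, 3, 0, 3, 2, 4, 6, 5, 4, 3, 2, 1, 7, 3, 2, 1, 4, 3, 2, 5, 6, 7, 8, 7, 3, 4, 9, 6, 5, 4, 3, 2, 1, 7, 3, 0, 1, 2, 3, 8, 7, 3, 9, 6, 5, 4, 3, 10, 9, 3, 7, 5, 2, 3, 4, 1, 2, 3, 7, 8, 2, 3, 4, 1, 2, 3, 7, 6, 5, 4, 3, 2, 1, 0, 10, 0, 1], 0⟩

/-- a loop -/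
def tauLoop13 : LoopWit := ⟨[⟨6, [1, 0, 1, 0, 1], 0, []⟩,
  ⟨8, [1, 0, 10, 0, 1, 2, 3, 4, 5, 6, 7, 3, 2, 1, 4, 3, 2, 8, 7, 3, 2, 1, 4, 3, 2, 5, 7, 3, 9, 10, 3, 4, 5, 6, 9, 3, 7, 8, 3, 2, 1, 0, 3, 7, 1, 2, 3, 4, 5, 6, 9, 4, 3, 7, 8, 7, 6, 5, 2, 3, 4, 1, 2, 3, 7, 1, 2, 3, 4, 5, 6, 4, 2, 3, 0, 3, 7, 4, 5, 3, 4, 1, 2, 3, 7, 8, 7, 3, 4, 2, 3, 7, 5, 4, 3, 2, 1, 0, 10, 7, 0, 1, 2, 3, 4, 5, 6, 9, 7, 8, 3, 7, 4, 5, 2, 3, 4, 1, 2, 3, 7, 8, 5, 3, 4, 1, 2, 3, 7, 6, 5, 4, 3, 2, 1], 0, [7]⟩], [1, 2, 3, 4, 5, 6, 7, 3, 2, 1, 4, 3, 5, 8, 7, 3, 2, 1, 4, 3, 2, 5, 4, 7, 3, 8, 7, 9, 6, 5, 4, 3, 2, 1, 0, 7, 10, 0, 1, 2, 3, 4, 5, 7, 3, 2, 4,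 3, 7, 8, 7, 3, 2, 1, 4, 3, 5, 4, 7, 3, 0, 3, 2, 4, 6, 5, 4, 3, 2, 1, 7, 3, 2, 1, 4, 3, 2, 5, 6, 7, 8, 7, 3, 4, 9, 6, 5, 4, 3, 2, 1, 7, 3, 0, 1, 2, 3, 8, 7, 3, 9, 6, 5, 4, 3, 10, 9, 3, 7, 5, 2, 3, 4, 1, 2, 3, 7, 8, 2, 3, 4, 1, 2, 3, 7, 6, 5, 4, 3, 2, 1, 0, 10, 1, 0, 1], 0⟩

/-- part of a word -/
def tau14w1p0 : List ℕ := [5, 6, 9, 6, 5, 3, 4, 2, 3, 7, 8, 7, 4, 5, 3, 4, 2, 3, 7, 6, 5, 4, 3, 2, 6, 2, 3, 1, 4, 7, 3, 2, 1, 3, 7, 4, 3, 2, 4, 8, 7, 3, 4, 3, 5, 6, 2, 3, 1, 4, 7, 3, 2, 1, 3, 7, 4, 3, 2, 4, 8, 7, 3, 4, 7, 6, 2, 3, 1, 4, 7, 3, 2, 1, 3, 7, 4, 3, 2, 4, 8, 7, 3, 4, 6, 5, 9, 6, 4, 3, 7, 4, 6, 8, 5, 2, 3, 1, 2, 4, 6, 5,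 4, 3, 2, 7, 1, 9, 5, 3, 7, 4, 5, 2, 3, 4, 2, 8, 5, 6, 7, 3, 5, 4, 7, 3, 6, 1, 2, 9, 3, 5, 8, 7, 3, 7, 4, 8, 1, 3, 2, 1, 6, 5, 6, 3, 4, 7, 4, 8, 5, 3, 6, 5, 7, 6, 4, 3, 5, 8, 4, 7, 6, 5, 9, 6, 4, 3, 7, 4, 6, 8, 5, 2, 3, 1, 2, 4, 6, 5, 4, 3, 2, 7, 1, 9, 5, 3, 7, 4, 5, 2, 3, 4, 2, 8, 5, 6, 7, 3, 5, 4, 7, 3, 6, 1, 2, 9, 3, 5, 8, 7, 3, 7, 4, 8, 1, 3, 2, 1, 6, 5, 6, 3, 4, 2, 3, 1, 2, 3, 4, 8, 7, 8, 3, 6, 5, 4, 9, 7, 3, 2, 8, 7, 8, 5, 4, 1, 3, 2]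

/-- part of a word -/
def tau14w1p1 : List ℕ := [6, 5, 9, 6, 2, 3, 1, 5, 4, 7, 6, 3, 2, 1, 3, 7, 4, 3, 2, 9, 5, 2, 3, 1, 4, 7, 3, 2, 1, 3, 7, 4, 3, 2, 4, 8, 7, 3, 4, 7, 6, 5, 9, 6, 2, 3, 1, 5, 4, 7, 6, 3, 2, 1, 3, 7, 4, 3, 2, 6, 4, 3, 7, 4, 6, 8, 5, 2, 3, 1, 2, 4, 6, 5, 4, 3, 2, 7, 1, 9, 5, 3, 7, 4, 5, 2, 3, 4, 2, 8, 5, 6, 7, 3, 5, 4, 7, 3, 6, 1, 2, 9, 3, 5, 8, 7, 3, 7, 4, 8, 1, 3, 2, 1, 6, 5, 6, 3, 4, 7, 4, 8, 5, 3, 6, 5, 7, 6, 4, 3, 5, 8, 4, 7, 5, 6, 5, 9, 6, 4, 3, 7, 4, 6, 8, 5, 2, 3, 1, 2, 4, 6, 5, 4, 3, 2, 7, 1, 9, 5, 3, 7, 4, 5, 2, 3, 4, 2, 8, 5, 6, 7, 3, 5, 4, 7, 3, 6, 1, 2, 9, 3, 5, 8, 7, 3, 7, 4, 8, 1, 3, 2, 1,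 6, 5, 6, 3, 4, 7, 4, 8, 5, 3, 6, 5, 7, 6, 4, 3, 5, 8, 4, 7, 6, 5, 9, 6, 4, 3, 7, 4, 6, 8, 5, 2, 3, 1, 2, 4, 6, 5, 4, 3, 2, 7, 1, 9, 5, 3, 7, 4, 5, 2, 3, 4, 2, 8, 5, 6, 7]

/-- part of a word -/
def tau14w1p2 : List ℕ := [3, 5, 4, 7, 3, 6, 1, 2, 9, 3, 5, 8, 7, 3, 7, 4, 8, 1, 3, 2, 1, 6, 5, 6, 3, 4, 2, 3, 1, 2, 3, 4, 8, 7, 8, 3, 6, 5, 4, 9, 7, 3, 2, 8, 7, 8, 5, 4, 1, 3, 2, 6, 5, 9, 6, 2, 3, 1, 5, 4, 7, 6, 3, 2, 1, 3, 7, 4, 3, 2, 9, 5, 6, 7, 3, 4, 5, 3, 7, 2, 3, 1, 4, 7, 3, 2, 1, 3, 7, 4, 3, 2, 7, 3, 5, 4, 3, 7, 6, 5, 9, 6, 4, 3, 7, 4, 6, 8, 5, 2, 3, 1, 2, 4, 6, 5, 4, 3, 2, 7, 1, 9, 5, 3, 7, 4, 5, 2, 3, 4, 2, 8, 5, 6, 7, 3,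 5, 4, 7, 3, 6, 1, 2, 9, 3, 5, 8, 7, 3, 7, 4, 8, 1, 3, 2, 1, 6, 5, 6, 3, 4, 7, 4, 8, 5, 3, 6, 5, 7, 6, 4, 3, 5, 8, 4, 7, 5, 6, 5, 9, 6, 4, 3, 7, 4, 6, 8, 5, 2, 3, 1, 2, 4, 6, 5, 4, 3, 2, 7, 1, 9, 5, 3, 7, 4, 5, 2, 3, 4, 2, 8, 5, 6, 7, 3, 5, 4, 7, 3, 6, 1, 2, 9, 3, 5, 8, 7, 3, 7, 4, 8, 1, 3, 2, 1, 6, 5, 6, 3, 4, 7, 4, 8, 5, 3, 6, 5, 7, 6, 4]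

/-- part of a word -/
def tau14w1p3 : List ℕ := [3, 5, 8, 4, 7, 5, 7, 3, 4, 5, 3, 7, 2, 3, 1, 4, 7, 3, 2, 1, 3, 7, 4, 3, 2, 7, 3, 5, 4, 3, 7, 6, 5, 9, 6, 4, 3, 7, 4, 6, 8, 5, 2, 3, 1, 2, 4, 6, 5, 4, 3, 2, 7, 1, 9, 5, 3, 7, 4, 5, 2, 3, 4, 2, 8, 5, 6, 7, 3, 5, 4, 7, 3, 6, 1, 2, 9, 3, 5, 8, 7, 3, 7, 4, 8, 1, 3, 2, 1, 6, 5, 6, 3, 4, 7, 4, 8, 5, 3, 6, 5, 7, 6, 4, 3, 5, 8, 4, 7, 5, 3, 5, 6, 5, 9, 6, 4, 3, 7, 4, 6, 8, 5, 2, 3, 1, 2, 4, 6, 5, 4, 3, 2, 7, 1, 9, 5, 3, 7, 4, 5, 2, 3, 4, 2, 8, 5, 6, 7, 3, 5, 4, 7, 3, 6, 1, 2, 9, 3, 5, 8, 7, 3, 7, 4, 8, 1, 3, 2, 1, 6, 5, 6, 3, 4, 2, 3, 1, 2, 3, 4, 8, 7, 8, 3, 6, 5, 4, 9, 7, 3, 2, 8,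 7, 8, 5, 4, 1, 3, 2, 9, 1, 8]

/-- part of a word -/
def tau14finp0 : List ℕ := [6, 9, 6, 5, 3, 4, 1, 2, 3, 7, 8, 4, 5, 3, 4, 2, 3, 7, 6, 5, 4, 3, 2, 6, 5, 9, 6, 2, 3, 1, 5, 4, 7, 6, 3, 2, 1, 3, 7, 4, 3, 2, 9, 5, 2, 3, 1, 4, 7, 3, 2, 1, 3, 7, 4, 3, 2, 4, 8, 7, 3, 4, 7, 8, 5, 6, 5, 9, 6, 4, 3, 7, 4, 6, 8, 5, 2, 3, 1, 2, 4, 6, 5, 4, 3, 2, 7, 1, 9, 5, 3, 7, 4, 5, 2, 3, 4, 2, 8, 5, 6, 7, 3, 5, 4, 7, 3, 6, 1, 2, 9, 3, 5, 8, 7, 3, 7, 4, 8, 1, 3, 2, 1, 6, 5, 6, 3, 4, 2, 3, 1, 2, 3, 4, 8, 7, 8, 3, 6, 5, 4, 9, 7, 3, 2, 8, 7, 8, 5, 4, 1, 3, 2, 7, 6, 2, 3, 1, 4, 7, 3, 2, 1, 3, 7, 4, 3, 2, 4, 8, 7, 3, 4, 7, 6, 5, 9, 6, 2, 3, 1, 5,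 4, 7, 6, 3, 2, 1, 3, 7, 4, 3, 2, 6, 4, 3, 7, 4, 6, 8, 5, 2, 3, 1, 2, 4, 6, 5, 4, 3, 2, 7, 1, 9, 5, 3, 7, 4, 5, 2, 3, 4, 2, 8, 5, 6, 7, 3, 5, 4, 7, 3, 6, 1, 2, 9, 3, 5, 8, 7, 3, 7, 4, 8, 1, 3, 2, 1, 6, 5]

/-- part of a word -/
def tau14finp1 : List ℕ := [6, 3, 4, 7, 4, 8, 5, 3, 6, 5, 7, 6, 4, 3, 5, 8, 4, 7, 6, 2, 3, 1, 4, 7, 3, 2, 1, 3, 7, 4, 3, 2, 4, 8, 7, 3, 4, 7, 6, 5, 9, 6, 2, 3, 1, 5, 4, 7, 6, 3, 2, 1, 3, 7, 4, 3, 2, 9, 5, 6, 8, 6, 5, 9, 6, 2, 3, 1, 5, 4, 7, 6, 3, 2, 1, 3, 7, 4, 3, 2, 9, 5, 6, 8, 7, 3, 4, 5, 3, 7, 2, 3, 1, 4, 7, 3, 2, 1, 3, 7, 4, 3, 2, 7, 3, 5, 4, 3, 7, 6, 5, 9, 6, 4, 3, 7, 4, 6, 8, 5, 2, 3, 1, 2,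 4, 6, 5, 4, 3, 2, 7, 1, 9, 5, 3, 7, 4, 5, 2, 3, 4, 2, 8, 5, 6, 7, 3, 5, 4, 7, 3, 6, 1, 2, 9, 3, 5, 8, 7, 3, 7, 4, 8, 1, 3, 2, 1, 6, 5, 6, 3, 4, 7, 4, 8, 5, 3, 6, 5, 7, 6, 4, 3, 5, 8, 4, 7, 5, 6, 5, 9, 6, 4, 3, 7, 4, 6, 8, 5, 2, 3, 1, 2, 4, 6, 5, 4, 3, 2, 7, 1, 9, 5, 3, 7, 4, 5, 2, 3, 4, 2, 8, 5, 6, 7, 3, 5, 4, 7, 3, 6, 1, 2, 9, 3, 5, 8, 7, 3, 7, 4, 8, 1, 3, 2, 1, 6, 5, 6, 3]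

/-- part of a word -/
def tau14finp2 : List ℕ := [4, 7, 4, 8, 5, 3, 6, 5, 7, 6, 4, 3, 5, 8, 4, 7, 5, 3, 5, 6, 5, 9, 6, 4, 3, 7, 4, 6, 8, 5, 2, 3, 1, 2, 4, 6, 5, 4, 3, 2, 7, 1, 9, 5, 3, 7, 4, 5, 2, 3, 4, 2, 8, 5, 6, 7, 3, 5, 4, 7, 3, 6, 1, 2, 9, 3, 5, 8, 7, 3, 7, 4, 8, 1, 3, 2, 1, 6, 5, 6, 3, 4, 2, 3, 1, 2, 3, 4, 8, 7, 8, 3, 6, 5, 4, 9, 7, 3, 2, 8, 7, 8, 5, 4, 1, 3, 2, 1, 8]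

/-- a loop -/
def tauLoop14 : LoopWit := ⟨[⟨7, [], 0, []⟩,
  ⟨7, [tau14w1p0, tau14w1p1, tau14w1p2, tau14w1p3].flatten, 2, [6, 5, 4, 3, 2, 1, 7, 3, 2]⟩], [tau14finp0, tau14finp1, tau14finp2].flatten, 0⟩

/-- part of a word -/
def tau15w1p0 : List ℕ := [5, 6, 9, 6, 5, 3, 4, 2, 3, 7, 8, 7, 4, 5, 3, 4, 2, 3, 7, 6, 5, 4, 3, 2, 6, 2, 3, 1, 4, 7, 3, 2, 1, 3, 7, 4, 3, 2, 4, 8, 7, 3, 4, 3, 5, 6, 2, 3, 1, 4, 7, 3, 2, 1, 3, 7, 4, 3, 2, 4, 8, 7, 3, 4, 7, 6, 2, 3, 1, 4, 7, 3, 2, 1, 3, 7, 4, 3, 2, 4, 8, 7, 3, 4, 6, 5, 9, 6, 4, 3, 7, 4, 6, 8, 5, 2, 3, 1, 2, 4, 6, 5, 4, 3, 2, 7, 1, 9, 5, 3, 7, 4, 5, 2, 3, 4, 2, 8, 5, 6, 7, 3, 5, 4, 7,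 3, 6, 1, 2, 9, 3, 5, 8, 7, 3, 7, 4, 8, 1, 3, 2, 1, 6, 5, 6, 3, 4, 7, 4, 8, 5, 3, 6, 5, 7, 6, 4, 3, 5, 8, 4, 7, 6, 5, 9, 6, 4, 3, 7, 4, 6, 8, 5, 2, 3, 1, 2, 4, 6, 5, 4, 3, 2, 7, 1, 9, 5, 3, 7, 4, 5, 2, 3, 4, 2, 8, 5, 6, 7, 3, 5, 4, 7, 3, 6, 1, 2, 9, 3, 5, 8, 7, 3, 7, 4, 8, 1, 3, 2, 1, 6, 5, 6, 3, 4, 2, 3, 1, 2, 3, 4, 8, 7, 8, 3, 6, 5, 4, 9, 7, 3, 2, 8, 7, 8, 5, 4, 1, 3, 2]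

/-- part of a word -/
def tau15w1p1 : List ℕ := [6, 5, 9, 6, 2, 3, 1, 5, 4, 7, 6, 3, 2, 1, 3, 7, 4, 3, 2, 9, 5, 2, 3, 1, 4, 7, 3, 2, 1, 3, 7, 4, 3, 2, 4, 8, 7, 3, 4, 7, 6, 5, 9, 6, 2, 3, 1, 5, 4, 7, 6, 3, 2, 1, 3, 7, 4, 3, 2, 6, 4, 3, 7, 4, 6, 8, 5, 2, 3, 1, 2, 4, 6, 5, 4, 3, 2, 7, 1, 9, 5, 3, 7, 4, 5, 2, 3, 4, 2, 8, 5, 6, 7, 3, 5, 4, 7, 3, 6, 1, 2, 9, 3, 5, 8, 7, 3, 7, 4, 8, 1, 3, 2, 1, 6, 5, 6, 3, 4, 7, 4, 8, 5, 3, 6, 5, 7, 6, 4, 3, 5, 8, 4, 7, 5, 6, 5, 9, 6, 4, 3, 7, 4, 6, 8, 5, 2, 3, 1, 2, 4, 6, 5, 4, 3, 2, 7, 1, 9, 5, 3, 7, 4, 5, 2, 3, 4, 2, 8, 5, 6, 7, 3, 5, 4, 7, 3, 6, 1, 2, 9, 3, 5, 8, 7, 3, 7, 4, 8, 1, 3, 2, 1,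 6, 5, 6, 3, 4, 7, 4, 8, 5, 3, 6, 5, 7, 6, 4, 3, 5, 8, 4, 7, 6, 5, 9, 6, 4, 3, 7, 4, 6, 8, 5, 2, 3, 1, 2, 4, 6, 5, 4, 3, 2, 7, 1, 9, 5, 3, 7, 4, 5, 2, 3, 4, 2, 8, 5, 6, 7]

/-- part of a word -/
def tau15w1p2 : List ℕ := [3, 5, 4, 7, 3, 6, 1, 2, 9, 3, 5, 8, 7, 3, 7, 4, 8, 1, 3, 2, 1, 6, 5, 6, 3, 4, 2, 3, 1, 2, 3, 4, 8, 7, 8, 3, 6, 5, 4, 9, 7, 3, 2, 8, 7, 8, 5, 4, 1, 3, 2, 6, 5, 9, 6, 2, 3, 1, 5, 4, 7, 6, 3, 2, 1, 3, 7, 4, 3, 2, 9, 5, 6, 7, 3, 4, 5, 3, 7, 2, 3, 1, 4, 7, 3, 2, 1, 3, 7, 4, 3, 2, 7, 3, 5, 4, 3, 7, 6, 5, 9, 6, 4, 3, 7, 4, 6, 8, 5, 2, 3, 1, 2, 4, 6, 5, 4, 3, 2, 7, 1, 9, 5, 3, 7, 4, 5, 2, 3, 4, 2, 8, 5, 6, 7, 3,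 5, 4, 7, 3, 6, 1, 2, 9, 3, 5, 8, 7, 3, 7, 4, 8, 1, 3, 2, 1, 6, 5, 6, 3, 4, 7, 4, 8, 5, 3, 6, 5, 7, 6, 4, 3, 5, 8, 4, 7, 5, 6, 5, 9, 6, 4, 3, 7, 4, 6, 8, 5, 2, 3, 1, 2, 4, 6, 5, 4, 3, 2, 7, 1, 9, 5, 3, 7, 4, 5, 2, 3, 4, 2, 8, 5, 6, 7, 3, 5, 4, 7, 3, 6, 1, 2, 9, 3, 5, 8, 7, 3, 7, 4, 8, 1, 3, 2, 1, 6, 5, 6, 3, 4, 7, 4, 8, 5, 3, 6, 5, 7, 6, 4]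

/-- part of a word -/
def tau15w1p3 : List ℕ := [3, 5, 8, 4, 7, 5, 7, 3, 4, 5, 3, 7, 2, 3, 1, 4, 7, 3, 2, 1, 3, 7, 4, 3, 2, 7, 3, 5, 4, 3, 7, 6, 5, 9, 6, 4, 3, 7, 4, 6, 8, 5, 2, 3, 1, 2, 4, 6, 5, 4, 3, 2, 7, 1, 9, 5, 3, 7, 4, 5, 2, 3, 4, 2, 8, 5, 6, 7, 3, 5, 4, 7, 3, 6, 1, 2, 9, 3, 5, 8, 7, 3, 7, 4, 8, 1, 3, 2, 1, 6, 5, 6, 3, 4, 7, 4, 8, 5, 3, 6, 5, 7, 6, 4, 3, 5, 8, 4, 7, 5, 3, 5, 6, 5, 9, 6, 4, 3, 7, 4, 6, 8, 5, 2, 3, 1, 2, 4, 6, 5, 4, 3, 2, 7, 1, 9, 5, 3, 7, 4, 5, 2, 3, 4, 2, 8, 5, 6, 7, 3, 5, 4, 7, 3, 6, 1, 2, 9, 3, 5, 8, 7, 3, 7, 4, 8, 1, 3, 2, 1, 6, 5, 6, 3, 4, 2, 3, 1, 2, 3, 4, 8, 7, 8, 3, 6, 5, 4, 9, 7, 3, 2, 8,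 7, 8, 5, 4, 1, 3, 2, 9, 1, 8]

/-- part of a word -/
def tau15finp0 : List ℕ := [6, 9, 6, 5, 3, 4, 1, 2, 3, 7, 8, 4, 5, 3, 4, 2, 3, 7, 6, 5, 4, 3, 2, 6, 5, 9, 6, 2, 3, 1, 5, 4, 7, 6, 3, 2, 1, 3, 7, 4, 3, 2, 9, 5, 2, 3, 1, 4, 7, 3, 2, 1, 3, 7, 4, 3, 2, 4, 8, 7, 3, 4, 7, 8, 5, 6, 5, 9, 6, 4, 3, 7, 4, 6, 8, 5, 2, 3, 1, 2, 4, 6, 5, 4, 3, 2, 7, 1, 9, 5, 3, 7, 4, 5, 2, 3, 4, 2, 8, 5, 6, 7, 3, 5, 4, 7, 3, 6, 1, 2, 9, 3, 5, 8, 7, 3, 7, 4, 8, 1, 3, 2, 1, 6, 5, 6, 3, 4, 2, 3, 1, 2, 3, 4, 8, 7, 8, 3, 6, 5, 4, 9, 7, 3, 2, 8, 7, 8, 5, 4, 1, 3, 2, 7, 6, 2, 3, 1, 4, 7, 3, 2, 1, 3, 7, 4, 3, 2, 4, 8, 7, 3, 4, 7, 6, 5, 9, 6, 2, 3, 1, 5,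 4, 7, 6, 3, 2, 1, 3, 7, 4, 3, 2, 6, 4, 3, 7, 4, 6, 8, 5, 2, 3, 1, 2, 4, 6, 5, 4, 3, 2, 7, 1, 9, 5, 3, 7, 4, 5, 2, 3, 4, 2, 8, 5, 6, 7, 3, 5, 4, 7, 3, 6, 1, 2, 9, 3, 5, 8, 7, 3, 7, 4, 8, 1, 3, 2, 1, 6, 5]

/-- part of a word -/
def tau15finp1 : List ℕ := [6, 3, 4, 7, 4, 8, 5, 3, 6, 5, 7, 6, 4, 3, 5, 8, 4, 7, 6, 2, 3, 1, 4, 7, 3, 2, 1, 3, 7, 4, 3, 2, 4, 8, 7, 3, 4, 7, 6, 5, 9, 6, 2, 3, 1, 5, 4, 7, 6, 3, 2, 1, 3, 7, 4, 3, 2, 9, 5, 6, 8, 6, 5, 9, 6, 2, 3, 1, 5, 4, 7, 6, 3, 2, 1, 3, 7, 4, 3, 2, 9, 5, 6, 8, 7, 3, 4, 5, 3, 7, 2, 3, 1, 4, 7, 3, 2, 1, 3, 7, 4, 3, 2, 7, 3, 5, 4, 3, 7, 6, 5, 9, 6, 4, 3, 7, 4, 6, 8, 5, 2, 3, 1, 2,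 4, 6, 5, 4, 3, 2, 7, 1, 9, 5, 3, 7, 4, 5, 2, 3, 4, 2, 8, 5, 6, 7, 3, 5, 4, 7, 3, 6, 1, 2, 9, 3, 5, 8, 7, 3, 7, 4, 8, 1, 3, 2, 1, 6, 5, 6, 3, 4, 7, 4, 8, 5, 3, 6, 5, 7, 6, 4, 3, 5, 8, 4, 7, 5, 6, 5, 9, 6, 4, 3, 7, 4, 6, 8, 5, 2, 3, 1, 2, 4, 6, 5, 4, 3, 2, 7, 1, 9, 5, 3, 7, 4, 5, 2, 3, 4, 2, 8, 5, 6, 7, 3, 5, 4, 7, 3, 6, 1, 2, 9, 3, 5, 8, 7, 3, 7, 4, 8, 1, 3, 2, 1, 6, 5, 6, 3]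

/-- part of a word -/
def tau15finp2 : List ℕ := [4, 7, 4, 8, 5, 3, 6, 5, 7, 6, 4, 3, 5, 8, 4, 7, 5, 3, 5, 6, 5, 9, 6, 4, 3, 7, 4, 6, 8, 5, 2, 3, 1, 2, 4, 6, 5, 4, 3, 2, 7, 1, 9, 5, 3, 7, 4, 5, 2, 3, 4, 2, 8, 5, 6, 7, 3, 5, 4, 7, 3, 6, 1, 2, 9, 3, 5, 8, 7, 3, 7, 4, 8, 1, 3, 2, 1, 6, 5, 6, 3, 4, 2, 3, 1, 2, 3, 4, 8, 7, 8, 3, 6, 5, 4, 9, 7, 3, 2, 8, 7, 8, 5, 4, 1, 3, 2, 8]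

/-- a loop -/
def tauLoop15 : LoopWit := ⟨[⟨7, [1], 0, []⟩,
  ⟨7, [tau15w1p0, tau15w1p1, tau15w1p2, tau15w1p3].flatten, 2, [6, 5, 4, 3, 2, 1, 7, 3, 2]⟩], [tau15finp0, tau15finp1, tau15finp2].flatten, 0⟩

/-- a loop -/
def tauLoop16 : LoopWit := ⟨[⟨8, [], 0, []⟩,
  ⟨8, [1, 2, 3, 4, 5, 6, 7, 3, 2, 1, 4, 3, 5, 8, 7, 3, 2, 1, 4, 3, 2, 5, 4, 7, 3, 8, 7, 9, 6, 5, 4, 3, 2, 1, 0, 10, 0, 1, 2, 3, 4, 5, 6, 7, 3, 2, 1, 4, 3, 2, 8, 7, 3, 2, 1, 4, 3, 2, 5, 7, 3, 9, 10, 3, 4, 5, 6, 9, 3, 7, 8, 3, 2, 1, 0, 3, 7, 1, 2, 3, 4, 5, 6, 9, 4, 3, 7, 8, 7, 6, 5, 2, 3, 4, 1, 2, 3, 7, 1, 2, 3, 4, 5, 6, 4, 2, 3, 0, 3, 7, 4, 5, 3, 4, 1, 2, 3, 7,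 8, 7, 3, 4, 2, 3, 7, 5, 4, 3, 2, 1, 0, 10, 0, 1, 2, 3, 4, 5, 6, 9, 7, 8, 3, 7, 4, 5, 2, 3, 4, 1, 2, 3, 7, 8, 5, 3, 4, 1, 2, 3, 7, 6, 5, 4, 3, 2, 1], 0, []⟩], [1, 2, 3, 4, 5, 6, 7, 3, 2, 1, 4, 3, 5, 8, 7, 3, 2, 1, 4, 3, 2, 5, 4, 7, 3, 8, 7, 9, 6, 5, 4, 3, 2, 1, 0, 10, 0, 1, 2, 3, 4, 5, 7, 3, 2, 4, 3, 7, 8, 7, 3, 2, 1, 4, 3, 5, 4, 7, 3, 0, 3, 2, 4, 6, 5, 4, 3, 2, 1, 7, 3, 2, 1, 4, 3, 2, 5, 6, 7, 8, 7, 3, 4, 9, 6, 5, 4, 3, 2, 1, 7, 3, 0, 1, 2, 3, 8, 7, 3, 9, 6, 5, 4, 3, 10, 9, 3, 7, 5, 2, 3, 4, 1, 2, 3, 7, 8, 2, 3, 4, 1, 2, 3, 7, 6, 5, 4, 3, 2, 1, 0, 10, 0, 1, 2, 3, 4, 5, 6, 9, 7, 8, 3, 7, 4, 5, 2, 3, 4, 1, 2, 3, 7, 8, 5,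 3, 4, 1, 2, 3, 7, 6, 5, 4, 3, 2, 1], 0⟩

/-- a loop -/
def tauLoop17 : LoopWit := ⟨[⟨8, [], 0, [1]⟩,
  ⟨6, [1, 2, 3, 4, 5, 6, 7, 3, 2, 1, 4, 3, 5, 8, 7, 3, 2, 1, 4, 3, 2, 5, 4, 7, 3, 8, 7, 9, 6, 5, 4, 3, 2, 1, 0, 1, 10, 0, 1, 2, 3, 4, 5, 6, 7, 3, 2, 1, 4, 3, 2, 8, 7, 3, 2, 1, 4, 3, 2, 5, 7, 3, 9, 10, 3, 4, 5, 6, 9, 3, 7, 8, 3, 2, 1, 0, 3, 7, 1, 2, 3, 4, 5, 6, 9, 4, 3, 7, 8, 7, 6, 5, 2, 3, 4, 1, 2, 3, 7, 1, 2, 3, 4, 5, 6, 4, 2, 3, 0, 3, 7, 4, 5, 3, 4, 1, 2, 3, 7, 8, 7, 3, 4, 2, 3, 7, 5, 4, 3, 2, 1, 0, 10, 3, 7, 2, 3, 1, 2, 0, 1], 0, [2, 1, 3, 2, 7, 3]⟩], [1, 0, 2, 1, 3, 2, 7, 3, 10, 0, 1, 2, 3, 4, 5, 7, 3, 2, 4, 3, 7, 8,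 7, 3, 2, 1, 4, 3, 5, 4, 7, 3, 0, 3, 2, 4, 6, 5, 4, 3, 2, 1, 7, 3, 2, 1, 4, 3, 2, 5, 6, 7, 8, 7, 3, 4, 9, 6, 5, 4, 3, 2, 1, 7, 3, 0, 1, 2, 3, 8, 7, 3, 9, 6, 5, 4, 3, 10, 9, 3, 7, 5, 2, 3, 4, 1, 2, 3, 7, 8, 2, 3, 4, 1, 2, 3, 7, 6, 5, 4, 3, 2, 1, 0, 10, 1, 0, 1, 2, 3, 4, 5, 6, 9, 7, 8, 3, 7, 4, 5, 2, 3, 4, 1, 2, 3, 7, 8, 5, 3, 4, 1, 2, 3, 7, 6, 5, 4, 3, 2, 1], 0⟩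

/-- the loops for the commutator of `k` and the stabiliser element -/
def tauLoops : List LoopWit := [tauLoop0, tauLoop1, tauLoop2, tauLoop3, tauLoop4, tauLoop5, tauLoop6, tauLoop7, tauLoop8, tauLoop9, tauLoop10, tauLoop11, tauLoop12, tauLoop13, tauLoop14, tauLoop15, tauLoop16, tauLoop17]

end CfsgLib.Fi24Act
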