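import Cfsg.Agent.Lib.Fi24Act.LoopDefs

/-!
Witnesses of loops for the braid of `k` and `l`.
-/

set_option autoImplicit false
set_option linter.style.longLine false

namespace CfsgLib.Fi24Act

open CfsgLib.Fi24Pres

/-- a loop -/
def tenLoop0 : LoopWit := ⟨[⟨0, [], 0, []⟩,
  ⟨2, [], 0, []⟩,
  ⟨1, [], 0, []⟩], [10], 0⟩

/-- a loop -/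
def tenLoop1 : LoopWit := ⟨[⟨1, [], 0, []⟩,
  ⟨0, [10], 0, []⟩,
  ⟨2, [], 0, []⟩], [], 0⟩

/-- a loop -/
def tenLoop2 : LoopWit := ⟨[⟨2, [], 0, []⟩,
  ⟨1, [], 0, []⟩,
  ⟨0, [10], 0, []⟩], [], 0⟩

/-- a loop -/
def tenLoop3 : LoopWit := ⟨[⟨3, [], 0, []⟩,
  ⟨4, [], 0, []⟩,
  ⟨5, [10], 0, []⟩], [], 0⟩

/-- a loop -/
def tenLoop4 : LoopWit := ⟨[⟨4, [], 0, []⟩,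
  ⟨5, [10], 0, []⟩,
  ⟨3, [], 0, []⟩], [], 0⟩

/-- a loop -/
def tenLoop5 : LoopWit := ⟨[⟨5, [], 0, []⟩,
  ⟨3, [], 0, []⟩,
  ⟨4, [], 0, []⟩], [10], 0⟩

/-- a loop -/
def tenLoop6 : LoopWit := ⟨[⟨6, [], 0, []⟩,
  ⟨6, [1, 0, 10, 0, 1], 0, []⟩,
  ⟨6, [1, 0, 10, 0, 1], 0, []⟩], [1, 0, 10, 0, 1], 0⟩

/-- part of a word -/
def ten7w1p0 : List ℕ := [7, 8, 3, 7, 2, 3, 1, 2, 7, 8, 3, 5, 7, 6, 5, 9, 6, 2, 3, 1, 5, 4, 7, 6, 3, 2, 1, 3, 7, 4, 3, 2, 9, 5, 2, 3, 1, 4, 7, 3, 2, 1, 3, 7, 4, 3, 2, 4, 8, 7, 3, 4, 7, 6, 5, 9, 6, 4, 3, 7, 4, 6, 8, 5, 2, 3, 1, 2, 4, 6, 5, 4, 3, 2, 7, 1, 9, 5, 3, 7, 4, 5, 2, 3, 4, 2, 8, 5, 6, 7, 3, 5, 4, 7, 3, 6, 1, 2, 9, 3, 5,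 8, 7, 3, 7, 4, 8, 1, 3, 2, 1, 6, 5, 6, 3, 4, 7, 4, 8, 5, 3, 6, 5, 7, 6, 4, 3, 5, 8, 4, 7, 5, 6, 5, 9, 6, 4, 3, 7, 4, 6, 8, 5, 2, 3, 1, 2, 4, 6, 5, 4, 3, 2, 7, 1, 9, 5, 3, 7, 4, 5, 2, 3, 4, 2, 8, 5, 6, 7, 3, 5, 4, 7, 3, 6, 1, 2, 9, 3, 5, 8, 7, 3, 7, 4, 8, 1, 3, 2, 1, 6, 5, 6, 3, 4, 7, 4, 8, 5, 3, 6, 5, 7, 6, 4, 3, 5, 8, 4, 7, 6, 5, 9, 6, 4, 3, 7, 4, 6, 8, 5, 2, 3, 1, 2, 4, 6, 5, 4, 3, 2, 7, 1, 9, 5, 3, 7, 4, 5, 2, 3, 4, 2, 8, 5, 6, 7, 3, 5, 4]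

/-- part of a word -/
def ten7w1p1 : List ℕ := [7, 3, 6, 1, 2, 9, 3, 5, 8, 7, 3, 7, 4, 8, 1, 3, 2, 1, 6, 5, 6, 3, 4, 2, 3, 1, 2, 3, 4, 8, 7, 8, 3, 6, 5, 4, 9, 7, 3, 2, 8, 7, 8, 5, 4, 1, 3, 2, 6, 5, 9, 6, 2, 3, 1, 5, 4, 7, 6, 3, 2, 1, 3, 7, 4, 3, 2, 9, 5, 6, 8, 7, 3, 4, 5, 3, 7, 2, 3, 1, 4, 7, 3, 2, 1, 3, 7, 4, 3, 2, 7, 3, 5, 4, 3, 7, 6, 5, 9, 6, 4, 3, 7, 4, 6, 8, 5, 2, 3, 1, 2, 4, 6, 5, 4, 3, 2, 7, 1, 9, 5, 3, 7, 4, 5, 2, 3, 4, 2, 8, 5, 6, 7, 3, 5, 4, 7, 3, 6, 1, 2, 9, 3, 5, 8, 7, 3, 7, 4, 8, 1, 3, 2, 1, 6, 5, 6, 3, 4, 7, 4, 8, 5, 3, 6, 5, 7, 6, 4, 3, 5, 8, 4, 7, 5, 6, 5, 9, 6, 4, 3, 7, 4, 6, 8, 5, 2, 3, 1, 2, 4, 6, 5, 4, 3, 2, 7, 1, 9, 5,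 3, 7, 4, 5, 2, 3, 4, 2, 8, 5, 6, 7, 3, 5, 4, 7, 3, 6, 1, 2, 9, 3, 5, 8, 7, 3, 7, 4, 8, 1, 3, 2, 1, 6, 5, 6, 3, 4, 7, 4, 8, 5, 3, 6, 5, 7, 6, 4, 3, 5]

/-- part of a word -/
def ten7w1p2 : List ℕ := [8, 4, 7, 5, 3, 6, 5, 9, 6, 4, 3, 7, 4, 6, 8, 5, 2, 3, 1, 2, 4, 6, 5, 4, 3, 2, 7, 1, 9, 5, 3, 7, 4, 5, 2, 3, 4, 2, 8, 5, 6, 7, 3, 5, 4, 7, 3, 6, 1, 2, 9, 3, 5, 8, 7, 3, 7, 4, 8, 1, 3, 2, 1, 6, 5, 6, 3, 4, 2, 3, 1, 2, 3, 4, 8, 7, 8, 3, 6, 5, 4, 9, 7, 3, 2, 8, 7, 8, 5, 4, 1, 3, 2, 1]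

/-- part of a word -/
def ten7w2p0 : List ℕ := [2, 3, 7, 8, 4, 3, 7, 5, 4, 3, 1, 2, 7, 3, 4, 5, 3, 7, 2, 3, 1, 4, 7, 3, 2, 1, 3, 7, 4, 3, 2, 7, 3, 5, 4, 5, 6, 2, 3, 1, 4, 7, 3, 2, 1, 3, 7, 4, 3, 2, 4, 8, 7, 3, 4, 6, 2, 3, 1, 4, 7, 3, 2, 1, 3, 7, 4, 3, 2, 4, 8, 7, 3, 4, 7, 8, 6, 2, 3, 1, 4, 7, 3, 2, 1, 3, 7, 4, 3, 2, 4, 8, 7, 3, 4, 7, 6, 2, 3, 1, 4, 7, 3, 2, 1, 3, 7, 4, 3, 2, 4, 8, 7, 3, 4, 7, 6, 5, 9, 6, 4, 3, 7, 4, 6, 8, 5, 2, 3, 1, 2, 4, 6, 5, 4, 3, 2, 7, 1, 9, 5, 3, 7, 4, 5, 2, 3, 4, 2, 8, 5, 6, 7, 3, 5, 4, 7, 3, 6, 1, 2, 9, 3, 5, 8, 7, 3, 7, 4, 8, 1, 3, 2, 1, 6, 5, 6, 3, 4, 7, 4, 8, 5, 3, 6, 5, 7, 6, 4, 3, 5, 8, 4, 7, 5, 6, 5, 9, 6, 4,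 3, 7, 4, 6, 8, 5, 2, 3, 1, 2, 4, 6, 5, 4, 3, 2, 7, 1, 9, 5, 3, 7, 4, 5, 2, 3, 4, 2, 8, 5, 6, 7, 3, 5, 4, 7, 3, 6, 1, 2, 9, 3, 5, 8, 7, 3, 7, 4, 8, 1]

/-- part of a word -/
def ten7w2p1 : List ℕ := [3, 2, 1, 6, 5, 6, 3, 4, 7, 4, 8, 5, 3, 6, 5, 7, 6, 4, 3, 5, 8, 4, 7, 5, 6, 5, 9, 6, 4, 3, 7, 4, 6, 8, 5, 2, 3, 1, 2, 4, 6, 5, 4, 3, 2, 7, 1, 9, 5, 3, 7, 4, 5, 2, 3, 4, 2, 8, 5, 6, 7, 3, 5, 4, 7, 3, 6, 1, 2, 9, 3, 5, 8, 7, 3, 7, 4, 8, 1, 3, 2, 1, 6, 5, 6, 3, 4, 2, 3, 1, 2, 3, 4, 8, 7, 8, 3, 6, 5, 4, 9, 7, 3, 2, 8, 7, 8, 5, 4, 1, 3, 2, 9, 8]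

/-- part of a word -/
def ten7finp0 : List ℕ := [4, 5, 3, 4, 2, 3, 1, 2, 6, 2, 3, 1, 4, 7, 3, 2, 1, 3, 7, 4, 3, 2, 4, 8, 7, 3, 4, 6, 2, 3, 1, 4, 7, 3, 2, 1, 3, 7, 4, 3, 2, 4, 8, 7, 3, 4, 7, 6, 5, 9, 6, 4, 3, 7, 4, 6, 8, 5, 2, 3, 1, 2, 4, 6, 5, 4, 3, 2, 7, 1, 9, 5, 3, 7, 4, 5, 2, 3, 4, 2, 8, 5, 6, 7, 3, 5, 4, 7, 3, 6, 1, 2, 9, 3, 5, 8, 7, 3, 7, 4, 8, 1, 3, 2, 1, 6, 5, 6, 3, 4, 7, 4, 8, 5, 3, 6, 5, 7, 6, 4, 3, 5, 8, 4, 7, 5, 3, 5, 7, 6, 5, 9, 6, 4, 3, 7, 4, 6, 8, 5, 2, 3, 1, 2, 4, 6, 5, 4, 3, 2, 7, 1, 9, 5, 3, 7, 4, 5, 2, 3, 4, 2, 8, 5, 6, 7, 3, 5, 4, 7, 3, 6, 1, 2, 9, 3, 5, 8, 7, 3, 7, 4, 8, 1, 3, 2, 1, 6, 5, 6, 3, 4, 7, 4, 8, 5, 3, 6, 5, 7,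 6, 4, 3, 5, 8, 4, 7, 6, 5, 9, 6, 4, 3, 7, 4, 6, 8, 5, 2, 3, 1, 2, 4, 6, 5, 4, 3, 2, 7, 1, 9, 5, 3, 7, 4, 5, 2, 3, 4, 2, 8, 5, 6, 7, 3, 5, 4, 7, 3, 6]

/-- part of a word -/
def ten7finp1 : List ℕ := [1, 2, 9, 3, 5, 8, 7, 3, 7, 4, 8, 1, 3, 2, 1, 6, 5, 6, 3, 4, 2, 3, 1, 2, 3, 4, 8, 7, 8, 3, 6, 5, 4, 9, 7, 3, 2, 8, 7, 8, 5, 4, 1, 3, 2, 6, 2, 3, 1, 4, 7, 3, 2, 1, 3, 7, 4, 3, 2, 4, 8, 7, 3, 4, 7, 6, 2, 3, 1, 4, 7, 3, 2, 1, 3, 7, 4, 3, 2, 4, 8, 7, 3, 4, 3, 4, 5, 3, 7, 2, 3, 1, 4, 7, 3, 2, 1, 3, 7, 4, 3, 2, 7, 3, 5, 4, 3, 7, 6, 5, 9, 6, 4, 3, 7, 4, 6, 8, 5, 2, 3, 1, 2, 4, 6, 5, 4, 3, 2, 7, 1, 9, 5, 3, 7, 4, 5, 2, 3, 4, 2, 8, 5, 6, 7, 3, 5, 4, 7, 3,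 6, 1, 2, 9, 3, 5, 8, 7, 3, 7, 4, 8, 1, 3, 2, 1, 6, 5, 6, 3, 4, 7, 4, 8, 5, 3, 6, 5, 7, 6, 4, 3, 5, 8, 4, 7, 5, 6, 5, 9, 6, 4, 3, 7, 4, 6, 8, 5, 2, 3, 1, 2, 4, 6, 5, 4, 3, 2, 7, 1, 9, 5, 3, 7, 4, 5, 2, 3, 4, 2, 8, 5, 6, 7, 3, 5, 4, 7, 3, 6, 1, 2, 9, 3, 5, 8, 7, 3, 7, 4, 8, 1, 3, 2, 1, 6, 5, 6, 3, 4]

/-- part of a word -/
def ten7finp2 : List ℕ := [7, 4, 8, 5, 3, 6, 5, 7, 6, 4, 3, 5, 8, 4, 7, 6, 5, 9, 6, 4, 3, 7, 4, 6, 8, 5, 2, 3, 1, 2, 4, 6, 5, 4, 3, 2, 7, 1, 9, 5, 3, 7, 4, 5, 2, 3, 4, 2, 8, 5, 6, 7, 3, 5, 4, 7, 3, 6, 1, 2, 9, 3, 5, 8, 7, 3, 7, 4, 8, 1, 3, 2, 1, 6, 5, 6, 3, 4, 2, 3, 1, 2, 3, 4, 8, 7, 8, 3, 6, 5, 4, 9, 7, 3, 2, 8, 7, 8, 5, 4,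 1, 3, 2, 1]

/-- a loop -/
def tenLoop7 : LoopWit := ⟨[⟨7, [], 0, []⟩,
  ⟨7, [ten7w1p0, ten7w1p1, ten7w1p2].flatten, 0, [3, 2, 1, 4, 3, 2, 7, 3, 4, 8, 7, 3]⟩,
  ⟨7, [ten7w2p0, ten7w2p1].flatten, 0, [3, 4, 5, 7, 3, 2, 1, 4, 3, 2, 7, 3]⟩], [ten7finp0, ten7finp1, ten7finp2].flatten, 0⟩

/-- a loop -/
def tenLoop8 : LoopWit := ⟨[⟨8, [], 0, []⟩,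
  ⟨8, [1, 2, 3, 4, 5, 6, 7, 3, 2, 1, 4, 3, 5, 8, 7, 3, 2, 1, 4, 3, 2, 5, 4, 7, 3, 8, 7, 9, 6, 5, 4, 3, 2, 1, 0, 10, 0, 1, 2, 3, 4, 5, 6, 9, 7, 8, 3, 7, 4, 5, 2, 3, 4, 1, 2, 3, 7, 8, 5, 3, 4, 1, 2, 3, 7, 6, 5, 4, 3, 2, 1], 0, []⟩,
  ⟨8, [1, 2, 3, 4, 5, 6, 7, 3, 2, 1, 4, 3, 5, 8, 7, 3, 2, 1, 4, 3, 2, 5, 4, 7, 3, 8, 7, 9, 6, 5, 4, 3, 2, 1, 0, 10, 0, 1, 2, 3, 4, 5, 6, 9, 7, 8, 3, 7, 4, 5, 2, 3, 4, 1, 2, 3, 7, 8, 5, 3, 4, 1, 2, 3, 7, 6, 5, 4, 3, 2, 1], 0, []⟩], [1, 2, 3, 4, 5, 6, 7, 3, 2, 1, 4, 3, 5, 8, 7, 3, 2, 1, 4, 3, 2, 5, 4, 7, 3, 8, 7, 9, 6, 5, 4, 3, 2, 1, 0, 10, 0, 1, 2, 3, 4, 5, 6, 9, 7, 8, 3, 7, 4, 5, 2, 3, 4, 1, 2, 3, 7, 8, 5, 3, 4, 1,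 2, 3, 7, 6, 5, 4, 3, 2, 1], 0⟩

/-- the loops for the braid of `k` and `l` -/
def tenLoops : List LoopWit := [tenLoop0, tenLoop1, tenLoop2, tenLoop3, tenLoop4, tenLoop5, tenLoop6, tenLoop7, tenLoop8]

end CfsgLib.Fi24Act
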