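import Cfsg.Agent.Lib.Fi24Act.LoopDefs

/-!
Witnesses of loops for the braid of `k` and `a`.
-/

set_option autoImplicit false
set_option linter.style.longLine false

namespace CfsgLib.Fi24Act

open CfsgLib.Fi24Pres

/-- a loop -/
def zeroLoop0 : LoopWit := ⟨[⟨0, [], 0, []⟩,
  ⟨3, [], 0, []⟩,
  ⟨1, [], 0, []⟩], [0], 0⟩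

/-- a loop -/
def zeroLoop1 : LoopWit := ⟨[⟨1, [], 0, []⟩,
  ⟨0, [0], 0, []⟩,
  ⟨3, [], 0, []⟩], [], 0⟩

/-- a loop -/
def zeroLoop2 : LoopWit := ⟨[⟨2, [], 0, []⟩,
  ⟨4, [], 0, []⟩,
  ⟨5, [0], 0, []⟩], [], 0⟩

/-- a loop -/
def zeroLoop3 : LoopWit := ⟨[⟨3, [], 0, []⟩,
  ⟨1, [], 0, []⟩,
  ⟨0, [0], 0, []⟩], [], 0⟩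

/-- part of a word -/
def zero4finp0 : List ℕ := [1, 2, 3, 7, 4, 5, 3, 4, 2, 3, 7, 6, 5, 4, 3, 2, 3, 5, 3, 4, 5, 3, 7, 2, 3, 1, 4, 7, 3, 2, 1, 3, 7, 4, 3, 2, 7, 3, 5, 4, 3, 7, 6, 2, 3, 1, 4, 7, 3, 2, 1, 3, 7, 4, 3, 2, 4, 8, 7, 3, 4, 7, 6, 5, 9, 6, 2, 3, 1, 5, 4, 7, 6, 3, 2, 1, 3, 7, 4, 3, 2, 9, 5, 2, 3, 1, 4, 7, 3, 2, 1, 3, 7, 4, 3, 2, 4, 8, 7, 3, 4, 7, 6, 5, 9, 6, 2, 3, 1, 5, 4, 7, 6, 3, 2, 1, 3, 7, 4, 3, 2, 6, 2, 3, 1, 5, 4, 7, 6, 3, 2, 1, 3, 7, 4, 3, 2, 6, 4, 3, 7, 4, 6, 8, 5, 2, 3, 1, 2, 4, 6, 5, 4, 3, 2, 7, 1, 9, 5, 3, 7, 4, 5, 2, 3, 4, 2, 8, 5, 6, 7, 3, 5, 4, 7, 3, 6, 1, 2, 9, 3, 5, 8, 7, 3, 7, 4, 8, 1, 3, 2, 1, 6,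 5, 6, 3, 4, 7, 4, 8, 5, 3, 6, 5, 7, 6, 4, 3, 5, 8, 4, 7, 5, 6, 5, 9, 6, 2, 3, 1, 5, 4, 7, 6, 3, 2, 1, 3, 7, 4, 3, 2, 6, 4, 3, 7, 4, 6, 8, 5, 2, 3, 1, 2, 4, 6, 5, 4, 3, 2]

/-- part of a word -/
def zero4finp1 : List ℕ := [7, 1, 9, 5, 3, 7, 4, 5, 2, 3, 4, 2, 8, 5, 6, 7, 3, 5, 4, 7, 3, 6, 1, 2, 9, 3, 5, 8, 7, 3, 7, 4, 8, 1, 3, 2, 1, 6, 5, 6, 3, 4, 7, 4, 8, 5, 3, 6, 5, 7, 6, 4, 3, 5, 8, 4, 7, 5, 6, 5, 9, 6, 2, 3, 1, 5, 4, 7, 6, 3, 2, 1, 3, 7, 4, 3, 2, 9, 5, 6, 8, 7, 3, 4, 5, 3, 7, 2, 3, 1, 4, 7, 3, 2, 1, 3, 7, 4, 3, 2, 7, 3, 5, 4, 3, 7, 5, 6, 5, 9, 6, 4, 3, 7, 4, 6, 8, 5, 2, 3, 1, 2, 4, 6, 5, 4, 3, 2, 7, 1, 9, 5, 3, 7, 4, 5,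 2, 3, 4, 2, 8, 5, 6, 7, 3, 5, 4, 7, 3, 6, 1, 2, 9, 3, 5, 8, 7, 3, 7, 4, 8, 1, 3, 2, 1, 6, 5, 6, 3, 4, 2, 3, 1, 2, 3, 4, 8, 7, 8, 3, 6, 5, 4, 9, 7, 3, 2, 8, 7, 8, 5, 4, 1, 3, 2, 6, 5, 9, 6, 4, 3, 7, 4, 6, 8, 5, 2, 3, 1, 2, 4, 6, 5, 4, 3, 2, 7, 1, 9, 5, 3, 7, 4, 5, 2, 3, 4, 2, 8, 5, 6, 7, 3, 5, 4, 7, 3, 6, 1, 2, 9, 3, 5, 8, 7, 3, 7, 4, 8, 1]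

/-- part of a word -/
def zero4finp2 : List ℕ := [3, 2, 1, 6, 5, 6, 3, 4, 7, 4, 8, 5, 3, 6, 5, 7, 6, 4, 3, 5, 8, 4, 7, 1]

/-- a loop -/
def zeroLoop4 : LoopWit := ⟨[⟨3, [7, 3, 4, 5, 6, 9, 2, 3, 7, 4, 5, 3, 4, 2, 3, 7, 6, 5, 4, 3, 2], 0, [1]⟩,
  ⟨3, [1], 0, [1]⟩,
  ⟨3, [1], 0, [1]⟩], [zero4finp0, zero4finp1, zero4finp2].flatten, 0⟩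

/-- part of a word -/
def zero5w0p0 : List ℕ := [7, 3, 4, 5, 3, 7, 2, 3, 1, 4, 7, 3, 2, 1, 3, 7, 4, 3, 2, 7, 3, 5, 4, 3, 6, 2, 3, 1, 4, 7, 3, 2, 1, 3, 7, 4, 3, 2, 4, 8, 7, 3, 4, 7, 3, 5, 6, 2, 3, 1, 4, 7, 3, 2, 1, 3, 7, 4, 3, 2, 4, 8, 7, 3, 4, 6, 2, 3, 1, 4, 7, 3, 2, 1, 3, 7, 4, 3, 2, 4, 8, 7, 3, 4, 7, 9, 5, 6, 2, 3, 1, 4, 7, 3, 2, 1, 3, 7, 4, 3, 2, 4, 8, 7, 3, 4, 7, 6, 5, 9, 6, 2, 3, 1, 5, 4, 7, 6, 3, 2, 1, 3, 7, 4, 3, 2, 6, 4, 3, 7, 4, 6, 8, 5, 2, 3, 1, 2, 4, 6, 5, 4, 3, 2, 7, 1, 9, 5, 3, 7, 4, 5, 2, 3, 4, 2, 8, 5, 6, 7, 3, 5, 4, 7, 3, 6, 1, 2, 9, 3, 5, 8, 7, 3, 7, 4, 8, 1, 3, 2, 1, 6, 5, 6, 3, 4, 7, 4, 8, 5, 3, 6, 5,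 7, 6, 4, 3, 5, 8, 4, 7, 5, 6, 5, 9, 6, 2, 3, 1, 5, 4, 7, 6, 3, 2, 1, 3, 7, 4, 3, 2, 6, 4, 3, 7, 4, 6, 8, 5, 2, 3, 1, 2, 4, 6, 5, 4, 3, 2, 7, 1, 9, 5, 3, 7, 4, 5, 2, 3, 4]

/-- part of a word -/
def zero5w0p1 : List ℕ := [2, 8, 5, 6, 7, 3, 5, 4, 7, 3, 6, 1, 2, 9, 3, 5, 8, 7, 3, 7, 4, 8, 1, 3, 2, 1, 6, 5, 6, 3, 4, 7, 4, 8, 5, 3, 6, 5, 7, 6, 4, 3, 5, 8, 4, 7, 6, 5, 9, 6, 4, 3, 7, 4, 6, 8, 5, 2, 3, 1, 2, 4, 6, 5, 4, 3, 2, 7, 1, 9, 5, 3, 7, 4, 5, 2, 3, 4, 2, 8, 5, 6, 7, 3, 5, 4, 7, 3, 6, 1, 2, 9, 3, 5, 8, 7, 3, 7, 4, 8, 1, 3, 2, 1, 6, 5, 6, 3, 4, 2, 3, 1, 2, 3, 4, 8, 7, 8, 3, 6, 5, 4, 9, 7, 3, 2, 8, 7, 8, 5, 4, 1, 3, 2, 6, 5,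 9, 6, 4, 3, 7, 4, 6, 8, 5, 2, 3, 1, 2, 4, 6, 5, 4, 3, 2, 7, 1, 9, 5, 3, 7, 4, 5, 2, 3, 4, 2, 8, 5, 6, 7, 3, 5, 4, 7, 3, 6, 1, 2, 9, 3, 5, 8, 7, 3, 7, 4, 8, 1, 3, 2, 1, 6, 5, 6, 3, 4, 7, 4, 8, 5, 3, 6, 5, 7, 6, 4, 3, 5, 8, 4, 7, 5, 6, 5, 9, 6, 4, 3, 7, 4, 6, 8, 5, 2, 3, 1, 2, 4, 6, 5, 4, 3, 2, 7, 1, 9, 5, 3, 7, 4, 5, 2, 3, 4, 2, 8, 5, 6, 7]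

/-- part of a word -/
def zero5w0p2 : List ℕ := [3, 5, 4, 7, 3, 6, 1, 2, 9, 3, 5, 8, 7, 3, 7, 4, 8, 1, 3, 2, 1, 6, 5, 6, 3, 4, 7, 4, 8, 5, 3, 6, 5, 7, 6, 4, 3, 5, 8, 4, 7, 5]

/-- part of a word -/
def zero5w1p0 : List ℕ := [4, 5, 3, 4, 2, 3, 1, 2, 6, 2, 3, 1, 4, 7, 3, 2, 1, 3, 7, 4, 3, 2, 4, 8, 7, 3, 4, 6, 2, 3, 1, 4, 7, 3, 2, 1, 3, 7, 4, 3, 2, 4, 8, 7, 3, 4, 7, 6, 5, 9, 6, 4, 3, 7, 4, 6, 8, 5, 2, 3, 1, 2, 4, 6, 5, 4, 3, 2, 7, 1, 9, 5, 3, 7, 4, 5, 2, 3, 4, 2, 8, 5, 6, 7, 3, 5, 4, 7, 3, 6, 1, 2, 9, 3, 5, 8, 7, 3, 7, 4, 8, 1, 3, 2, 1, 6, 5, 6, 3, 4, 7, 4, 8, 5, 3, 6, 5, 7, 6, 4, 3, 5, 8, 4, 7, 5, 3, 5, 7, 6, 5, 9, 6, 4, 3,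 7, 4, 6, 8, 5, 2, 3, 1, 2, 4, 6, 5, 4, 3, 2, 7, 1, 9, 5, 3, 7, 4, 5, 2, 3, 4, 2, 8, 5, 6, 7, 3, 5, 4, 7, 3, 6, 1, 2, 9, 3, 5, 8, 7, 3, 7, 4, 8, 1, 3, 2, 1, 6, 5, 6, 3, 4, 7, 4, 8, 5, 3, 6, 5, 7, 6, 4, 3, 5, 8, 4, 7, 6, 5, 9, 6, 4, 3, 7, 4, 6, 8, 5, 2, 3, 1, 2, 4, 6, 5, 4, 3, 2, 7, 1, 9, 5, 3, 7, 4, 5, 2, 3, 4, 2, 8, 5, 6, 7, 3, 5, 4, 7, 3, 6]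

/-- part of a word -/
def zero5w1p1 : List ℕ := [1, 2, 9, 3, 5, 8, 7, 3, 7, 4, 8, 1, 3, 2, 1, 6, 5, 6, 3, 4, 2, 3, 1, 2, 3, 4, 8, 7, 8, 3, 6, 5, 4, 9, 7, 3, 2, 8, 7, 8, 5, 4, 1, 3, 2, 6, 2, 3, 1, 4, 7, 3, 2, 1, 3, 7, 4, 3, 2, 4, 8, 7, 3, 4, 7, 6, 2, 3, 1, 4, 7, 3, 2, 1, 3, 7, 4, 3, 2, 4, 8, 7, 3, 4, 3, 4, 5, 3, 7, 2, 3, 1, 4, 7, 3, 2, 1, 3, 7, 4, 3, 2, 7, 3, 5, 4, 3, 7, 6, 5, 9, 6, 4, 3, 7, 4, 6, 8, 5, 2, 3, 1, 2, 4, 6, 5, 4, 3, 2, 7, 1, 9, 5, 3, 7, 4, 5, 2, 3, 4, 2, 8, 5, 6, 7, 3, 5, 4, 7, 3, 6, 1, 2, 9, 3, 5, 8, 7, 3, 7, 4, 8, 1, 3, 2, 1, 6, 5, 6, 3, 4, 7, 4, 8, 5, 3, 6, 5, 7, 6, 4, 3, 5, 8, 4, 7, 5, 6, 5, 9, 6, 4, 3,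 7, 4, 6, 8, 5, 2, 3, 1, 2, 4, 6, 5, 4, 3, 2, 7, 1, 9, 5, 3, 7, 4, 5, 2, 3, 4, 2, 8, 5, 6, 7, 3, 5, 4, 7, 3, 6, 1, 2, 9, 3, 5, 8, 7, 3, 7, 4, 8, 1, 3, 2, 1, 6, 5, 6, 3, 4]

/-- part of a word -/
def zero5w1p2 : List ℕ := [7, 4, 8, 5, 3, 6, 5, 7, 6, 4, 3, 5, 8, 4, 7, 6, 5, 9, 6, 4, 3, 7, 4, 6, 8, 5, 2, 3, 1, 2, 4, 6, 5, 4, 3, 2, 7, 1, 9, 5, 3, 7, 4, 5, 2, 3, 4, 2, 8, 5, 6, 7, 3, 5, 4, 7, 3, 6, 1, 2, 9, 3, 5, 8, 7, 3, 7, 4, 8, 1, 3, 2, 1, 6, 5, 6, 3, 4, 2, 3, 1, 2, 3, 4, 8, 7, 8, 3, 6, 5, 4, 9, 7, 3, 2, 8, 7, 8, 5, 4, 1, 3, 2, 1]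

/-- part of a word -/
def zero5finp0 : List ℕ := [4, 5, 3, 4, 2, 3, 1, 2, 6, 5, 9, 6, 2, 3, 1, 5, 4, 7, 6, 3, 2, 1, 3, 7, 4, 3, 2, 6, 2, 3, 1, 5, 4, 7, 6, 3, 2, 1, 3, 7, 4, 3, 2, 9, 5, 2, 3, 1, 4, 7, 3, 2, 1, 3, 7, 4, 3, 2, 4, 8, 7, 3, 4, 3, 5, 6, 2, 3, 1, 4, 7, 3, 2, 1, 3, 7, 4, 3, 2, 4, 8, 7, 3, 4, 6, 2, 3, 1, 4, 7, 3, 2, 1, 3, 7, 4, 3, 2, 4, 8, 7, 3, 4, 7, 9, 5, 6, 2, 3, 1, 4, 7, 3, 2, 1, 3, 7, 4, 3, 2, 4, 8, 7, 3, 4, 7, 5, 6, 5, 9, 6, 4, 3, 7, 4, 6, 8, 5, 2, 3, 1, 2, 4, 6, 5, 4, 3, 2, 7, 1, 9, 5, 3, 7, 4, 5, 2, 3, 4, 2, 8, 5, 6, 7, 3, 5, 4, 7, 3, 6, 1, 2, 9, 3, 5, 8, 7, 3, 7, 4, 8, 1, 3, 2, 1, 6, 5, 6, 3, 4, 2, 3, 1,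 2, 3, 4, 8, 7, 8, 3, 6, 5, 4, 9, 7, 3, 2, 8, 7, 8, 5, 4, 1, 3, 2, 6, 5, 9, 6, 4, 3, 7, 4, 6, 8, 5, 2, 3, 1, 2, 4, 6, 5, 4, 3, 2, 7, 1, 9, 5, 3, 7, 4, 5, 2, 3, 4, 2, 8, 5]

/-- part of a word -/
def zero5finp1 : List ℕ := [6, 7, 3, 5, 4, 7, 3, 6, 1, 2, 9, 3, 5, 8, 7, 3, 7, 4, 8, 1, 3, 2, 1, 6, 5, 6, 3, 4, 7, 4, 8, 5, 3, 6, 5, 7, 6, 4, 3, 5, 8, 4, 7, 5, 6, 5, 9, 6, 2, 3, 1, 5, 4, 7, 6, 3, 2, 1, 3, 7, 4, 3, 2, 6, 2, 3, 1, 5, 4, 7, 6, 3, 2, 1, 3, 7, 4, 3, 2, 6, 4, 3, 7, 4, 6, 8, 5, 2, 3, 1, 2, 4, 6, 5, 4, 3, 2, 7, 1, 9, 5, 3, 7, 4, 5, 2, 3, 4, 2, 8, 5, 6, 7, 3, 5, 4, 7, 3, 6, 1, 2, 9, 3, 5, 8, 7, 3, 7, 4, 8, 1, 3, 2, 1, 6, 5,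 6, 3, 4, 7, 4, 8, 5, 3, 6, 5, 7, 6, 4, 3, 5, 8, 4, 7, 5, 7, 3, 4, 5, 3, 7, 2, 3, 1, 4, 7, 3, 2, 1, 3, 7, 4, 3, 2, 7, 3, 5, 4, 3, 7, 5, 6, 5, 9, 6, 4, 3, 7, 4, 6, 8, 5, 2, 3, 1, 2, 4, 6, 5, 4, 3, 2, 7, 1, 9, 5, 3, 7, 4, 5, 2, 3, 4, 2, 8, 5, 6, 7, 3, 5, 4, 7, 3, 6, 1, 2, 9, 3, 5, 8, 7, 3, 7, 4, 8, 1, 3, 2, 1, 6, 5, 6, 3, 4, 2, 3, 1, 2, 3, 4]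

/-- part of a word -/
def zero5finp2 : List ℕ := [8, 7, 8, 3, 6, 5, 4, 9, 7, 3, 2, 8, 7, 8, 5, 4, 1, 3, 2, 7, 3, 4, 5, 3, 7, 2, 3, 1, 4, 7, 3, 2, 1, 3, 7, 4, 3, 2, 7, 3, 5, 4, 3, 7, 5, 6, 5, 9, 6, 4, 3, 7, 4, 6, 8, 5, 2, 3, 1, 2, 4, 6, 5, 4, 3, 2, 7, 1, 9, 5, 3, 7, 4, 5, 2, 3, 4, 2, 8, 5, 6, 7, 3, 5, 4, 7, 3, 6, 1, 2, 9, 3, 5, 8, 7, 3, 7, 4, 8, 1, 3, 2, 1, 6, 5, 6, 3, 4, 2, 3, 1, 2, 3, 4, 8, 7, 8, 3, 6, 5, 4, 9, 7, 3, 2, 8, 7, 8, 5, 4, 1, 3, 2, 6, 5, 9, 6, 4, 3, 7, 4, 6, 8, 5, 2, 3, 1, 2, 4, 6, 5, 4, 3, 2, 7, 1, 9, 5, 3, 7, 4, 5, 2, 3, 4, 2, 8, 5, 6, 7, 3, 5, 4, 7, 3, 6, 1, 2, 9, 3, 5, 8, 7, 3, 7, 4, 8, 1, 3, 2, 1, 6, 5,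 6, 3, 4, 7, 4, 8, 5, 3, 6, 5, 7, 6, 4, 3, 5, 8, 4, 7, 5, 3, 6, 5, 9, 6, 4, 3, 7, 4, 6, 8, 5, 2, 3, 1, 2, 4, 6, 5, 4, 3, 2, 7, 1, 9, 5, 3, 7, 4, 5, 2, 3, 4, 2, 8, 5, 6, 7]

/-- part of a word -/
def zero5finp3 : List ℕ := [3, 5, 4, 7, 3, 6, 1, 2, 9, 3, 5, 8, 7, 3, 7, 4, 8, 1, 3, 2, 1, 6, 5, 6, 3, 4, 2, 3, 1, 2, 3, 4, 8, 7, 8, 3, 6, 5, 4, 9, 7, 3, 2, 8, 7, 8, 5, 4, 1, 3, 2, 1]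

/-- a loop -/
def zeroLoop5 : LoopWit := ⟨[⟨3, [zero5w0p0, zero5w0p1, zero5w0p2].flatten, 0, [1, 2, 3, 4, 7, 3, 2, 1]⟩,
  ⟨4, [zero5w1p0, zero5w1p1, zero5w1p2].flatten, 0, [1, 2, 3, 4, 5, 7, 3, 2, 1, 4, 3, 2, 7, 3, 4, 5]⟩,
  ⟨5, [1, 2, 3, 4, 5, 7, 3, 2, 1, 4, 3, 2, 7, 3, 4, 5, 0, 5, 4, 3, 7, 2, 3, 4, 1, 2, 3, 7, 5, 4, 3, 2, 1], 0, [1, 2, 3, 4, 5, 7, 3, 2, 1, 4, 3, 2, 7, 3, 4, 5]⟩], [zero5finp0, zero5finp1, zero5finp2, zero5finp3].flatten, 0⟩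

/-- part of a word -/
def zero6w0p0 : List ℕ := [3, 5, 7, 6, 5, 9, 6, 2, 3, 1, 5, 4, 7, 6, 3, 2, 1, 3, 7, 4, 3, 2, 6, 2, 3, 1, 5, 4, 7, 6, 3, 2, 1, 3, 7, 4, 3, 2, 9, 5, 2, 3, 1, 4, 7, 3, 2, 1, 3, 7, 4, 3, 2, 4, 8, 7, 3, 4, 7, 6, 5, 9, 6, 2, 3, 1, 5, 4, 7, 6, 3, 2, 1, 3, 7, 4, 3, 2, 9, 5, 2, 3, 1, 4, 7, 3, 2, 1, 3, 7, 4, 3, 2, 4, 8, 7, 3, 4, 7, 6, 5, 9, 6, 4, 3, 7, 4, 6, 8, 5, 2, 3, 1, 2, 4, 6, 5, 4, 3, 2, 7, 1, 9, 5, 3, 7, 4, 5, 2, 3, 4, 2, 8, 5, 6, 7, 3, 5, 4, 7, 3, 6, 1, 2, 9, 3, 5, 8, 7, 3, 7, 4, 8, 1, 3, 2, 1, 6, 5, 6, 3, 4, 7, 4, 8, 5, 3, 6, 5, 7, 6, 4, 3, 5, 8, 4, 7, 5, 6, 5, 9, 6, 4, 3, 7, 4, 6, 8, 5, 2, 3, 1, 2,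 4, 6, 5, 4, 3, 2, 7, 1, 9, 5, 3, 7, 4, 5, 2, 3, 4, 2, 8, 5, 6, 7, 3, 5, 4, 7, 3, 6, 1, 2, 9, 3, 5, 8, 7, 3, 7, 4, 8, 1, 3, 2, 1, 6, 5, 6, 3, 4, 7, 4, 8, 5, 3, 6, 5, 7, 6]

/-- part of a word -/
def zero6w0p1 : List ℕ := [4, 3, 5, 8, 4, 7, 5, 3, 6, 5, 9, 6, 4, 3, 7, 4, 6, 8, 5, 2, 3, 1, 2, 4, 6, 5, 4, 3, 2, 7, 1, 9, 5, 3, 7, 4, 5, 2, 3, 4, 2, 8, 5, 6, 7, 3, 5, 4, 7, 3, 6, 1, 2, 9, 3, 5, 8, 7, 3, 7, 4, 8, 1, 3, 2, 1, 6, 5, 6, 3, 4, 2, 3, 1, 2, 3, 4, 8, 7, 8, 3, 6, 5, 4, 9, 7, 3, 2, 8, 7, 8, 5, 4, 1, 3, 2, 9, 8]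

/-- part of a word -/
def zero6w1p0 : List ℕ := [5, 6, 4, 5, 3, 4, 2, 3, 1, 2, 7, 3, 4, 5, 3, 7, 2, 3, 1, 4, 7, 3, 2, 1, 3, 7, 4, 3, 2, 7, 3, 5, 4, 3, 6, 2, 3, 1, 4, 7, 3, 2, 1, 3, 7, 4, 3, 2, 4, 8, 7, 3, 4, 7, 3, 5, 6, 2, 3, 1, 4, 7, 3, 2, 1, 3, 7, 4, 3, 2, 4, 8, 7, 3, 4, 7, 3, 4, 5, 3, 7, 2, 3, 1, 4, 7, 3, 2, 1, 3, 7, 4, 3, 2, 7, 3, 5, 4, 3, 7, 5, 6, 5, 9, 6, 4, 3, 7, 4, 6, 8, 5, 2, 3, 1, 2, 4, 6, 5, 4, 3, 2, 7, 1, 9, 5, 3, 7, 4, 5, 2, 3, 4, 2, 8, 5, 6, 7, 3, 5, 4, 7, 3, 6, 1, 2, 9, 3, 5, 8, 7, 3, 7, 4, 8, 1, 3, 2, 1, 6, 5, 6, 3, 4, 2, 3, 1, 2, 3, 4, 8, 7, 8, 3, 6, 5, 4, 9, 7, 3, 2, 8, 7, 8, 5, 4, 1, 3, 2, 6, 5, 9, 6,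 2, 3, 1, 5, 4, 7, 6, 3, 2, 1, 3, 7, 4, 3, 2, 9, 5, 2, 3, 1, 4, 7, 3, 2, 1, 3, 7, 4, 3, 2, 4, 8, 7, 3, 4, 7, 6, 2, 3, 1, 4, 7, 3, 2, 1, 3, 7, 4, 3, 2, 4, 8, 7, 3, 4, 7, 6]

/-- part of a word -/
def zero6w1p1 : List ℕ := [5, 9, 6, 4, 3, 7, 4, 6, 8, 5, 2, 3, 1, 2, 4, 6, 5, 4, 3, 2, 7, 1, 9, 5, 3, 7, 4, 5, 2, 3, 4, 2, 8, 5, 6, 7, 3, 5, 4, 7, 3, 6, 1, 2, 9, 3, 5, 8, 7, 3, 7, 4, 8, 1, 3, 2, 1, 6, 5, 6, 3, 4, 7, 4, 8, 5, 3, 6, 5, 7, 6, 4, 3, 5, 8, 4, 7, 5, 6, 5, 9, 6, 2, 3, 1, 5, 4, 7, 6, 3, 2, 1, 3, 7, 4, 3, 2, 6, 4, 3, 7, 4, 6, 8, 5, 2, 3, 1, 2, 4, 6, 5, 4, 3, 2, 7, 1, 9, 5, 3, 7, 4, 5, 2, 3, 4, 2, 8, 5, 6, 7, 3, 5, 4, 7, 3,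 6, 1, 2, 9, 3, 5, 8, 7, 3, 7, 4, 8, 1, 3, 2, 1, 6, 5, 6, 3, 4, 7, 4, 8, 5, 3, 6, 5, 7, 6, 4, 3, 5, 8, 4, 7, 5, 7, 3, 4, 5, 3, 7, 2, 3, 1, 4, 7, 3, 2, 1, 3, 7, 4, 3, 2, 7, 3, 5, 4, 3, 7, 5, 6, 5, 9, 6, 4, 3, 7, 4, 6, 8, 5, 2, 3, 1, 2, 4, 6, 5, 4, 3, 2, 7, 1, 9, 5, 3, 7, 4, 5, 2, 3, 4, 2, 8, 5, 6, 7, 3, 5, 4, 7, 3, 6, 1, 2, 9, 3, 5, 8, 7, 3]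

/-- part of a word -/
def zero6w1p2 : List ℕ := [7, 4, 8, 1, 3, 2, 1, 6, 5, 6, 3, 4, 2, 3, 1, 2, 3, 4, 8, 7, 8, 3, 6, 5, 4, 9, 7, 3, 2, 8, 7, 8, 5, 4, 1, 3, 2, 7, 3, 4, 5, 3, 7, 2, 3, 1, 4, 7, 3, 2, 1, 3, 7, 4, 3, 2, 7, 3, 5, 4, 3, 7, 6, 5, 9, 6, 4, 3, 7, 4, 6, 8, 5, 2, 3, 1, 2, 4, 6, 5, 4, 3, 2, 7, 1, 9, 5, 3, 7, 4, 5, 2, 3, 4, 2, 8, 5, 6, 7, 3, 5, 4, 7, 3, 6, 1, 2, 9, 3, 5, 8, 7, 3, 7, 4, 8, 1, 3, 2, 1, 6, 5, 6, 3, 4, 7, 4, 8, 5, 3, 6, 5, 7, 6, 4, 3, 5, 8, 4, 7, 6, 5, 9, 6, 4, 3, 7, 4, 6, 8, 5, 2, 3, 1, 2, 4, 6, 5, 4, 3, 2, 7, 1, 9, 5, 3, 7, 4, 5, 2, 3, 4, 2, 8, 5, 6, 7, 3, 5, 4, 7, 3, 6, 1, 2, 9, 3, 5, 8, 7, 3, 7, 4,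 8, 1, 3, 2, 1, 6, 5, 6, 3, 4, 2, 3, 1, 2, 3, 4, 8, 7, 8, 3, 6, 5, 4, 9, 7, 3, 2, 8, 7, 8, 5, 4, 1, 3, 2, 6, 5, 9, 6, 4, 3, 7, 4, 6, 8, 5, 2, 3, 1, 2, 4, 6, 5, 4, 3, 2, 7]

/-- part of a word -/
def zero6w1p3 : List ℕ := [1, 9, 5, 3, 7, 4, 5, 2, 3, 4, 2, 8, 5, 6, 7, 3, 5, 4, 7, 3, 6, 1, 2, 9, 3, 5, 8, 7, 3, 7, 4, 8, 1, 3, 2, 1, 6, 5, 6, 3, 4, 7, 4, 8, 5, 3, 6, 5, 7, 6, 4, 3, 5, 8, 4, 7, 5, 9]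

/-- part of a word -/
def zero6w2p0 : List ℕ := [2, 3, 7, 8, 4, 3, 7, 5, 4, 3, 1, 2, 7, 6, 2, 3, 1, 4, 7, 3, 2, 1, 3, 7, 4, 3, 2, 4, 8, 7, 3, 4, 7, 3, 5, 6, 2, 3, 1, 4, 7, 3, 2, 1, 3, 7, 4, 3, 2, 4, 8, 7, 3, 4, 7, 6, 5, 9, 6, 4, 3, 7, 4, 6, 8, 5, 2, 3, 1, 2, 4, 6, 5, 4, 3, 2, 7, 1, 9, 5, 3, 7, 4, 5, 2, 3, 4, 2, 8, 5, 6, 7, 3, 5, 4, 7, 3, 6, 1, 2, 9, 3, 5, 8, 7, 3, 7, 4, 8, 1, 3, 2, 1, 6, 5, 6, 3, 4, 7, 4, 8, 5, 3, 6, 5, 7, 6, 4, 3, 5, 8, 4, 7, 5, 7, 5, 6, 5, 9, 6, 4, 3, 7, 4, 6, 8, 5, 2, 3, 1, 2, 4, 6, 5, 4, 3, 2, 7, 1, 9, 5, 3, 7, 4, 5, 2, 3, 4, 2, 8, 5, 6, 7, 3, 5, 4, 7, 3, 6, 1, 2, 9, 3, 5, 8, 7, 3, 7, 4, 8, 1, 3, 2,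 1, 6, 5, 6, 3, 4, 2, 3, 1, 2, 3, 4, 8, 7, 8, 3, 6, 5, 4, 9, 7, 3, 2, 8, 7, 8, 5, 4, 1, 3, 2, 9, 5, 6, 2, 3, 1, 4, 7, 3, 2, 1, 3, 7, 4, 3, 2, 4, 8, 7, 3, 4, 7, 5, 6, 5, 9]

/-- part of a word -/
def zero6w2p1 : List ℕ := [6, 4, 3, 7, 4, 6, 8, 5, 2, 3, 1, 2, 4, 6, 5, 4, 3, 2, 7, 1, 9, 5, 3, 7, 4, 5, 2, 3, 4, 2, 8, 5, 6, 7, 3, 5, 4, 7, 3, 6, 1, 2, 9, 3, 5, 8, 7, 3, 7, 4, 8, 1, 3, 2, 1, 6, 5, 6, 3, 4, 2, 3, 1, 2, 3, 4, 8, 7, 8, 3, 6, 5, 4, 9, 7, 3, 2, 8, 7, 8, 5, 4, 1, 3, 2, 6, 5, 9, 6, 2, 3, 1, 5, 4, 7, 6, 3, 2, 1, 3, 7, 4, 3, 2, 9, 5, 6, 8, 7, 3, 4, 5, 3, 7, 2, 3, 1, 4, 7, 3, 2, 1, 3, 7, 4, 3, 2, 7, 3, 5, 4, 3, 7, 6, 5, 9,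 6, 4, 3, 7, 4, 6, 8, 5, 2, 3, 1, 2, 4, 6, 5, 4, 3, 2, 7, 1, 9, 5, 3, 7, 4, 5, 2, 3, 4, 2, 8, 5, 6, 7, 3, 5, 4, 7, 3, 6, 1, 2, 9, 3, 5, 8, 7, 3, 7, 4, 8, 1, 3, 2, 1, 6, 5, 6, 3, 4, 7, 4, 8, 5, 3, 6, 5, 7, 6, 4, 3, 5, 8, 4, 7, 5, 6, 5, 9, 6, 4, 3, 7, 4, 6, 8, 5, 2, 3, 1, 2, 4, 6, 5, 4, 3, 2, 7, 1, 9, 5, 3, 7, 4, 5, 2, 3, 4, 2, 8, 5, 6, 7, 3]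

/-- part of a word -/
def zero6w2p2 : List ℕ := [5, 4, 7, 3, 6, 1, 2, 9, 3, 5, 8, 7, 3, 7, 4, 8, 1, 3, 2, 1, 6, 5, 6, 3, 4, 7, 4, 8, 5, 3, 6, 5, 7, 6, 4, 3, 5, 8, 4, 7, 6, 5, 9, 6, 4, 3, 7, 4, 6, 8, 5, 2, 3, 1, 2, 4, 6, 5, 4, 3, 2, 7, 1, 9, 5, 3, 7, 4, 5, 2, 3, 4, 2, 8, 5, 6, 7, 3, 5, 4, 7, 3, 6, 1, 2, 9, 3, 5, 8, 7, 3, 7, 4, 8, 1, 3, 2, 1, 6, 5, 6, 3, 4, 2, 3, 1, 2, 3, 4, 8, 7, 8, 3, 6, 5, 4, 9, 7, 3, 2, 8, 7, 8, 5, 4, 1, 3, 2, 9]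

/-- part of a word -/
def zero6finp0 : List ℕ := [3, 7, 2, 3, 1, 2, 8, 7, 3, 5, 7, 3, 4, 5, 3, 7, 2, 3, 1, 4, 7, 3, 2, 1, 3, 7, 4, 3, 2, 7, 3, 5, 4, 3, 6, 5, 9, 6, 4, 3, 7, 4, 6, 8, 5, 2, 3, 1, 2, 4, 6, 5, 4, 3, 2, 7, 1, 9, 5, 3, 7, 4, 5, 2, 3, 4, 2, 8, 5, 6, 7, 3, 5, 4, 7, 3, 6, 1, 2, 9, 3, 5, 8, 7, 3, 7, 4, 8, 1, 3, 2, 1, 6, 5, 6, 3, 4, 7, 4, 8, 5, 3, 6, 5, 7, 6, 4, 3, 5, 8, 4, 7, 5, 6, 2, 3, 1, 4, 7, 3, 2, 1, 3, 7, 4, 3, 2, 4, 8, 7, 3, 4, 7, 6, 5, 9, 6, 4, 3, 7, 4, 6, 8, 5, 2, 3, 1, 2, 4, 6, 5, 4, 3, 2, 7, 1, 9, 5, 3, 7, 4, 5, 2, 3, 4, 2, 8, 5, 6, 7, 3, 5, 4, 7, 3, 6, 1, 2, 9, 3, 5, 8, 7, 3, 7, 4, 8, 1, 3, 2, 1, 6, 5,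 6, 3, 4, 7, 4, 8, 5, 3, 6, 5, 7, 6, 4, 3, 5, 8, 4, 7, 5, 6, 2, 3, 1, 4, 7, 3, 2, 1, 3, 7, 4, 3, 2, 4, 8, 7, 3, 4, 7, 6, 2, 3, 1, 4, 7, 3, 2, 1, 3, 7, 4, 3, 2, 4, 8, 7, 3]

/-- part of a word -/
def zero6finp1 : List ℕ := [4, 7, 8, 6, 5, 9, 6, 4, 3, 7, 4, 6, 8, 5, 2, 3, 1, 2, 4, 6, 5, 4, 3, 2, 7, 1, 9, 5, 3, 7, 4, 5, 2, 3, 4, 2, 8, 5, 6, 7, 3, 5, 4, 7, 3, 6, 1, 2, 9, 3, 5, 8, 7, 3, 7, 4, 8, 1, 3, 2, 1, 6, 5, 6, 3, 4, 7, 4, 8, 5, 3, 6, 5, 7, 6, 4, 3, 5, 8, 4, 7, 5, 6, 5, 9, 6, 2, 3, 1, 5, 4, 7, 6, 3, 2, 1, 3, 7, 4, 3, 2, 6, 2, 3, 1, 5, 4, 7, 6, 3, 2, 1, 3, 7, 4, 3, 2, 9, 5, 6, 7, 3, 4, 5, 3, 7, 2, 3, 1, 4, 7, 3, 2, 1, 3, 7,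 4, 3, 2, 7, 3, 5, 4, 3, 7, 5, 6, 5, 9, 6, 4, 3, 7, 4, 6, 8, 5, 2, 3, 1, 2, 4, 6, 5, 4, 3, 2, 7, 1, 9, 5, 3, 7, 4, 5, 2, 3, 4, 2, 8, 5, 6, 7, 3, 5, 4, 7, 3, 6, 1, 2, 9, 3, 5, 8, 7, 3, 7, 4, 8, 1, 3, 2, 1, 6, 5, 6, 3, 4, 2, 3, 1, 2, 3, 4, 8, 7, 8, 3, 6, 5, 4, 9, 7, 3, 2, 8, 7, 8, 5, 4, 1, 3, 2, 7, 3, 4, 5, 3, 7, 2, 3, 1, 4, 7, 3, 2, 1, 3, 7]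

/-- part of a word -/
def zero6finp2 : List ℕ := [4, 3, 2, 7, 3, 5, 4, 3, 7, 6, 5, 9, 6, 4, 3, 7, 4, 6, 8, 5, 2, 3, 1, 2, 4, 6, 5, 4, 3, 2, 7, 1, 9, 5, 3, 7, 4, 5, 2, 3, 4, 2, 8, 5, 6, 7, 3, 5, 4, 7, 3, 6, 1, 2, 9, 3, 5, 8, 7, 3, 7, 4, 8, 1, 3, 2, 1, 6, 5, 6, 3, 4, 7, 4, 8, 5, 3, 6, 5, 7, 6, 4, 3, 5, 8, 4, 7, 5, 3, 1]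

/-- a loop -/
def zeroLoop6 : LoopWit := ⟨[⟨3, [zero6w0p0, zero6w0p1].flatten, 0, [1, 2, 3, 4, 5, 6, 7, 3, 2, 4, 3, 5, 4, 8, 7, 3, 2, 1]⟩,
  ⟨7, [zero6w1p0, zero6w1p1, zero6w1p2, zero6w1p3].flatten, 0, [3, 2, 1, 4, 3, 2, 6, 5, 4, 3, 7, 3, 4, 5, 8, 7, 3, 4]⟩,
  ⟨7, [zero6w2p0, zero6w2p1, zero6w2p2].flatten, 0, [6, 5, 4, 3, 2, 1, 7, 3, 2]⟩], [zero6finp0, zero6finp1, zero6finp2].flatten, 0⟩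

/-- part of a word -/
def zero7w1p0 : List ℕ := [3, 7, 2, 3, 1, 2, 7, 3, 4, 5, 3, 7, 2, 3, 1, 4, 7, 3, 2, 1, 3, 7, 4, 3, 2, 7, 3, 5, 4, 5, 6, 2, 3, 1, 4, 7, 3, 2, 1, 3, 7, 4, 3, 2, 4, 8, 7, 3, 4, 7, 3, 4, 5, 3, 7, 2, 3, 1, 4, 7, 3, 2, 1, 3, 7, 4, 3, 2, 7, 3, 5, 4, 3, 7, 6, 2, 3, 1, 4, 7, 3, 2, 1, 3, 7, 4, 3, 2, 4, 8, 7, 3, 4, 7, 6, 2, 3, 1, 4, 7, 3, 2, 1, 3, 7, 4, 3, 2, 4, 8, 7, 3, 4, 7, 6, 5, 9, 6, 4, 3, 7, 4, 6, 8, 5, 2, 3, 1, 2, 4, 6, 5, 4, 3, 2, 7, 1, 9, 5, 3, 7, 4, 5, 2, 3, 4, 2, 8, 5, 6, 7, 3, 5, 4, 7, 3, 6, 1, 2, 9, 3, 5, 8, 7, 3, 7, 4, 8, 1, 3, 2, 1, 6, 5, 6, 3, 4, 7, 4, 8, 5, 3, 6, 5, 7, 6, 4, 3, 5, 8, 4, 7, 5,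 6, 5, 9, 6, 4, 3, 7, 4, 6, 8, 5, 2, 3, 1, 2, 4, 6, 5, 4, 3, 2, 7, 1, 9, 5, 3, 7, 4, 5, 2, 3, 4, 2, 8, 5, 6, 7, 3, 5, 4, 7, 3, 6, 1, 2, 9, 3, 5, 8, 7, 3, 7, 4, 8, 1, 3, 2]

/-- part of a word -/
def zero7w1p1 : List ℕ := [1, 6, 5, 6, 3, 4, 7, 4, 8, 5, 3, 6, 5, 7, 6, 4, 3, 5, 8, 4, 7, 5, 6, 5, 9, 6, 2, 3, 1, 5, 4, 7, 6, 3, 2, 1, 3, 7, 4, 3, 2, 6, 2, 3, 1, 5, 4, 7, 6, 3, 2, 1, 3, 7, 4, 3, 2, 6, 4, 3, 7, 4, 6, 8, 5, 2, 3, 1, 2, 4, 6, 5, 4, 3, 2, 7, 1, 9, 5, 3, 7, 4, 5, 2, 3, 4, 2, 8, 5, 6, 7, 3, 5, 4, 7, 3, 6, 1, 2, 9, 3, 5, 8, 7, 3, 7, 4, 8, 1, 3, 2, 1, 6, 5, 6, 3, 4, 7, 4, 8, 5, 3, 6, 5, 7, 6, 4, 3, 5, 8, 4, 7, 6, 5, 9, 6,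 4, 3, 7, 4, 6, 8, 5, 2, 3, 1, 2, 4, 6, 5, 4, 3, 2, 7, 1, 9, 5, 3, 7, 4, 5, 2, 3, 4, 2, 8, 5, 6, 7, 3, 5, 4, 7, 3, 6, 1, 2, 9, 3, 5, 8, 7, 3, 7, 4, 8, 1, 3, 2, 1, 6, 5, 6, 3, 4, 2, 3, 1, 2, 3, 4, 8, 7, 8, 3, 6, 5, 4, 9, 7, 3, 2, 8, 7, 8, 5, 4, 1, 3, 2, 7, 3, 4, 5, 3, 7, 2, 3, 1, 4, 7, 3, 2, 1, 3, 7, 4, 3, 2, 7, 3, 5, 4, 3, 7, 6, 5, 9, 6, 4]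

/-- part of a word -/
def zero7w1p2 : List ℕ := [3, 7, 4, 6, 8, 5, 2, 3, 1, 2, 4, 6, 5, 4, 3, 2, 7, 1, 9, 5, 3, 7, 4, 5, 2, 3, 4, 2, 8, 5, 6, 7, 3, 5, 4, 7, 3, 6, 1, 2, 9, 3, 5, 8, 7, 3, 7, 4, 8, 1, 3, 2, 1, 6, 5, 6, 3, 4, 7, 4, 8, 5, 3, 6, 5, 7, 6, 4, 3, 5, 8, 4, 7, 5, 6, 5, 9, 6, 4, 3, 7, 4, 6, 8, 5, 2, 3, 1, 2, 4, 6, 5, 4, 3, 2, 7, 1, 9, 5, 3, 7, 4, 5, 2, 3, 4, 2, 8, 5, 6, 7, 3, 5, 4, 7, 3, 6, 1, 2, 9, 3, 5, 8, 7, 3, 7, 4, 8, 1, 3, 2, 1, 6, 5, 6, 3, 4, 7, 4, 8, 5, 3, 6, 5, 7, 6, 4, 3, 5, 8, 4, 7, 6, 5, 9, 6, 4, 3, 7, 4, 6, 8, 5, 2, 3, 1, 2, 4, 6, 5, 4, 3, 2, 7, 1, 9, 5, 3, 7, 4, 5, 2, 3, 4, 2, 8, 5, 6, 7, 3, 5, 4, 7,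 3, 6, 1, 2, 9, 3, 5, 8, 7, 3, 7, 4, 8, 1, 3, 2, 1, 6, 5, 6, 3, 4, 2, 3, 1, 2, 3, 4, 8, 7, 8, 3, 6, 5, 4, 9, 7, 3, 2, 8, 7, 8, 5, 4, 1, 3, 2, 6, 5, 9, 6, 4, 3, 7, 4, 6, 8]

/-- part of a word -/
def zero7w1p3 : List ℕ := [5, 2, 3, 1, 2, 4, 6, 5, 4, 3, 2, 7, 1, 9, 5, 3, 7, 4, 5, 2, 3, 4, 2, 8, 5, 6, 7, 3, 5, 4, 7, 3, 6, 1, 2, 9, 3, 5, 8, 7, 3, 7, 4, 8, 1, 3, 2, 1, 6, 5, 6, 3, 4, 7, 4, 8, 5, 3, 6, 5, 7, 6, 4, 3, 5, 8, 4, 7, 6, 5, 9, 6, 4, 3, 7, 4, 6, 8, 5, 2, 3, 1, 2, 4, 6, 5, 4, 3, 2, 7, 1, 9, 5, 3, 7, 4, 5, 2, 3, 4, 2, 8, 5, 6, 7, 3, 5, 4, 7, 3, 6, 1, 2, 9, 3, 5, 8, 7, 3, 7, 4, 8, 1, 3, 2, 1, 6, 5, 6, 3, 4, 2, 3, 1, 2, 3,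 4, 8, 7, 8, 3, 6, 5, 4, 9, 7, 3, 2, 8, 7, 8, 5, 4, 1, 3, 2, 9, 1]

/-- part of a word -/
def zero7w2p0 : List ℕ := [3, 7, 2, 3, 1, 2, 7, 3, 4, 5, 3, 7, 2, 3, 1, 4, 7, 3, 2, 1, 3, 7, 4, 3, 2, 7, 3, 5, 4, 5, 6, 2, 3, 1, 4, 7, 3, 2, 1, 3, 7, 4, 3, 2, 4, 8, 7, 3, 4, 7, 3, 4, 5, 3, 7, 2, 3, 1, 4, 7, 3, 2, 1, 3, 7, 4, 3, 2, 7, 3, 5, 4, 3, 7, 6, 2, 3, 1, 4, 7, 3, 2, 1, 3, 7, 4, 3, 2, 4, 8, 7, 3, 4, 7, 6, 2, 3, 1, 4, 7, 3, 2, 1, 3, 7, 4, 3, 2, 4, 8, 7, 3, 4, 7, 6, 5, 9, 6, 4, 3, 7, 4, 6, 8, 5, 2, 3, 1, 2, 4, 6, 5, 4, 3, 2, 7, 1, 9, 5, 3, 7, 4, 5, 2, 3, 4, 2, 8, 5, 6, 7, 3, 5, 4, 7, 3, 6, 1, 2, 9, 3, 5, 8, 7, 3, 7, 4, 8, 1, 3, 2,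 1, 6, 5, 6, 3, 4, 7, 4, 8, 5, 3, 6, 5, 7, 6, 4, 3, 5, 8, 4, 7, 5, 6, 5, 9, 6, 4, 3, 7, 4, 6, 8, 5, 2, 3, 1, 2, 4, 6, 5, 4, 3, 2, 7, 1, 9, 5, 3, 7, 4, 5, 2, 3, 4, 2, 8, 5, 6, 7, 3, 5, 4, 7, 3, 6, 1, 2, 9, 3, 5, 8, 7, 3, 7, 4, 8, 1, 3, 2]

/-- part of a word -/
def zero7w2p1 : List ℕ := [1, 6, 5, 6, 3, 4, 7, 4, 8, 5, 3, 6, 5, 7, 6, 4, 3, 5, 8, 4, 7, 5, 6, 5, 9, 6, 2, 3, 1, 5, 4, 7, 6, 3, 2, 1, 3, 7, 4, 3, 2, 6, 2, 3, 1, 5, 4, 7, 6, 3, 2, 1, 3, 7, 4, 3, 2, 6, 4, 3, 7, 4, 6, 8, 5, 2, 3, 1, 2, 4, 6, 5, 4, 3, 2, 7, 1, 9, 5, 3, 7, 4, 5, 2, 3, 4, 2, 8, 5, 6, 7, 3, 5, 4, 7, 3, 6, 1, 2, 9, 3, 5, 8, 7, 3, 7, 4, 8, 1, 3, 2, 1, 6, 5,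 6, 3, 4, 7, 4, 8, 5, 3, 6, 5, 7, 6, 4, 3, 5, 8, 4, 7, 6, 5, 9, 6, 4, 3, 7, 4, 6, 8, 5, 2, 3, 1, 2, 4, 6, 5, 4, 3, 2, 7, 1, 9, 5, 3, 7, 4, 5, 2, 3, 4, 2, 8, 5, 6, 7, 3, 5, 4, 7, 3, 6, 1, 2, 9, 3, 5, 8, 7, 3, 7, 4, 8, 1, 3, 2, 1, 6, 5, 6, 3, 4, 2, 3, 1, 2, 3, 4, 8, 7, 8, 3, 6, 5, 4, 9, 7, 3, 2, 8, 7, 8, 5, 4, 1, 3, 2, 7, 3, 4, 5, 3, 7, 2, 3, 1, 4, 7, 3, 2, 1, 3, 7, 4, 3, 2, 7, 3, 5, 4, 3, 7, 6, 5, 9, 6, 4]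

/-- part of a word -/
def zero7w2p2 : List ℕ := [3, 7, 4, 6, 8, 5, 2, 3, 1, 2, 4, 6, 5, 4, 3, 2, 7, 1, 9, 5, 3, 7, 4, 5, 2, 3, 4, 2, 8, 5, 6, 7, 3, 5, 4, 7, 3, 6, 1, 2, 9, 3, 5, 8, 7, 3, 7, 4, 8, 1, 3, 2, 1, 6, 5, 6, 3, 4, 7, 4, 8, 5, 3, 6, 5, 7, 6, 4, 3, 5, 8, 4, 7, 5, 6, 5, 9, 6, 4, 3, 7, 4, 6, 8, 5, 2, 3, 1, 2, 4, 6, 5, 4, 3, 2, 7, 1, 9, 5, 3, 7, 4, 5, 2, 3, 4, 2, 8, 5, 6, 7, 3, 5, 4, 7, 3, 6, 1, 2, 9, 3, 5, 8, 7, 3, 7, 4, 8, 1, 3, 2, 1, 6, 5, 6, 3, 4, 7, 4, 8, 5, 3, 6, 5, 7, 6, 4, 3, 5, 8, 4, 7, 6, 5, 9, 6, 4, 3, 7, 4, 6, 8, 5, 2, 3, 1, 2, 4, 6, 5, 4, 3, 2, 7, 1, 9, 5, 3, 7, 4, 5, 2, 3, 4, 2, 8, 5, 6, 7, 3, 5, 4, 7,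 3, 6, 1, 2, 9, 3, 5, 8, 7, 3, 7, 4, 8, 1, 3, 2, 1, 6, 5, 6, 3, 4, 2, 3, 1, 2, 3, 4, 8, 7, 8, 3, 6, 5, 4, 9, 7, 3, 2, 8, 7, 8, 5, 4, 1, 3, 2, 6, 5, 9, 6, 4, 3, 7, 4, 6, 8]

/-- part of a word -/
def zero7w2p3 : List ℕ := [5, 2, 3, 1, 2, 4, 6, 5, 4, 3, 2, 7, 1, 9, 5, 3, 7, 4, 5, 2, 3, 4, 2, 8, 5, 6, 7, 3, 5, 4, 7, 3, 6, 1, 2, 9, 3, 5, 8, 7, 3, 7, 4, 8, 1, 3, 2, 1, 6, 5, 6, 3, 4, 7, 4, 8, 5, 3, 6, 5, 7, 6, 4, 3, 5, 8, 4, 7, 6, 5, 9, 6, 4, 3, 7, 4, 6, 8, 5, 2, 3, 1, 2, 4, 6, 5, 4, 3, 2, 7, 1, 9, 5, 3, 7, 4, 5, 2, 3, 4, 2, 8, 5, 6, 7, 3, 5, 4, 7, 3, 6, 1, 2, 9, 3, 5, 8, 7, 3, 7, 4, 8, 1, 3, 2, 1, 6, 5, 6, 3, 4, 2, 3, 1, 2, 3,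 4, 8, 7, 8, 3, 6, 5, 4, 9, 7, 3, 2, 8, 7, 8, 5, 4, 1, 3, 2, 9, 1]

/-- part of a word -/
def zero7finp0 : List ℕ := [5, 3, 4, 2, 3, 1, 2, 8, 7, 3, 5, 6, 2, 3, 1, 4, 7, 3, 2, 1, 3, 7, 4, 3, 2, 4, 8, 7, 3, 4, 6, 5, 9, 6, 4, 3, 7, 4, 6, 8, 5, 2, 3, 1, 2, 4, 6, 5, 4, 3, 2, 7, 1, 9, 5, 3, 7, 4, 5, 2, 3, 4, 2, 8, 5, 6, 7, 3, 5, 4, 7, 3, 6, 1, 2, 9, 3, 5, 8, 7, 3, 7, 4, 8, 1, 3, 2, 1, 6, 5, 6, 3, 4, 7, 4, 8, 5, 3, 6, 5, 7, 6, 4, 3, 5, 8, 4, 7, 6, 5, 9, 6, 4, 3, 7, 4, 6, 8, 5, 2, 3, 1, 2, 4, 6, 5, 4, 3, 2, 7, 1, 9, 5, 3, 7, 4, 5, 2, 3, 4, 2, 8, 5, 6, 7, 3, 5, 4, 7, 3, 6, 1, 2, 9, 3, 5, 8, 7, 3, 7, 4, 8, 1, 3, 2, 1, 6, 5, 6, 3, 4,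 2, 3, 1, 2, 3, 4, 8, 7, 8, 3, 6, 5, 4, 9, 7, 3, 2, 8, 7, 8, 5, 4, 1, 3, 2, 6, 5, 9, 6, 2, 3, 1, 5, 4, 7, 6, 3, 2, 1, 3, 7, 4, 3, 2, 9, 5, 2, 3, 1, 4, 7, 3, 2, 1, 3, 7, 4, 3, 2, 4, 8, 7, 3, 4, 7, 6, 2, 3, 1, 4, 7, 3, 2, 1, 3, 7, 4, 3, 2]

/-- part of a word -/
def zero7finp1 : List ℕ := [4, 8, 7, 3, 4, 7, 8, 6, 5, 9, 6, 2, 3, 1, 5, 4, 7, 6, 3, 2, 1, 3, 7, 4, 3, 2, 6, 2, 3, 1, 5, 4, 7, 6, 3, 2, 1, 3, 7, 4, 3, 2, 9, 5, 6, 5, 6, 5, 9, 6, 4, 3, 7, 4, 6, 8, 5, 2, 3, 1, 2, 4, 6, 5, 4, 3, 2, 7, 1, 9, 5, 3, 7, 4, 5, 2, 3, 4, 2, 8, 5, 6, 7, 3, 5, 4, 7, 3, 6, 1, 2, 9, 3, 5, 8, 7, 3, 7, 4, 8, 1, 3, 2, 1, 6, 5, 6, 3, 4, 2, 3, 1, 2, 3,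 4, 8, 7, 8, 3, 6, 5, 4, 9, 7, 3, 2, 8, 7, 8, 5, 4, 1, 3, 2, 6, 5, 9, 6, 4, 3, 7, 4, 6, 8, 5, 2, 3, 1, 2, 4, 6, 5, 4, 3, 2, 7, 1, 9, 5, 3, 7, 4, 5, 2, 3, 4, 2, 8, 5, 6, 7, 3, 5, 4, 7, 3, 6, 1, 2, 9, 3, 5, 8, 7, 3, 7, 4, 8, 1, 3, 2, 1, 6, 5, 6, 3, 4, 7, 4, 8, 5, 3, 6, 5, 7, 6, 4, 3, 5, 8, 4, 7, 6, 5, 9, 6, 4, 3, 7, 4, 6, 8, 5, 2, 3, 1, 2, 4, 6, 5, 4, 3, 2, 7, 1, 9, 5, 3, 7, 4, 5, 2, 3, 4, 2, 8, 5, 6, 7, 3]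

/-- part of a word -/
def zero7finp2 : List ℕ := [5, 4, 7, 3, 6, 1, 2, 9, 3, 5, 8, 7, 3, 7, 4, 8, 1, 3, 2, 1, 6, 5, 6, 3, 4, 2, 3, 1, 2, 3, 4, 8, 7, 8, 3, 6, 5, 4, 9, 7, 3, 2, 8, 7, 8, 5, 4, 1, 3, 2, 7, 3, 4, 5, 3, 7, 2, 3, 1, 4, 7, 3, 2, 1, 3, 7, 4, 3, 2, 7, 3, 5, 4, 3, 7, 6, 5, 9, 6, 4, 3, 7, 4, 6, 8, 5, 2, 3, 1, 2, 4, 6, 5, 4, 3, 2, 7, 1, 9, 5, 3, 7, 4, 5, 2, 3, 4, 2, 8, 5, 6, 7, 3, 5, 4, 7, 3, 6, 1, 2, 9, 3, 5, 8, 7, 3, 7, 4, 8, 1, 3, 2, 1, 6, 5, 6, 3, 4, 7, 4, 8, 5, 3, 6, 5, 7, 6, 4, 3, 5, 8, 4, 7, 5, 6, 5, 9, 6, 4, 3, 7, 4, 6, 8, 5, 2, 3, 1, 2, 4, 6, 5, 4, 3, 2, 7, 1, 9, 5, 3, 7, 4, 5, 2, 3, 4, 2, 8, 5, 6, 7, 3, 5,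 4, 7, 3, 6, 1, 2, 9, 3, 5, 8, 7, 3, 7, 4, 8, 1, 3, 2, 1, 6, 5, 6, 3, 4, 7, 4, 8, 5, 3, 6, 5, 7, 6, 4, 3, 5, 8, 4, 7, 5, 3, 9, 8]

/-- a loop -/
def zeroLoop7 : LoopWit := ⟨[⟨3, [2, 7, 6, 2, 3, 1, 4, 7, 3, 2, 1, 3, 7, 4, 3, 2, 4, 8, 7, 3, 4, 7, 3, 5, 7, 5, 6, 2, 3, 1, 4, 7, 3, 2, 1, 3, 7, 4, 3, 2, 4, 8, 7, 3, 4, 7, 6, 2, 3, 1, 4, 7, 3, 2, 1, 3, 7, 4, 3, 2, 4, 8, 7, 3, 4, 7, 6, 2, 3, 1, 4, 7, 3, 2, 1, 3, 7, 4, 3, 2, 4, 8, 7, 3, 4, 7, 3], 0, [1, 2, 3, 4, 5, 6, 7, 3, 2, 1, 4, 3, 5, 8, 7, 3, 2, 1, 4, 3, 2, 5, 4, 7, 3, 8, 7, 9, 6, 5, 4, 3, 2, 1]⟩,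
  ⟨3, [zero7w1p0, zero7w1p1, zero7w1p2, zero7w1p3].flatten, 1, [1, 2, 3, 4, 5, 6, 7, 3, 2, 1, 4, 3, 5, 8, 7, 3, 2, 1, 4, 3, 2, 5, 4, 7, 3, 8, 7, 9, 6, 5, 4, 3, 2, 1]⟩,
  ⟨3, [zero7w2p0, zero7w2p1, zero7w2p2, zero7w2p3].flatten, 1, [1, 2, 3, 4, 5, 6, 7, 3, 2, 1, 4, 3, 5, 8, 7, 3, 2, 1, 4, 3, 2, 5, 4, 7, 3, 8, 7, 9, 6, 5, 4, 3, 2, 1]⟩], [zero7finp0, zero7finp1, zero7finp2].flatten, 2⟩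

/-- a loop -/
def zeroLoop8 : LoopWit := ⟨[⟨4, [], 0, []⟩,
  ⟨5, [0], 0, []⟩,
  ⟨2, [], 0, []⟩], [], 0⟩

/-- part of a word -/
def zero9finp0 : List ℕ := [1, 2, 3, 7, 4, 5, 3, 4, 2, 3, 7, 6, 5, 4, 3, 2, 3, 5, 3, 4, 5, 3, 7, 2, 3, 1, 4, 7, 3, 2, 1, 3, 7, 4, 3, 2, 7, 3, 5, 4, 3, 7, 6, 2, 3, 1, 4, 7, 3, 2, 1, 3, 7, 4, 3, 2, 4, 8, 7, 3, 4, 7, 6, 5, 9, 6, 2, 3, 1, 5, 4, 7, 6, 3, 2, 1, 3, 7, 4, 3, 2, 9, 5, 2, 3, 1, 4, 7, 3, 2, 1, 3, 7, 4, 3, 2, 4, 8, 7, 3, 4, 7, 6, 5, 9, 6, 2, 3, 1, 5, 4, 7, 6, 3, 2, 1, 3, 7, 4, 3, 2, 6, 2, 3, 1, 5, 4, 7, 6, 3, 2, 1, 3, 7, 4, 3, 2, 6, 4, 3, 7, 4, 6, 8, 5, 2, 3, 1, 2, 4, 6, 5, 4, 3, 2, 7, 1, 9,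 5, 3, 7, 4, 5, 2, 3, 4, 2, 8, 5, 6, 7, 3, 5, 4, 7, 3, 6, 1, 2, 9, 3, 5, 8, 7, 3, 7, 4, 8, 1, 3, 2, 1, 6, 5, 6, 3, 4, 7, 4, 8, 5, 3, 6, 5, 7, 6, 4, 3, 5, 8, 4, 7, 5, 6, 5, 9, 6, 2, 3, 1, 5, 4, 7, 6, 3, 2, 1, 3, 7, 4, 3, 2, 6, 4, 3, 7, 4, 6, 8, 5, 2, 3, 1, 2, 4, 6, 5, 4, 3, 2]

/-- part of a word -/
def zero9finp1 : List ℕ := [7, 1, 9, 5, 3, 7, 4, 5, 2, 3, 4, 2, 8, 5, 6, 7, 3, 5, 4, 7, 3, 6, 1, 2, 9, 3, 5, 8, 7, 3, 7, 4, 8, 1, 3, 2, 1, 6, 5, 6, 3, 4, 7, 4, 8, 5, 3, 6, 5, 7, 6, 4, 3, 5, 8, 4, 7, 5, 6, 5, 9, 6, 2, 3, 1, 5, 4, 7, 6, 3, 2, 1, 3, 7, 4, 3, 2, 9, 5, 6, 8, 7, 3, 4, 5, 3, 7, 2, 3, 1, 4, 7, 3, 2, 1, 3, 7, 4, 3, 2, 7,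 3, 5, 4, 3, 7, 5, 6, 5, 9, 6, 4, 3, 7, 4, 6, 8, 5, 2, 3, 1, 2, 4, 6, 5, 4, 3, 2, 7, 1, 9, 5, 3, 7, 4, 5, 2, 3, 4, 2, 8, 5, 6, 7, 3, 5, 4, 7, 3, 6, 1, 2, 9, 3, 5, 8, 7, 3, 7, 4, 8, 1, 3, 2, 1, 6, 5, 6, 3, 4, 2, 3, 1, 2, 3, 4, 8, 7, 8, 3, 6, 5, 4, 9, 7, 3, 2, 8, 7, 8, 5, 4, 1, 3, 2, 6, 5, 9, 6, 4, 3, 7, 4, 6, 8, 5, 2, 3, 1, 2, 4, 6, 5, 4, 3, 2, 7, 1, 9, 5, 3, 7, 4, 5, 2, 3, 4, 2, 8, 5, 6, 7, 3, 5, 4, 7, 3, 6, 1, 2, 9, 3, 5, 8, 7, 3, 7, 4, 8, 1]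

/-- part of a word -/
def zero9finp2 : List ℕ := [3, 2, 1, 6, 5, 6, 3, 4, 7, 4, 8, 5, 3, 6, 5, 7, 6, 4, 3, 5, 8, 4, 7, 1]

/-- a loop -/
def zeroLoop9 : LoopWit := ⟨[⟨4, [7, 3, 4, 5, 6, 9, 2, 3, 7, 4, 5, 3, 4, 2, 3, 7, 6, 5, 4, 3, 2], 0, [1]⟩,
  ⟨6, [], 0, []⟩,
  ⟨5, [], 0, [1]⟩], [zero9finp0, zero9finp1, zero9finp2].flatten, 0⟩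

/-- part of a word -/
def zero10w0p0 : List ℕ := [7, 3, 4, 5, 3, 7, 2, 3, 1, 4, 7, 3, 2, 1, 3, 7, 4, 3, 2, 7, 3, 5, 4, 3, 6, 2, 3, 1, 4, 7, 3, 2, 1, 3, 7, 4, 3, 2, 4, 8, 7, 3, 4, 7, 3, 5, 6, 2, 3, 1, 4, 7, 3, 2, 1, 3, 7, 4, 3, 2, 4, 8, 7, 3, 4, 6, 2, 3, 1, 4, 7, 3, 2, 1, 3, 7, 4, 3, 2, 4, 8, 7, 3, 4, 7, 9, 5, 6, 2, 3, 1, 4, 7, 3, 2, 1, 3, 7, 4, 3, 2, 4, 8, 7, 3, 4, 7, 6, 5, 9, 6, 2, 3, 1, 5, 4, 7, 6, 3, 2, 1, 3, 7, 4, 3, 2, 6, 4, 3, 7, 4, 6, 8, 5, 2, 3, 1, 2, 4, 6, 5, 4, 3, 2, 7, 1, 9, 5, 3, 7, 4, 5, 2, 3, 4, 2, 8, 5, 6, 7, 3, 5, 4, 7, 3, 6, 1, 2, 9, 3, 5, 8, 7, 3, 7, 4, 8, 1, 3, 2, 1, 6, 5, 6, 3, 4, 7, 4, 8, 5, 3, 6, 5,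 7, 6, 4, 3, 5, 8, 4, 7, 5, 6, 5, 9, 6, 2, 3, 1, 5, 4, 7, 6, 3, 2, 1, 3, 7, 4, 3, 2, 6, 4, 3, 7, 4, 6, 8, 5, 2, 3, 1, 2, 4, 6, 5, 4, 3, 2, 7, 1, 9, 5, 3, 7, 4, 5, 2, 3, 4]

/-- part of a word -/
def zero10w0p1 : List ℕ := [2, 8, 5, 6, 7, 3, 5, 4, 7, 3, 6, 1, 2, 9, 3, 5, 8, 7, 3, 7, 4, 8, 1, 3, 2, 1, 6, 5, 6, 3, 4, 7, 4, 8, 5, 3, 6, 5, 7, 6, 4, 3, 5, 8, 4, 7, 6, 5, 9, 6, 4, 3, 7, 4, 6, 8, 5, 2, 3, 1, 2, 4, 6, 5, 4, 3, 2, 7, 1, 9, 5, 3, 7, 4, 5, 2, 3, 4, 2, 8, 5, 6, 7, 3, 5, 4, 7, 3, 6, 1, 2, 9, 3, 5, 8, 7, 3, 7, 4, 8, 1, 3, 2, 1, 6, 5, 6, 3, 4, 2, 3, 1, 2, 3, 4, 8, 7, 8, 3, 6, 5, 4, 9, 7, 3, 2, 8, 7, 8, 5, 4, 1, 3, 2, 6, 5,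 9, 6, 4, 3, 7, 4, 6, 8, 5, 2, 3, 1, 2, 4, 6, 5, 4, 3, 2, 7, 1, 9, 5, 3, 7, 4, 5, 2, 3, 4, 2, 8, 5, 6, 7, 3, 5, 4, 7, 3, 6, 1, 2, 9, 3, 5, 8, 7, 3, 7, 4, 8, 1, 3, 2, 1, 6, 5, 6, 3, 4, 7, 4, 8, 5, 3, 6, 5, 7, 6, 4, 3, 5, 8, 4, 7, 5, 6, 5, 9, 6, 4, 3, 7, 4, 6, 8, 5, 2, 3, 1, 2, 4, 6, 5, 4, 3, 2, 7, 1, 9, 5, 3, 7, 4, 5, 2, 3, 4, 2, 8, 5, 6, 7]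

/-- part of a word -/
def zero10w0p2 : List ℕ := [3, 5, 4, 7, 3, 6, 1, 2, 9, 3, 5, 8, 7, 3, 7, 4, 8, 1, 3, 2, 1, 6, 5, 6, 3, 4, 7, 4, 8, 5, 3, 6, 5, 7, 6, 4, 3, 5, 8, 4, 7, 5]

/-- part of a word -/
def zero10w2p0 : List ℕ := [4, 5, 3, 4, 2, 3, 1, 2, 6, 2, 3, 1, 4, 7, 3, 2, 1, 3, 7, 4, 3, 2, 4, 8, 7, 3, 4, 6, 2, 3, 1, 4, 7, 3, 2, 1, 3, 7, 4, 3, 2, 4, 8, 7, 3, 4, 7, 6, 5, 9, 6, 4, 3, 7, 4, 6, 8, 5, 2, 3, 1, 2, 4, 6, 5, 4, 3, 2, 7, 1, 9, 5, 3, 7, 4, 5, 2, 3, 4, 2, 8, 5, 6, 7, 3, 5, 4, 7, 3, 6, 1, 2, 9, 3, 5, 8, 7, 3, 7, 4, 8, 1, 3, 2, 1, 6, 5, 6, 3, 4, 7, 4, 8, 5, 3, 6, 5, 7, 6, 4, 3, 5, 8, 4, 7, 5, 3, 5, 7, 6, 5, 9, 6, 4,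 3, 7, 4, 6, 8, 5, 2, 3, 1, 2, 4, 6, 5, 4, 3, 2, 7, 1, 9, 5, 3, 7, 4, 5, 2, 3, 4, 2, 8, 5, 6, 7, 3, 5, 4, 7, 3, 6, 1, 2, 9, 3, 5, 8, 7, 3, 7, 4, 8, 1, 3, 2, 1, 6, 5, 6, 3, 4, 7, 4, 8, 5, 3, 6, 5, 7, 6, 4, 3, 5, 8, 4, 7, 6, 5, 9, 6, 4, 3, 7, 4, 6, 8, 5, 2, 3, 1, 2, 4, 6, 5, 4, 3, 2, 7, 1, 9, 5, 3, 7, 4, 5, 2, 3, 4, 2, 8, 5, 6, 7, 3, 5, 4, 7, 3, 6]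

/-- part of a word -/
def zero10w2p1 : List ℕ := [1, 2, 9, 3, 5, 8, 7, 3, 7, 4, 8, 1, 3, 2, 1, 6, 5, 6, 3, 4, 2, 3, 1, 2, 3, 4, 8, 7, 8, 3, 6, 5, 4, 9, 7, 3, 2, 8, 7, 8, 5, 4, 1, 3, 2, 6, 2, 3, 1, 4, 7, 3, 2, 1, 3, 7, 4, 3, 2, 4, 8, 7, 3, 4, 7, 6, 2, 3, 1, 4, 7, 3, 2, 1, 3, 7, 4, 3, 2, 4, 8, 7, 3, 4, 3, 4, 5, 3, 7, 2, 3, 1, 4, 7, 3, 2, 1, 3, 7, 4, 3, 2, 7, 3, 5, 4, 3, 7, 6, 5, 9, 6, 4, 3, 7, 4, 6, 8, 5, 2, 3, 1, 2, 4, 6, 5, 4, 3, 2, 7, 1, 9, 5, 3, 7, 4, 5, 2, 3, 4, 2, 8, 5, 6, 7, 3, 5, 4, 7, 3, 6, 1, 2, 9, 3, 5, 8, 7, 3, 7, 4, 8, 1, 3, 2, 1, 6, 5, 6, 3, 4, 7, 4, 8, 5, 3, 6, 5, 7, 6, 4, 3, 5, 8, 4, 7, 5, 6, 5, 9, 6, 4, 3,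 7, 4, 6, 8, 5, 2, 3, 1, 2, 4, 6, 5, 4, 3, 2, 7, 1, 9, 5, 3, 7, 4, 5, 2, 3, 4, 2, 8, 5, 6, 7, 3, 5, 4, 7, 3, 6, 1, 2, 9, 3, 5, 8, 7, 3, 7, 4, 8, 1, 3, 2, 1, 6, 5, 6, 3, 4]

/-- part of a word -/
def zero10w2p2 : List ℕ := [7, 4, 8, 5, 3, 6, 5, 7, 6, 4, 3, 5, 8, 4, 7, 6, 5, 9, 6, 4, 3, 7, 4, 6, 8, 5, 2, 3, 1, 2, 4, 6, 5, 4, 3, 2, 7, 1, 9, 5, 3, 7, 4, 5, 2, 3, 4, 2, 8, 5, 6, 7, 3, 5, 4, 7, 3, 6, 1, 2, 9, 3, 5, 8, 7, 3, 7, 4, 8, 1, 3, 2, 1, 6, 5, 6, 3, 4, 2, 3, 1, 2, 3, 4, 8, 7, 8, 3, 6, 5, 4, 9, 7, 3, 2, 8, 7, 8, 5, 4, 1, 3, 2, 1]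

/-- part of a word -/
def zero10finp0 : List ℕ := [4, 5, 3, 4, 2, 3, 1, 2, 6, 5, 9, 6, 2, 3, 1, 5, 4, 7, 6, 3, 2, 1, 3, 7, 4, 3, 2, 6, 2, 3, 1, 5, 4, 7, 6, 3, 2, 1, 3, 7, 4, 3, 2, 9, 5, 2, 3, 1, 4, 7, 3, 2, 1, 3, 7, 4, 3, 2, 4, 8, 7, 3, 4, 3, 5, 6, 2, 3, 1, 4, 7, 3, 2, 1, 3, 7, 4, 3, 2, 4, 8, 7, 3, 4, 6, 2, 3, 1, 4, 7, 3, 2, 1, 3, 7, 4, 3, 2, 4, 8, 7, 3, 4, 7, 9, 5, 6, 2, 3, 1, 4, 7, 3, 2, 1, 3, 7, 4, 3, 2, 4, 8, 7, 3, 4, 7, 5, 6, 5, 9, 6, 4, 3, 7, 4, 6, 8, 5, 2, 3, 1, 2, 4, 6, 5, 4, 3, 2, 7, 1, 9, 5, 3, 7, 4, 5, 2, 3, 4, 2, 8, 5, 6, 7, 3, 5, 4, 7, 3, 6, 1, 2, 9, 3, 5, 8, 7, 3, 7, 4, 8, 1, 3, 2, 1, 6, 5, 6, 3, 4, 2, 3, 1,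 2, 3, 4, 8, 7, 8, 3, 6, 5, 4, 9, 7, 3, 2, 8, 7, 8, 5, 4, 1, 3, 2, 6, 5, 9, 6, 4, 3, 7, 4, 6, 8, 5, 2, 3, 1, 2, 4, 6, 5, 4, 3, 2, 7, 1, 9, 5, 3, 7, 4, 5, 2, 3, 4, 2, 8, 5]

/-- part of a word -/
def zero10finp1 : List ℕ := [6, 7, 3, 5, 4, 7, 3, 6, 1, 2, 9, 3, 5, 8, 7, 3, 7, 4, 8, 1, 3, 2, 1, 6, 5, 6, 3, 4, 7, 4, 8, 5, 3, 6, 5, 7, 6, 4, 3, 5, 8, 4, 7, 5, 6, 5, 9, 6, 2, 3, 1, 5, 4, 7, 6, 3, 2, 1, 3, 7, 4, 3, 2, 6, 2, 3, 1, 5, 4, 7, 6, 3, 2, 1, 3, 7, 4, 3, 2, 6, 4, 3, 7, 4, 6, 8, 5, 2, 3, 1, 2, 4, 6, 5, 4, 3, 2, 7, 1, 9, 5, 3, 7, 4, 5, 2, 3, 4, 2, 8, 5, 6, 7, 3, 5, 4, 7, 3, 6, 1, 2, 9, 3, 5, 8, 7, 3, 7, 4, 8, 1, 3, 2, 1, 6, 5,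 6, 3, 4, 7, 4, 8, 5, 3, 6, 5, 7, 6, 4, 3, 5, 8, 4, 7, 5, 7, 3, 4, 5, 3, 7, 2, 3, 1, 4, 7, 3, 2, 1, 3, 7, 4, 3, 2, 7, 3, 5, 4, 3, 7, 5, 6, 5, 9, 6, 4, 3, 7, 4, 6, 8, 5, 2, 3, 1, 2, 4, 6, 5, 4, 3, 2, 7, 1, 9, 5, 3, 7, 4, 5, 2, 3, 4, 2, 8, 5, 6, 7, 3, 5, 4, 7, 3, 6, 1, 2, 9, 3, 5, 8, 7, 3, 7, 4, 8, 1, 3, 2, 1, 6, 5, 6, 3, 4, 2, 3, 1, 2, 3, 4]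

/-- part of a word -/
def zero10finp2 : List ℕ := [8, 7, 8, 3, 6, 5, 4, 9, 7, 3, 2, 8, 7, 8, 5, 4, 1, 3, 2, 7, 3, 4, 5, 3, 7, 2, 3, 1, 4, 7, 3, 2, 1, 3, 7, 4, 3, 2, 7, 3, 5, 4, 3, 7, 5, 6, 5, 9, 6, 4, 3, 7, 4, 6, 8, 5, 2, 3, 1, 2, 4, 6, 5, 4, 3, 2, 7, 1, 9, 5, 3, 7, 4, 5, 2, 3, 4, 2, 8, 5, 6, 7, 3, 5, 4, 7, 3, 6, 1, 2, 9, 3, 5, 8, 7, 3, 7, 4, 8, 1, 3, 2, 1, 6, 5, 6, 3, 4, 2, 3, 1, 2, 3, 4, 8, 7, 8, 3, 6, 5, 4, 9, 7, 3, 2, 8, 7, 8, 5, 4, 1, 3, 2, 6, 5, 9, 6, 4, 3, 7, 4, 6, 8, 5, 2, 3, 1, 2, 4, 6, 5, 4, 3, 2, 7, 1, 9, 5, 3, 7, 4, 5, 2, 3, 4, 2, 8, 5, 6, 7, 3, 5, 4, 7, 3, 6, 1, 2, 9, 3, 5, 8, 7, 3, 7, 4, 8, 1, 3, 2, 1, 6, 5,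 6, 3, 4, 7, 4, 8, 5, 3, 6, 5, 7, 6, 4, 3, 5, 8, 4, 7, 5, 3, 6, 5, 9, 6, 4, 3, 7, 4, 6, 8, 5, 2, 3, 1, 2, 4, 6, 5, 4, 3, 2, 7, 1, 9, 5, 3, 7, 4, 5, 2, 3, 4, 2, 8, 5, 6, 7]

/-- part of a word -/
def zero10finp3 : List ℕ := [3, 5, 4, 7, 3, 6, 1, 2, 9, 3, 5, 8, 7, 3, 7, 4, 8, 1, 3, 2, 1, 6, 5, 6, 3, 4, 2, 3, 1, 2, 3, 4, 8, 7, 8, 3, 6, 5, 4, 9, 7, 3, 2, 8, 7, 8, 5, 4, 1, 3, 2, 1]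

/-- a loop -/
def zeroLoop10 : LoopWit := ⟨[⟨4, [zero10w0p0, zero10w0p1, zero10w0p2].flatten, 0, [1, 2, 3, 4, 7, 3, 2, 1]⟩,
  ⟨5, [1, 2, 3, 4, 7, 3, 2, 1, 0, 1, 2, 3, 7, 4, 3, 2, 1], 0, [1, 2, 3, 4, 7, 3, 2, 1]⟩,
  ⟨3, [zero10w2p0, zero10w2p1, zero10w2p2].flatten, 0, [1, 2, 3, 4, 5, 7, 3, 2, 1, 4, 3, 2, 7, 3, 4, 5]⟩], [zero10finp0, zero10finp1, zero10finp2, zero10finp3].flatten, 0⟩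

/-- part of a word -/
def zero11w0p0 : List ℕ := [3, 5, 7, 6, 5, 9, 6, 2, 3, 1, 5, 4, 7, 6, 3, 2, 1, 3, 7, 4, 3, 2, 6, 2, 3, 1, 5, 4, 7, 6, 3, 2, 1, 3, 7, 4, 3, 2, 9, 5, 2, 3, 1, 4, 7, 3, 2, 1, 3, 7, 4, 3, 2, 4, 8, 7, 3, 4, 7, 6, 5, 9, 6, 2, 3, 1, 5, 4, 7, 6, 3, 2, 1, 3, 7, 4, 3, 2, 9, 5, 2, 3, 1, 4, 7, 3, 2, 1, 3, 7, 4, 3, 2, 4, 8, 7, 3, 4, 7, 6, 5, 9, 6, 4, 3, 7, 4, 6, 8, 5, 2, 3, 1, 2, 4, 6, 5, 4, 3, 2, 7, 1, 9, 5, 3, 7, 4, 5, 2, 3, 4, 2, 8, 5, 6, 7, 3, 5, 4, 7, 3, 6, 1, 2, 9, 3, 5, 8, 7, 3, 7, 4, 8, 1, 3, 2, 1, 6, 5, 6, 3, 4, 7, 4, 8, 5, 3, 6, 5, 7, 6, 4, 3, 5, 8, 4, 7, 5, 6, 5, 9, 6, 4, 3, 7, 4, 6, 8, 5, 2, 3, 1, 2,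 4, 6, 5, 4, 3, 2, 7, 1, 9, 5, 3, 7, 4, 5, 2, 3, 4, 2, 8, 5, 6, 7, 3, 5, 4, 7, 3, 6, 1, 2, 9, 3, 5, 8, 7, 3, 7, 4, 8, 1, 3, 2, 1, 6, 5, 6, 3, 4, 7, 4, 8, 5, 3, 6, 5, 7, 6]

/-- part of a word -/
def zero11w0p1 : List ℕ := [4, 3, 5, 8, 4, 7, 5, 3, 6, 5, 9, 6, 4, 3, 7, 4, 6, 8, 5, 2, 3, 1, 2, 4, 6, 5, 4, 3, 2, 7, 1, 9, 5, 3, 7, 4, 5, 2, 3, 4, 2, 8, 5, 6, 7, 3, 5, 4, 7, 3, 6, 1, 2, 9, 3, 5, 8, 7, 3, 7, 4, 8, 1, 3, 2, 1, 6, 5, 6, 3, 4, 2, 3, 1, 2, 3, 4, 8, 7, 8, 3, 6, 5, 4, 9, 7, 3, 2, 8, 7, 8, 5, 4, 1, 3, 2, 9, 8]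

/-- part of a word -/
def zero11finp0 : List ℕ := [6, 2, 3, 1, 4, 7, 3, 2, 1, 3, 7, 4, 3, 2, 4, 8, 7, 3, 4, 7, 6, 2, 3, 1, 4, 7, 3, 2, 1, 3, 7, 4, 3, 2, 4, 8, 7, 3, 4, 7, 6, 2, 3, 1, 4, 7, 3, 2, 1, 3, 7, 4, 3, 2, 4, 8, 7, 3, 4, 3, 4, 5, 3, 7, 2, 3, 1, 4, 7, 3, 2, 1, 3, 7, 4, 3, 2, 7, 3, 5, 4, 3, 6, 2, 3, 1, 4, 7, 3, 2, 1, 3, 7, 4, 3, 2, 4, 8, 7, 3, 4, 7, 5, 6, 5, 9, 6, 4, 3, 7, 4, 6, 8, 5, 2, 3, 1, 2, 4, 6, 5, 4, 3, 2, 7, 1, 9, 5, 3, 7, 4, 5, 2, 3, 4, 2, 8, 5, 6, 7, 3, 5, 4, 7, 3, 6, 1, 2, 9, 3, 5, 8, 7, 3, 7, 4, 8, 1, 3, 2, 1, 6, 5, 6, 3, 4, 2, 3, 1, 2, 3, 4, 8, 7, 8, 3, 6, 5, 4, 9, 7, 3, 2, 8, 7, 8, 5, 4, 1, 3, 2, 6, 2,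 3, 1, 4, 7, 3, 2, 1, 3, 7, 4, 3, 2, 4, 8, 7, 3, 4, 7, 6, 2, 3, 1, 4, 7, 3, 2, 1, 3, 7, 4, 3, 2, 4, 8, 7, 3, 4, 7, 8, 6, 5, 9, 6, 2, 3, 1, 5, 4, 7, 6, 3, 2, 1, 3, 7, 4, 3]

/-- part of a word -/
def zero11finp1 : List ℕ := [2, 9, 5, 6, 8, 7, 3, 4, 5, 3, 7, 2, 3, 1, 4, 7, 3, 2, 1, 3, 7, 4, 3, 2, 7, 3, 5, 4, 3, 7, 6, 5, 9, 6, 4, 3, 7, 4, 6, 8, 5, 2, 3, 1, 2, 4, 6, 5, 4, 3, 2, 7, 1, 9, 5, 3, 7, 4, 5, 2, 3, 4, 2, 8, 5, 6, 7, 3, 5, 4, 7, 3, 6, 1, 2, 9, 3, 5, 8, 7, 3, 7, 4, 8, 1, 3, 2, 1, 6, 5, 6, 3, 4, 7, 4, 8, 5, 3, 6, 5, 7, 6, 4, 3, 5, 8, 4, 7, 6, 5, 9, 6, 4, 3, 7, 4, 6, 8, 5, 2, 3, 1, 2, 4, 6, 5, 4, 3, 2, 7, 1, 9, 5, 3, 7, 4,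 5, 2, 3, 4, 2, 8, 5, 6, 7, 3, 5, 4, 7, 3, 6, 1, 2, 9, 3, 5, 8, 7, 3, 7, 4, 8, 1, 3, 2, 1, 6, 5, 6, 3, 4, 2, 3, 1, 2, 3, 4, 8, 7, 8, 3, 6, 5, 4, 9, 7, 3, 2, 8, 7, 8, 5, 4, 1, 3, 2, 6, 5, 9, 6, 4, 3, 7, 4, 6, 8, 5, 2, 3, 1, 2, 4, 6, 5, 4, 3, 2, 7, 1, 9, 5, 3, 7, 4, 5, 2, 3, 4, 2, 8, 5, 6, 7, 3, 5, 4, 7, 3, 6, 1, 2, 9, 3, 5, 8, 7, 3, 7, 4, 8]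

/-- part of a word -/
def zero11finp2 : List ℕ := [1, 3, 2, 1, 6, 5, 6, 3, 4, 7, 4, 8, 5, 3, 6, 5, 7, 6, 4, 3, 5, 8, 4, 7, 6, 5, 9, 6, 4, 3, 7, 4, 6, 8, 5, 2, 3, 1, 2, 4, 6, 5, 4, 3, 2, 7, 1, 9, 5, 3, 7, 4, 5, 2, 3, 4, 2, 8, 5, 6, 7, 3, 5, 4, 7, 3, 6, 1, 2, 9, 3, 5, 8, 7, 3, 7, 4, 8, 1, 3, 2, 1, 6, 5, 6, 3, 4, 2, 3, 1, 2, 3, 4, 8, 7, 8, 3, 6, 5, 4, 9, 7, 3, 2, 8, 7, 8, 5, 4, 1, 3, 2, 9, 8]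

/-- a loop -/
def zeroLoop11 : LoopWit := ⟨[⟨4, [zero11w0p0, zero11w0p1].flatten, 0, [1, 2, 3, 4, 5, 6, 7, 3, 2, 4, 3, 5, 4, 8, 7, 3, 2, 1]⟩,
  ⟨5, [1, 2, 3, 4, 5, 6, 7, 3, 2, 4, 3, 5, 4, 8, 7, 3, 2, 1, 0, 8, 7, 3, 4, 1, 2, 3, 7, 8, 5, 4, 3, 7, 6, 5, 4, 3, 2, 1], 0, [1, 2, 3, 4, 5, 6, 7, 3, 4, 5, 8, 7, 3, 2, 1, 4, 3, 7, 8]⟩,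
  ⟨7, [], 0, [6, 5, 4, 3, 7, 8]⟩], [zero11finp0, zero11finp1, zero11finp2].flatten, 0⟩

/-- part of a word -/
def zero12finp0 : List ℕ := [5, 3, 4, 2, 3, 1, 2, 8, 7, 3, 5, 6, 2, 3, 1, 4, 7, 3, 2, 1, 3, 7, 4, 3, 2, 4, 8, 7, 3, 4, 6, 5, 9, 6, 4, 3, 7, 4, 6, 8, 5, 2, 3, 1, 2, 4, 6, 5, 4, 3, 2, 7, 1, 9, 5, 3, 7, 4, 5, 2, 3, 4, 2, 8, 5, 6, 7, 3, 5, 4, 7, 3, 6, 1, 2, 9, 3, 5, 8, 7, 3, 7, 4, 8, 1, 3, 2, 1, 6, 5, 6, 3, 4, 7, 4, 8, 5, 3, 6, 5, 7, 6, 4, 3, 5, 8, 4, 7, 6, 5, 9, 6, 4, 3, 7, 4, 6, 8, 5, 2, 3, 1, 2, 4, 6, 5, 4, 3, 2, 7, 1, 9, 5, 3, 7, 4, 5, 2, 3, 4, 2, 8, 5, 6, 7, 3, 5, 4, 7, 3, 6, 1, 2, 9, 3, 5, 8, 7, 3, 7, 4, 8, 1, 3,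 2, 1, 6, 5, 6, 3, 4, 2, 3, 1, 2, 3, 4, 8, 7, 8, 3, 6, 5, 4, 9, 7, 3, 2, 8, 7, 8, 5, 4, 1, 3, 2, 6, 5, 9, 6, 2, 3, 1, 5, 4, 7, 6, 3, 2, 1, 3, 7, 4, 3, 2, 9, 5, 2, 3, 1, 4, 7, 3, 2, 1, 3, 7, 4, 3, 2, 4, 8, 7, 3, 4, 7, 6, 2, 3, 1, 4, 7, 3, 2, 1, 3, 7, 4, 3, 2]

/-- part of a word -/
def zero12finp1 : List ℕ := [4, 8, 7, 3, 4, 7, 8, 6, 5, 9, 6, 2, 3, 1, 5, 4, 7, 6, 3, 2, 1, 3, 7, 4, 3, 2, 6, 2, 3, 1, 5, 4, 7, 6, 3, 2, 1, 3, 7, 4, 3, 2, 9, 5, 6, 5, 6, 5, 9, 6, 4, 3, 7, 4, 6, 8, 5, 2, 3, 1, 2, 4, 6, 5, 4, 3, 2, 7, 1, 9, 5, 3, 7, 4, 5, 2, 3, 4, 2, 8, 5, 6, 7, 3, 5, 4, 7, 3, 6, 1, 2, 9, 3, 5, 8, 7, 3, 7, 4, 8, 1, 3, 2, 1, 6, 5, 6,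 3, 4, 2, 3, 1, 2, 3, 4, 8, 7, 8, 3, 6, 5, 4, 9, 7, 3, 2, 8, 7, 8, 5, 4, 1, 3, 2, 6, 5, 9, 6, 4, 3, 7, 4, 6, 8, 5, 2, 3, 1, 2, 4, 6, 5, 4, 3, 2, 7, 1, 9, 5, 3, 7, 4, 5, 2, 3, 4, 2, 8, 5, 6, 7, 3, 5, 4, 7, 3, 6, 1, 2, 9, 3, 5, 8, 7, 3, 7, 4, 8, 1, 3, 2, 1, 6, 5, 6, 3, 4, 7, 4, 8, 5, 3, 6, 5, 7, 6, 4, 3, 5, 8, 4, 7, 6, 5, 9, 6, 4, 3, 7, 4, 6, 8, 5, 2, 3, 1, 2, 4, 6, 5, 4, 3, 2, 7, 1, 9, 5, 3, 7, 4, 5, 2, 3, 4, 2, 8, 5, 6, 7, 3]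

/-- part of a word -/
def zero12finp2 : List ℕ := [5, 4, 7, 3, 6, 1, 2, 9, 3, 5, 8, 7, 3, 7, 4, 8, 1, 3, 2, 1, 6, 5, 6, 3, 4, 2, 3, 1, 2, 3, 4, 8, 7, 8, 3, 6, 5, 4, 9, 7, 3, 2, 8, 7, 8, 5, 4, 1, 3, 2, 7, 3, 4, 5, 3, 7, 2, 3, 1, 4, 7, 3, 2, 1, 3, 7, 4, 3, 2, 7, 3, 5, 4, 3, 7, 6, 5, 9, 6, 4, 3, 7, 4, 6, 8, 5, 2, 3, 1, 2, 4, 6, 5, 4, 3, 2, 7, 1, 9, 5, 3, 7, 4, 5, 2, 3, 4, 2, 8, 5, 6, 7, 3, 5, 4, 7, 3, 6, 1, 2, 9, 3, 5, 8, 7, 3, 7, 4, 8, 1, 3, 2, 1, 6, 5, 6, 3, 4, 7, 4, 8, 5, 3, 6, 5, 7, 6, 4, 3, 5, 8, 4, 7, 5, 6, 5, 9, 6, 4, 3, 7, 4, 6, 8, 5, 2, 3, 1, 2, 4, 6, 5, 4, 3, 2, 7, 1, 9, 5, 3, 7, 4, 5, 2, 3, 4, 2, 8, 5, 6, 7, 3, 5,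 4, 7, 3, 6, 1, 2, 9, 3, 5, 8, 7, 3, 7, 4, 8, 1, 3, 2, 1, 6, 5, 6, 3, 4, 7, 4, 8, 5, 3, 6, 5, 7, 6, 4, 3, 5, 8, 4, 7, 5, 3, 9, 8]

/-- a loop -/
def zeroLoop12 : LoopWit := ⟨[⟨4, [2, 7, 6, 2, 3, 1, 4, 7, 3, 2, 1, 3, 7, 4, 3, 2, 4, 8, 7, 3, 4, 7, 3, 5, 7, 5, 6, 2, 3, 1, 4, 7, 3, 2, 1, 3, 7, 4, 3, 2, 4, 8, 7, 3, 4, 7, 6, 2, 3, 1, 4, 7, 3, 2, 1, 3, 7, 4, 3, 2, 4, 8, 7, 3, 4, 7, 6, 2, 3, 1, 4, 7, 3, 2, 1, 3, 7, 4, 3, 2, 4, 8, 7, 3, 4, 7, 3], 0, [1, 2, 3, 4, 5, 6, 7, 3, 2, 1, 4, 3, 5, 8, 7, 3, 2, 1, 4, 3, 2, 5, 4, 7, 3, 8, 7, 9, 6, 5, 4, 3, 2, 1]⟩,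
  ⟨8, [], 0, []⟩,
  ⟨5, [], 0, [1, 2, 3, 4, 5, 6, 7, 3, 2, 1, 4, 3, 5, 8, 7, 3, 2, 1, 4, 3, 2, 5, 4, 7, 3, 8, 7, 9, 6, 5, 4, 3, 2, 1]⟩], [zero12finp0, zero12finp1, zero12finp2].flatten, 2⟩

/-- a loop -/
def zeroLoop13 : LoopWit := ⟨[⟨5, [], 0, []⟩,
  ⟨2, [], 0, []⟩,
  ⟨4, [], 0, []⟩], [0], 0⟩

/-- a loop -/
def zeroLoop14 : LoopWit := ⟨[⟨5, [7, 3, 4, 5, 6, 9, 2, 3, 7, 4, 5, 3, 4, 2, 3, 7, 6, 5, 4, 3, 2], 0, [1]⟩,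
  ⟨4, [1], 0, [1]⟩,
  ⟨6, [], 0, []⟩], [2, 3, 4, 5, 6, 7, 3, 2, 4, 3, 5, 4, 7, 3, 2, 9, 6, 5, 4, 3, 7], 0⟩

/-- part of a word -/
def zero15w1p0 : List ℕ := [4, 5, 3, 4, 2, 3, 1, 2, 6, 2, 3, 1, 4, 7, 3, 2, 1, 3, 7, 4, 3, 2, 4, 8, 7, 3, 4, 6, 2, 3, 1, 4, 7, 3, 2, 1, 3, 7, 4, 3, 2, 4, 8, 7, 3, 4, 7, 6, 5, 9, 6, 4, 3, 7, 4, 6, 8, 5, 2, 3, 1, 2, 4, 6, 5, 4, 3, 2, 7, 1, 9, 5, 3, 7, 4, 5, 2, 3, 4, 2, 8, 5, 6, 7, 3, 5, 4, 7, 3, 6, 1, 2, 9, 3, 5, 8, 7, 3, 7, 4, 8, 1, 3, 2, 1, 6, 5, 6, 3, 4, 7, 4, 8, 5, 3, 6, 5, 7, 6, 4, 3, 5, 8, 4, 7, 5, 3, 5, 7, 6, 5, 9, 6, 4, 3, 7, 4, 6, 8, 5, 2, 3, 1, 2, 4, 6, 5, 4, 3, 2, 7, 1, 9, 5, 3, 7, 4,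 5, 2, 3, 4, 2, 8, 5, 6, 7, 3, 5, 4, 7, 3, 6, 1, 2, 9, 3, 5, 8, 7, 3, 7, 4, 8, 1, 3, 2, 1, 6, 5, 6, 3, 4, 7, 4, 8, 5, 3, 6, 5, 7, 6, 4, 3, 5, 8, 4, 7, 6, 5, 9, 6, 4, 3, 7, 4, 6, 8, 5, 2, 3, 1, 2, 4, 6, 5, 4, 3, 2, 7, 1, 9, 5, 3, 7, 4, 5, 2, 3, 4, 2, 8, 5, 6, 7, 3, 5, 4, 7, 3, 6]

/-- part of a word -/
def zero15w1p1 : List ℕ := [1, 2, 9, 3, 5, 8, 7, 3, 7, 4, 8, 1, 3, 2, 1, 6, 5, 6, 3, 4, 2, 3, 1, 2, 3, 4, 8, 7, 8, 3, 6, 5, 4, 9, 7, 3, 2, 8, 7, 8, 5, 4, 1, 3, 2, 6, 2, 3, 1, 4, 7, 3, 2, 1, 3, 7, 4, 3, 2, 4, 8, 7, 3, 4, 7, 6, 2, 3, 1, 4, 7, 3, 2, 1, 3, 7, 4, 3, 2, 4, 8, 7, 3, 4, 3, 4, 5, 3, 7, 2, 3, 1, 4, 7, 3, 2, 1, 3, 7, 4,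 3, 2, 7, 3, 5, 4, 3, 7, 6, 5, 9, 6, 4, 3, 7, 4, 6, 8, 5, 2, 3, 1, 2, 4, 6, 5, 4, 3, 2, 7, 1, 9, 5, 3, 7, 4, 5, 2, 3, 4, 2, 8, 5, 6, 7, 3, 5, 4, 7, 3, 6, 1, 2, 9, 3, 5, 8, 7, 3, 7, 4, 8, 1, 3, 2, 1, 6, 5, 6, 3, 4, 7, 4, 8, 5, 3, 6, 5, 7, 6, 4, 3, 5, 8, 4, 7, 5, 6, 5, 9, 6, 4, 3, 7, 4, 6, 8, 5, 2, 3, 1, 2, 4, 6, 5, 4, 3, 2, 7, 1, 9, 5, 3, 7, 4, 5, 2, 3, 4, 2, 8, 5, 6, 7, 3, 5, 4, 7, 3, 6, 1, 2, 9, 3, 5, 8, 7, 3, 7, 4, 8, 1, 3, 2, 1, 6, 5, 6, 3, 4]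

/-- part of a word -/
def zero15w1p2 : List ℕ := [7, 4, 8, 5, 3, 6, 5, 7, 6, 4, 3, 5, 8, 4, 7, 6, 5, 9, 6, 4, 3, 7, 4, 6, 8, 5, 2, 3, 1, 2, 4, 6, 5, 4, 3, 2, 7, 1, 9, 5, 3, 7, 4, 5, 2, 3, 4, 2, 8, 5, 6, 7, 3, 5, 4, 7, 3, 6, 1, 2, 9, 3, 5, 8, 7, 3, 7, 4, 8, 1, 3, 2, 1, 6, 5, 6, 3, 4, 2, 3, 1, 2, 3, 4, 8, 7, 8, 3, 6, 5, 4, 9, 7, 3, 2, 8, 7, 8, 5, 4, 1, 3, 2, 1]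

/-- part of a word -/
def zero15w2p0 : List ℕ := [4, 5, 3, 4, 2, 3, 1, 2, 6, 2, 3, 1, 4, 7, 3, 2, 1, 3, 7, 4, 3, 2, 4, 8, 7, 3, 4, 6, 2, 3, 1, 4, 7, 3, 2, 1, 3, 7, 4, 3, 2, 4, 8, 7, 3, 4, 7, 6, 5, 9, 6, 4, 3, 7, 4, 6, 8, 5, 2, 3, 1, 2, 4, 6, 5, 4, 3, 2, 7, 1, 9, 5, 3, 7, 4, 5, 2, 3, 4, 2, 8, 5, 6, 7, 3, 5, 4, 7, 3, 6, 1, 2, 9, 3, 5, 8, 7, 3, 7, 4, 8, 1, 3, 2, 1, 6, 5, 6, 3, 4, 7, 4, 8, 5, 3, 6, 5, 7, 6, 4, 3, 5, 8, 4, 7, 5, 3, 5, 7, 6, 5, 9, 6, 4, 3, 7, 4, 6, 8, 5, 2, 3, 1, 2, 4, 6, 5, 4, 3, 2, 7, 1, 9, 5, 3, 7, 4, 5, 2, 3, 4, 2, 8, 5, 6, 7, 3, 5, 4, 7, 3, 6, 1, 2, 9, 3, 5, 8, 7, 3, 7, 4, 8, 1, 3, 2, 1, 6, 5, 6, 3, 4, 7,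 4, 8, 5, 3, 6, 5, 7, 6, 4, 3, 5, 8, 4, 7, 6, 5, 9, 6, 4, 3, 7, 4, 6, 8, 5, 2, 3, 1, 2, 4, 6, 5, 4, 3, 2, 7, 1, 9, 5, 3, 7, 4, 5, 2, 3, 4, 2, 8, 5, 6, 7, 3, 5, 4, 7, 3, 6]

/-- part of a word -/
def zero15w2p1 : List ℕ := [1, 2, 9, 3, 5, 8, 7, 3, 7, 4, 8, 1, 3, 2, 1, 6, 5, 6, 3, 4, 2, 3, 1, 2, 3, 4, 8, 7, 8, 3, 6, 5, 4, 9, 7, 3, 2, 8, 7, 8, 5, 4, 1, 3, 2, 6, 2, 3, 1, 4, 7, 3, 2, 1, 3, 7, 4, 3, 2, 4, 8, 7, 3, 4, 7, 6, 2, 3, 1, 4, 7, 3, 2, 1, 3, 7, 4, 3, 2, 4, 8, 7, 3, 4, 3, 4, 5, 3, 7, 2, 3, 1, 4, 7, 3, 2, 1, 3, 7, 4, 3, 2, 7, 3, 5, 4, 3, 7, 6, 5, 9, 6, 4, 3, 7, 4, 6, 8, 5, 2, 3, 1, 2, 4, 6, 5, 4, 3, 2, 7, 1, 9, 5, 3, 7, 4,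 5, 2, 3, 4, 2, 8, 5, 6, 7, 3, 5, 4, 7, 3, 6, 1, 2, 9, 3, 5, 8, 7, 3, 7, 4, 8, 1, 3, 2, 1, 6, 5, 6, 3, 4, 7, 4, 8, 5, 3, 6, 5, 7, 6, 4, 3, 5, 8, 4, 7, 5, 6, 5, 9, 6, 4, 3, 7, 4, 6, 8, 5, 2, 3, 1, 2, 4, 6, 5, 4, 3, 2, 7, 1, 9, 5, 3, 7, 4, 5, 2, 3, 4, 2, 8, 5, 6, 7, 3, 5, 4, 7, 3, 6, 1, 2, 9, 3, 5, 8, 7, 3, 7, 4, 8, 1, 3, 2, 1, 6, 5, 6, 3, 4]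

/-- part of a word -/
def zero15w2p2 : List ℕ := [7, 4, 8, 5, 3, 6, 5, 7, 6, 4, 3, 5, 8, 4, 7, 6, 5, 9, 6, 4, 3, 7, 4, 6, 8, 5, 2, 3, 1, 2, 4, 6, 5, 4, 3, 2, 7, 1, 9, 5, 3, 7, 4, 5, 2, 3, 4, 2, 8, 5, 6, 7, 3, 5, 4, 7, 3, 6, 1, 2, 9, 3, 5, 8, 7, 3, 7, 4, 8, 1, 3, 2, 1, 6, 5, 6, 3, 4, 2, 3, 1, 2, 3, 4, 8, 7, 8, 3, 6, 5, 4, 9, 7, 3, 2, 8, 7, 8, 5, 4, 1, 3, 2, 1]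

/-- a loop -/
def zeroLoop15 : LoopWit := ⟨[⟨5, [4, 5, 6, 9, 3, 7, 4, 5, 3, 4, 1, 2, 3, 7, 6, 5, 4, 7, 4, 3, 2, 1], 0, [1, 2, 3, 4, 7, 3, 2, 1]⟩,
  ⟨3, [zero15w1p0, zero15w1p1, zero15w1p2].flatten, 0, [1, 2, 3, 4, 5, 7, 3, 2, 1, 4, 3, 2, 7, 3, 4, 5]⟩,
  ⟨4, [zero15w2p0, zero15w2p1, zero15w2p2].flatten, 0, [1, 2, 3, 4, 7, 3, 2, 1]⟩], [1, 2, 3, 4, 7, 3, 2, 1, 0, 1, 2, 3, 4, 5, 6, 7, 3, 2, 1, 4, 3, 5, 4, 7, 3, 9, 6, 5, 4], 0⟩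

/-- a loop -/
def zeroLoop16 : LoopWit := ⟨[⟨5, [5, 6, 9, 1, 2, 3, 7, 8, 2, 3, 7, 4, 5, 3, 4, 2, 3, 7, 6, 5, 4, 7, 8, 4, 5, 3, 4, 2, 3, 7, 6, 5, 4, 3, 2, 1], 0, [1, 2, 3, 4, 5, 6, 7, 3, 2, 4, 3, 5, 4, 8, 7, 3, 2, 1]⟩,
  ⟨7, [6, 2, 3, 1, 4, 7, 3, 2, 1, 3, 7, 4, 3, 2, 4, 8, 7, 3, 4, 7, 3, 4, 5, 3, 7, 2, 3, 1, 4, 7, 3, 2, 1, 3, 7, 4, 3, 2, 7, 3, 5, 4, 3, 7, 6, 2, 3, 1, 4, 7, 3, 2, 1, 3, 7, 4, 3, 2, 4, 8, 7, 3, 4, 7, 6, 2, 3, 1, 4, 7, 3, 2, 1, 3, 7, 4, 3, 2, 4, 8, 7, 3, 4, 7, 6, 5, 9, 6, 2, 3, 1, 5, 4, 7, 6, 3, 2, 1, 3, 7, 4, 3, 2, 9, 5, 6, 8, 6, 5, 9, 6, 4, 3, 7, 4, 6, 8, 5, 2, 3, 1, 2, 4, 6, 5, 4, 3, 2, 7, 1, 9, 5, 3, 7, 4,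 5, 2, 3, 4, 2, 8, 5, 6, 7, 3, 5, 4, 7, 3, 6, 1, 2, 9, 3, 5, 8, 7, 3, 7, 4, 8, 1, 3, 2, 1, 6, 5, 6, 3, 4, 7, 4, 8, 5, 3, 6, 5, 7, 6, 4, 3, 5, 8, 4, 7, 5, 6, 5, 9, 6, 2, 3, 1, 5, 4, 7, 6, 3, 2, 1, 3, 7, 4, 3, 2, 6, 2, 3, 1, 5, 4, 7, 6, 3, 2, 1, 3, 7, 4, 3, 2, 9, 5, 6, 5, 8], 0, [3, 4, 5, 6, 5, 4, 3, 7, 3, 4, 5, 8, 7, 3, 4]⟩,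
  ⟨4, [], 0, [1, 2, 3, 4, 5, 6, 7, 3, 4, 5, 8, 7, 3, 2, 1, 4, 3, 7, 8]⟩], [1, 2, 3, 4, 5, 6, 7, 3, 4, 5, 8, 7, 3, 2, 1, 4, 3, 7, 8, 0, 1, 2, 3, 4, 5, 6, 7, 3, 2, 4, 3, 5, 4, 7, 3, 2, 8, 7, 3, 2, 1, 9, 6, 5], 0⟩

/-- part of a word -/
def zero17w1p0 : List ℕ := [3, 7, 2, 3, 1, 2, 7, 3, 4, 5, 3, 7, 2, 3, 1, 4, 7, 3, 2, 1, 3, 7, 4, 3, 2, 7, 3, 5, 4, 5, 6, 2, 3, 1, 4, 7, 3, 2, 1, 3, 7, 4, 3, 2, 4, 8, 7, 3, 4, 7, 3, 4, 5, 3, 7, 2, 3, 1, 4, 7, 3, 2, 1, 3, 7, 4, 3, 2, 7, 3, 5, 4, 3, 7, 6, 2, 3, 1, 4, 7, 3, 2, 1, 3, 7, 4, 3, 2, 4, 8, 7, 3, 4, 7, 6, 2, 3, 1, 4, 7, 3, 2, 1, 3, 7, 4, 3, 2, 4, 8, 7, 3, 4, 7, 6, 5, 9, 6, 4, 3, 7, 4, 6,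 8, 5, 2, 3, 1, 2, 4, 6, 5, 4, 3, 2, 7, 1, 9, 5, 3, 7, 4, 5, 2, 3, 4, 2, 8, 5, 6, 7, 3, 5, 4, 7, 3, 6, 1, 2, 9, 3, 5, 8, 7, 3, 7, 4, 8, 1, 3, 2, 1, 6, 5, 6, 3, 4, 7, 4, 8, 5, 3, 6, 5, 7, 6, 4, 3, 5, 8, 4, 7, 5, 6, 5, 9, 6, 4, 3, 7, 4, 6, 8, 5, 2, 3, 1, 2, 4, 6, 5, 4, 3, 2, 7, 1, 9, 5, 3, 7, 4, 5, 2, 3, 4, 2, 8, 5, 6, 7, 3, 5, 4, 7, 3, 6, 1, 2, 9, 3, 5, 8, 7, 3, 7, 4, 8, 1, 3, 2]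

/-- part of a word -/
def zero17w1p1 : List ℕ := [1, 6, 5, 6, 3, 4, 7, 4, 8, 5, 3, 6, 5, 7, 6, 4, 3, 5, 8, 4, 7, 5, 6, 5, 9, 6, 2, 3, 1, 5, 4, 7, 6, 3, 2, 1, 3, 7, 4, 3, 2, 6, 2, 3, 1, 5, 4, 7, 6, 3, 2, 1, 3, 7, 4, 3, 2, 6, 4, 3, 7, 4, 6, 8, 5, 2, 3, 1, 2, 4, 6, 5, 4, 3, 2, 7, 1, 9, 5, 3, 7, 4, 5, 2, 3, 4, 2, 8, 5, 6, 7, 3, 5, 4, 7, 3, 6, 1, 2, 9, 3, 5, 8, 7, 3, 7, 4, 8, 1, 3, 2, 1, 6, 5, 6, 3, 4, 7, 4, 8, 5, 3, 6, 5, 7, 6, 4, 3, 5, 8, 4, 7, 6, 5, 9, 6, 4, 3, 7, 4, 6, 8, 5, 2, 3, 1, 2, 4, 6, 5, 4, 3, 2, 7, 1, 9, 5, 3, 7, 4, 5, 2, 3, 4, 2, 8, 5, 6, 7, 3, 5, 4, 7, 3, 6, 1, 2, 9, 3, 5, 8, 7, 3, 7, 4, 8, 1, 3, 2, 1, 6, 5, 6,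 3, 4, 2, 3, 1, 2, 3, 4, 8, 7, 8, 3, 6, 5, 4, 9, 7, 3, 2, 8, 7, 8, 5, 4, 1, 3, 2, 7, 3, 4, 5, 3, 7, 2, 3, 1, 4, 7, 3, 2, 1, 3, 7, 4, 3, 2, 7, 3, 5, 4, 3, 7, 6, 5, 9, 6, 4]

/-- part of a word -/
def zero17w1p2 : List ℕ := [3, 7, 4, 6, 8, 5, 2, 3, 1, 2, 4, 6, 5, 4, 3, 2, 7, 1, 9, 5, 3, 7, 4, 5, 2, 3, 4, 2, 8, 5, 6, 7, 3, 5, 4, 7, 3, 6, 1, 2, 9, 3, 5, 8, 7, 3, 7, 4, 8, 1, 3, 2, 1, 6, 5, 6, 3, 4, 7, 4, 8, 5, 3, 6, 5, 7, 6, 4, 3, 5, 8, 4, 7, 5, 6, 5, 9, 6, 4, 3, 7, 4, 6, 8, 5, 2, 3, 1, 2, 4, 6, 5, 4, 3, 2, 7, 1, 9, 5, 3, 7, 4, 5, 2, 3, 4, 2, 8, 5, 6, 7, 3, 5, 4, 7, 3, 6, 1, 2, 9, 3, 5, 8, 7, 3, 7, 4, 8, 1, 3, 2, 1, 6, 5, 6, 3,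 4, 7, 4, 8, 5, 3, 6, 5, 7, 6, 4, 3, 5, 8, 4, 7, 6, 5, 9, 6, 4, 3, 7, 4, 6, 8, 5, 2, 3, 1, 2, 4, 6, 5, 4, 3, 2, 7, 1, 9, 5, 3, 7, 4, 5, 2, 3, 4, 2, 8, 5, 6, 7, 3, 5, 4, 7, 3, 6, 1, 2, 9, 3, 5, 8, 7, 3, 7, 4, 8, 1, 3, 2, 1, 6, 5, 6, 3, 4, 2, 3, 1, 2, 3, 4, 8, 7, 8, 3, 6, 5, 4, 9, 7, 3, 2, 8, 7, 8, 5, 4, 1, 3, 2, 6, 5, 9, 6, 4, 3, 7, 4, 6, 8]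

/-- part of a word -/
def zero17w1p3 : List ℕ := [5, 2, 3, 1, 2, 4, 6, 5, 4, 3, 2, 7, 1, 9, 5, 3, 7, 4, 5, 2, 3, 4, 2, 8, 5, 6, 7, 3, 5, 4, 7, 3, 6, 1, 2, 9, 3, 5, 8, 7, 3, 7, 4, 8, 1, 3, 2, 1, 6, 5, 6, 3, 4, 7, 4, 8, 5, 3, 6, 5, 7, 6, 4, 3, 5, 8, 4, 7, 6, 5, 9, 6, 4, 3, 7, 4, 6, 8, 5, 2, 3, 1, 2, 4, 6, 5, 4, 3, 2, 7, 1, 9, 5, 3, 7, 4, 5, 2, 3, 4, 2, 8, 5, 6, 7, 3, 5, 4, 7, 3, 6, 1, 2, 9, 3, 5, 8, 7, 3, 7, 4, 8, 1, 3, 2, 1, 6, 5, 6, 3, 4, 2, 3, 1, 2, 3, 4, 8, 7, 8, 3, 6, 5, 4, 9, 7, 3, 2, 8, 7, 8, 5, 4, 1, 3, 2, 9, 1]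

/-- a loop -/
def zeroLoop17 : LoopWit := ⟨[⟨5, [7, 1, 2, 3, 4, 5, 6, 9, 7, 8, 3, 7, 4, 5, 2, 3, 4, 1, 2, 3, 7, 8, 7, 4, 5, 3, 4, 1, 2, 3, 7, 9, 7, 8, 3, 7, 4, 5, 2, 3, 4, 1, 2, 3, 7, 8, 5, 3, 4, 1, 2, 3, 7, 6, 5, 4, 3, 2, 1], 0, [1, 2, 3, 4, 5, 6, 7, 3, 2, 1, 4, 3, 5, 8, 7, 3, 2, 1, 4, 3, 2, 5, 4, 7, 3, 8, 7, 9, 6, 5, 4, 3, 2, 1]⟩,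
  ⟨4, [zero17w1p0, zero17w1p1, zero17w1p2, zero17w1p3].flatten, 1, [1, 2, 3, 4, 5, 6, 7, 3, 2, 1, 4, 3, 5, 8, 7, 3, 2, 1, 4, 3, 2, 5, 4, 7, 3, 8, 7, 9, 6, 5, 4, 3, 2, 1]⟩,
  ⟨8, [], 0, []⟩], [1, 2, 3, 4, 5, 6, 7, 3, 2, 1, 4, 3, 5, 8, 7, 3, 2, 1, 4, 3, 2, 5, 4, 7, 3, 8, 7, 9, 7, 3, 2, 1, 4, 3, 5, 4, 7, 8, 7, 3, 2, 1, 4, 3, 2, 5, 4, 7, 3, 8, 7, 9, 6, 5, 4, 3, 2, 1, 7], 0⟩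

/-- a loop -/
def zeroLoop18 : LoopWit := ⟨[⟨6, [], 0, []⟩,
  ⟨5, [], 0, [1]⟩,
  ⟨4, [1], 0, [1]⟩], [], 0⟩

/-- a loop -/
def zeroLoop19 : LoopWit := ⟨[⟨6, [1, 0, 7, 3, 4, 5, 6, 9, 2, 3, 7, 4, 5, 3, 4, 2, 3, 7, 6, 5, 4, 7, 4, 5, 3, 4, 2, 3, 7, 6, 5, 4, 3, 2, 0, 1], 0, [2, 3, 4, 5, 6, 7, 3, 2, 4, 3, 5, 4, 7, 3, 2, 1]⟩,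
  ⟨6, [1, 0, 2, 3, 4, 5, 6, 7, 3, 2, 4, 3, 5, 4, 7, 3, 2, 1, 0, 1, 2, 3, 7, 4, 5, 3, 4, 2, 3, 7, 6, 5, 4, 3, 2, 0, 1], 0, [2, 3, 4, 5, 6, 7, 3, 2, 4, 3, 5, 4, 7, 3, 2, 1]⟩,
  ⟨6, [1, 0, 2, 3, 4, 5, 6, 7, 3, 2, 4, 3, 5, 4, 7, 3, 2, 1, 0, 1, 2, 3, 7, 4, 5, 3, 4, 2, 3, 7, 6, 5, 4, 3, 2, 0, 1], 0, [2, 3, 4, 5, 6, 7, 3, 2, 4, 3, 5, 4, 7, 3, 2, 1]⟩], [1, 0, 2, 3, 4, 5, 6, 7, 3, 2, 4, 3, 5, 4, 7, 3, 2, 1, 0, 1, 2, 3, 4, 5, 6, 7, 3, 2, 4, 3, 5, 4, 7, 3, 2, 9, 6, 5, 4, 3, 7, 0, 1], 0⟩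

/-- a loop -/
def zeroLoop20 : LoopWit := ⟨[⟨7, [], 0, []⟩,
  ⟨4, [], 0, [1, 2, 3, 4, 5, 7, 3, 2, 4, 3, 7, 8, 7, 3, 2, 1, 4, 3, 5, 4, 7, 3]⟩,
  ⟨5, [1, 2, 3, 4, 5, 7, 3, 2, 4, 3, 7, 8, 7, 3, 2, 1, 4, 3, 5, 4, 7, 3, 0, 1, 2, 3, 7, 8, 4, 3, 7, 5, 4, 3, 2, 1], 0, [1, 2, 3, 4, 5, 7, 3, 4, 8, 7, 3, 2, 1]⟩], [], 0⟩

/-- part of a word -/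
def zero21w0p0 : List ℕ := [4, 3, 7, 8, 2, 3, 7, 4, 3, 2, 3, 5, 3, 4, 5, 3, 7, 2, 3, 1, 4, 7, 3, 2, 1, 3, 7, 4, 3, 2, 7, 3, 5, 4, 3, 7, 6, 2, 3, 1, 4, 7, 3, 2, 1, 3, 7, 4, 3, 2, 4, 8, 7, 3, 4, 7, 6, 5, 9, 6, 2, 3, 1, 5, 4, 7, 6, 3, 2, 1, 3, 7, 4, 3, 2, 9, 5, 2, 3, 1, 4, 7, 3, 2, 1, 3, 7, 4, 3, 2, 4, 8, 7, 3, 4, 7, 5, 6, 5, 9, 6, 4, 3, 7, 4, 6, 8, 5, 2, 3, 1, 2, 4, 6, 5, 4, 3, 2, 7, 1, 9, 5, 3, 7, 4, 5, 2, 3, 4, 2, 8, 5, 6, 7, 3, 5, 4, 7, 3, 6, 1, 2, 9, 3, 5, 8, 7, 3, 7, 4, 8, 1, 3, 2, 1, 6, 5, 6, 3, 4, 2, 3, 1, 2, 3, 4, 8, 7, 8, 3, 6, 5, 4, 9, 7, 3, 2, 8, 7, 8, 5, 4, 1, 3, 2, 6, 5, 9, 6, 2, 3, 1, 5, 4, 7, 6, 3, 2, 1, 3, 7,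 4, 3, 2, 6, 4, 3, 7, 4, 6, 8, 5, 2, 3, 1, 2, 4, 6, 5, 4, 3, 2, 7, 1, 9, 5, 3, 7, 4, 5, 2, 3, 4, 2, 8, 5, 6, 7, 3, 5, 4, 7, 3, 6, 1, 2, 9, 3, 5, 8]

/-- part of a word -/
def zero21w0p1 : List ℕ := [7, 3, 7, 4, 8, 1, 3, 2, 1, 6, 5, 6, 3, 4, 7, 4, 8, 5, 3, 6, 5, 7, 6, 4, 3, 5, 8, 4, 7, 5, 6, 5, 9, 6, 2, 3, 1, 5, 4, 7, 6, 3, 2, 1, 3, 7, 4, 3, 2, 6, 2, 3, 1, 5, 4, 7, 6, 3, 2, 1, 3, 7, 4, 3, 2, 9, 5, 6, 5, 6, 5, 9, 6, 4, 3, 7, 4, 6, 8, 5, 2, 3, 1, 2, 4, 6, 5, 4, 3, 2, 7, 1, 9, 5, 3, 7, 4, 5, 2, 3, 4, 2, 8, 5, 6, 7, 3, 5, 4, 7, 3, 6, 1, 2, 9, 3, 5, 8, 7, 3, 7, 4, 8, 1, 3, 2, 1, 6, 5, 6, 3, 4, 2, 3, 1, 2, 3, 4, 8, 7, 8, 3, 6, 5,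 4, 9, 7, 3, 2, 8, 7, 8, 5, 4, 1, 3, 2, 6, 5, 9, 6, 4, 3, 7, 4, 6, 8, 5, 2, 3, 1, 2, 4, 6, 5, 4, 3, 2, 7, 1, 9, 5, 3, 7, 4, 5, 2, 3, 4, 2, 8, 5, 6, 7, 3, 5, 4, 7, 3, 6, 1, 2, 9, 3, 5, 8, 7, 3, 7, 4, 8, 1, 3, 2, 1, 6, 5, 6, 3, 4, 7, 4, 8, 5, 3, 6, 5, 7, 6, 4, 3, 5, 8, 4, 7, 5, 6, 5, 9, 6, 4, 3, 7, 4, 6, 8, 5, 2, 3, 1]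

/-- part of a word -/
def zero21w0p2 : List ℕ := [2, 4, 6, 5, 4, 3, 2, 7, 1, 9, 5, 3, 7, 4, 5, 2, 3, 4, 2, 8, 5, 6, 7, 3, 5, 4, 7, 3, 6, 1, 2, 9, 3, 5, 8, 7, 3, 7, 4, 8, 1, 3, 2, 1, 6, 5, 6, 3, 4, 7, 4, 8, 5, 3, 6, 5, 7, 6, 4, 3, 5, 8, 4, 7, 5, 7, 3, 4, 5, 3, 7, 2, 3, 1, 4, 7, 3, 2, 1, 3, 7, 4, 3, 2, 7, 3, 5, 4, 3, 7, 6, 5, 9, 6, 4, 3, 7, 4, 6, 8, 5, 2, 3, 1, 2, 4, 6, 5, 4, 3, 2, 7, 1, 9, 5, 3, 7, 4, 5, 2, 3, 4, 2, 8, 5, 6, 7, 3, 5, 4, 7, 3, 6, 1, 2, 9, 3, 5, 8, 7, 3, 7, 4, 8, 1, 3, 2, 1, 6, 5, 6, 3, 4, 7, 4, 8, 5, 3, 6, 5, 7, 6, 4, 3, 5, 8, 4, 7, 5, 3, 5, 1, 8]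

/-- part of a word -/
def zero21w1p0 : List ℕ := [2, 3, 1, 2, 7, 3, 4, 5, 3, 7, 2, 3, 1, 4, 7, 3, 2, 1, 3, 7, 4, 3, 2, 7, 3, 5, 4, 3, 6, 2, 3, 1, 4, 7, 3, 2, 1, 3, 7, 4, 3, 2, 4, 8, 7, 3, 4, 7, 3, 5, 6, 2, 3, 1, 4, 7, 3, 2, 1, 3, 7, 4, 3, 2, 4, 8, 7, 3, 4, 6, 5, 9, 6, 4, 3, 7, 4, 6, 8, 5, 2, 3, 1, 2, 4, 6, 5, 4, 3, 2, 7, 1, 9, 5, 3, 7, 4, 5, 2, 3, 4, 2, 8, 5, 6, 7, 3, 5, 4, 7, 3, 6, 1, 2, 9, 3, 5, 8, 7, 3, 7, 4, 8, 1, 3, 2, 1, 6, 5, 6, 3, 4, 7, 4, 8, 5, 3, 6, 5, 7, 6, 4, 3, 5, 8, 4, 7, 6, 2, 3, 1, 4, 7, 3, 2, 1, 3, 7, 4, 3, 2, 4, 8, 7, 3, 4, 7, 6, 5, 9, 6, 4, 3, 7, 4, 6, 8, 5, 2, 3, 1, 2, 4, 6, 5, 4, 3, 2, 7, 1, 9, 5, 3,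 7, 4, 5, 2, 3, 4, 2, 8, 5, 6, 7, 3, 5, 4, 7, 3, 6, 1, 2, 9, 3, 5, 8, 7, 3, 7, 4, 8, 1, 3, 2, 1, 6, 5, 6, 3, 4, 7, 4, 8, 5, 3, 6, 5, 7, 6, 4, 3, 5, 8, 4, 7, 5, 6, 5, 9, 6]

/-- part of a word -/
def zero21w1p1 : List ℕ := [2, 3, 1, 5, 4, 7, 6, 3, 2, 1, 3, 7, 4, 3, 2, 6, 4, 3, 7, 4, 6, 8, 5, 2, 3, 1, 2, 4, 6, 5, 4, 3, 2, 7, 1, 9, 5, 3, 7, 4, 5, 2, 3, 4, 2, 8, 5, 6, 7, 3, 5, 4, 7, 3, 6, 1, 2, 9, 3, 5, 8, 7, 3, 7, 4, 8, 1, 3, 2, 1, 6, 5, 6, 3, 4, 7, 4, 8, 5, 3, 6, 5, 7, 6, 4, 3, 5, 8, 4, 7, 5, 6, 5, 9, 6, 2, 3, 1, 5, 4, 7, 6, 3, 2, 1, 3, 7, 4, 3, 2, 9, 5, 6, 5, 6, 5, 9, 6, 4, 3, 7, 4, 6, 8, 5, 2, 3, 1, 2, 4, 6, 5, 4, 3, 2, 7,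 1, 9, 5, 3, 7, 4, 5, 2, 3, 4, 2, 8, 5, 6, 7, 3, 5, 4, 7, 3, 6, 1, 2, 9, 3, 5, 8, 7, 3, 7, 4, 8, 1, 3, 2, 1, 6, 5, 6, 3, 4, 2, 3, 1, 2, 3, 4, 8, 7, 8, 3, 6, 5, 4, 9, 7, 3, 2, 8, 7, 8, 5, 4, 1, 3, 2, 7, 3, 4, 5, 3, 7, 2, 3, 1, 4, 7, 3, 2, 1, 3, 7, 4, 3, 2, 7, 3, 5, 4, 3, 7, 3, 5, 1]

/-- part of a word -/
def zero21w2p0 : List ℕ := [2, 3, 4, 5, 6, 9, 7, 3, 4, 2, 3, 7, 8, 5, 4, 3, 7, 6, 5, 4, 3, 1, 2, 6, 5, 9, 6, 4, 3, 7, 4, 6, 8, 5, 2, 3, 1, 2, 4, 6, 5, 4, 3, 2, 7, 1, 9, 5, 3, 7, 4, 5, 2, 3, 4, 2, 8, 5, 6, 7, 3, 5, 4, 7, 3, 6, 1, 2, 9, 3, 5, 8, 7, 3, 7, 4, 8, 1, 3, 2, 1, 6, 5, 6, 3, 4, 7, 4, 8, 5, 3, 6, 5, 7, 6, 4, 3, 5, 8,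 4, 7, 5, 7, 6, 5, 9, 6, 4, 3, 7, 4, 6, 8, 5, 2, 3, 1, 2, 4, 6, 5, 4, 3, 2, 7, 1, 9, 5, 3, 7, 4, 5, 2, 3, 4, 2, 8, 5, 6, 7, 3, 5, 4, 7, 3, 6, 1, 2, 9, 3, 5, 8, 7, 3, 7, 4, 8, 1, 3, 2, 1, 6, 5, 6, 3, 4, 7, 4, 8, 5, 3, 6, 5, 7, 6, 4, 3, 5, 8, 4, 7, 5, 7, 6, 2, 3, 1, 4, 7, 3, 2, 1, 3, 7, 4, 3, 2, 4, 8, 7, 3, 4, 7, 6, 5, 9, 6, 4, 3, 7, 4, 6, 8, 5, 2, 3, 1, 2, 4, 6, 5, 4, 3, 2, 7, 1, 9, 5, 3, 7, 4, 5, 2, 3, 4, 2, 8, 5, 6, 7, 3, 5, 4, 7, 3, 6, 1, 2, 9, 3]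

/-- part of a word -/
def zero21w2p1 : List ℕ := [5, 8, 7, 3, 7, 4, 8, 1, 3, 2, 1, 6, 5, 6, 3, 4, 7, 4, 8, 5, 3, 6, 5, 7, 6, 4, 3, 5, 8, 4, 7, 5, 6, 5, 9, 6, 2, 3, 1, 5, 4, 7, 6, 3, 2, 1, 3, 7, 4, 3, 2, 6, 4, 3, 7, 4, 6, 8, 5, 2, 3, 1, 2, 4, 6, 5, 4, 3, 2, 7, 1, 9, 5, 3, 7, 4, 5, 2, 3, 4, 2, 8, 5, 6, 7, 3, 5, 4, 7, 3, 6, 1, 2, 9, 3, 5, 8, 7, 3, 7, 4, 8, 1, 3, 2, 1, 6, 5, 6, 3, 4, 7, 4, 8, 5, 3, 6, 5, 7, 6, 4, 3, 5, 8, 4, 7, 5, 6, 2, 3, 1, 4, 7, 3, 2, 1, 3, 7, 4, 3, 2, 4, 8, 7, 3, 4, 3, 4, 5, 3, 7, 2, 3, 1, 4, 7, 3, 2, 1, 3, 7, 4, 3, 2, 7, 3, 5, 4, 3, 7, 8, 6, 5, 9, 6, 2, 3, 1, 5, 4, 7, 6, 3, 2, 1, 3, 7, 4, 3, 2, 9, 5, 6,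 5, 6, 5, 9, 6, 4, 3, 7, 4, 6, 8, 5, 2, 3, 1, 2, 4, 6, 5, 4, 3, 2, 7, 1, 9, 5, 3, 7, 4, 5, 2, 3, 4, 2, 8, 5, 6, 7, 3, 5, 4, 7, 3, 6, 1, 2, 9, 3, 5, 8, 7, 3, 7, 4, 8, 1, 3]

/-- part of a word -/
def zero21w2p2 : List ℕ := [2, 1, 6, 5, 6, 3, 4, 2, 3, 1, 2, 3, 4, 8, 7, 8, 3, 6, 5, 4, 9, 7, 3, 2, 8, 7, 8, 5, 4, 1, 3, 2, 6, 5, 9, 6, 4, 3, 7, 4, 6, 8, 5, 2, 3, 1, 2, 4, 6, 5, 4, 3, 2, 7, 1, 9, 5, 3, 7, 4, 5, 2, 3, 4, 2, 8, 5, 6, 7, 3, 5, 4, 7, 3, 6, 1, 2, 9, 3, 5, 8, 7, 3, 7, 4, 8, 1, 3, 2, 1, 6, 5, 6, 3, 4, 7, 4, 8, 5, 3, 6, 5, 7, 6, 4, 3, 5, 8, 4, 7, 5, 6, 5, 9, 6, 4, 3, 7, 4, 6, 8, 5, 2, 3, 1, 2, 4, 6, 5, 4, 3, 2, 7, 1, 9, 5,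 3, 7, 4, 5, 2, 3, 4, 2, 8, 5, 6, 7, 3, 5, 4, 7, 3, 6, 1, 2, 9, 3, 5, 8, 7, 3, 7, 4, 8, 1, 3, 2, 1, 6, 5, 6, 3, 4, 7, 4, 8, 5, 3, 6, 5, 7, 6, 4, 3, 5, 8, 4, 7, 5, 7, 3, 4, 5, 3, 7, 2, 3, 1, 4, 7, 3, 2, 1, 3, 7, 4, 3, 2, 7, 3, 5, 4, 3, 7, 6, 5, 9, 6, 4, 3, 7, 4, 6, 8, 5, 2, 3, 1, 2, 4, 6, 5, 4, 3, 2, 7, 1, 9, 5, 3, 7, 4, 5, 2, 3, 4, 2, 8, 5]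

/-- part of a word -/
def zero21w2p3 : List ℕ := [6, 7, 3, 5, 4, 7, 3, 6, 1, 2, 9, 3, 5, 8, 7, 3, 7, 4, 8, 1, 3, 2, 1, 6, 5, 6, 3, 4, 7, 4, 8, 5, 3, 6, 5, 7, 6, 4, 3, 5, 8, 4, 7, 6, 5, 9, 6, 4, 3, 7, 4, 6, 8, 5, 2, 3, 1, 2, 4, 6, 5, 4, 3, 2, 7, 1, 9, 5, 3, 7, 4, 5, 2, 3, 4, 2, 8, 5, 6, 7, 3, 5, 4, 7, 3, 6, 1, 2, 9, 3, 5, 8, 7, 3, 7, 4, 8, 1, 3, 2, 1, 6, 5, 6, 3, 4, 2, 3, 1, 2, 3, 4, 8, 7, 8, 3, 6, 5, 4, 9, 7, 3, 2, 8, 7, 8, 5, 4, 1, 3, 2, 6, 5, 9, 6, 4, 3, 7, 4, 6, 8, 5, 2, 3, 1, 2, 4, 6, 5, 4, 3, 2, 7, 1, 9, 5, 3, 7, 4, 5, 2, 3, 4, 2, 8, 5, 6, 7, 3, 5, 4, 7, 3, 6, 1, 2, 9, 3, 5, 8, 7, 3, 7, 4, 8, 1, 3, 2, 1, 6, 5, 6, 3,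 4, 7, 4, 8, 5, 3, 6, 5, 7, 6, 4, 3, 5, 8, 4, 7, 5, 6, 5, 9, 6, 4, 3, 7, 4, 6, 8, 5, 2, 3, 1, 2, 4, 6, 5, 4, 3, 2, 7, 1, 9, 5, 3, 7, 4, 5, 2, 3, 4, 2, 8, 5, 6, 7, 3, 5, 4]

/-- part of a word -/
def zero21w2p4 : List ℕ := [7, 3, 6, 1, 2, 9, 3, 5, 8, 7, 3, 7, 4, 8, 1, 3, 2, 1, 6, 5, 6, 3, 4, 2, 3, 1, 2, 3, 4, 8, 7, 8, 3, 6, 5, 4, 9, 7, 3, 2, 8, 7, 8, 5, 4, 1, 3, 2, 1, 8]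

/-- part of a word -/
def zero21finp0 : List ℕ := [8, 7, 3, 4, 2, 3, 7, 5, 4, 3, 2, 6, 2, 3, 1, 4, 7, 3, 2, 1, 3, 7, 4, 3, 2, 4, 8, 7, 3, 4, 7, 3, 4, 5, 3, 7, 2, 3, 1, 4, 7, 3, 2, 1, 3, 7, 4, 3, 2, 7, 3, 5, 4, 3, 7, 6, 5, 9, 6, 4, 3, 7, 4, 6, 8, 5, 2, 3, 1, 2, 4, 6, 5, 4, 3, 2, 7, 1, 9, 5, 3, 7, 4, 5, 2, 3, 4, 2, 8, 5, 6, 7, 3, 5, 4, 7, 3, 6, 1, 2, 9, 3, 5, 8, 7, 3, 7, 4, 8, 1, 3, 2, 1, 6, 5, 6, 3, 4, 7, 4, 8, 5, 3, 6, 5, 7, 6, 4, 3, 5, 8, 4, 7, 5, 6, 5, 9, 6, 4, 3, 7, 4, 6, 8, 5, 2, 3, 1, 2, 4, 6, 5, 4, 3, 2, 7, 1, 9, 5, 3, 7, 4, 5, 2, 3, 4, 2, 8, 5, 6, 7, 3, 5, 4, 7, 3, 6, 1, 2, 9, 3, 5, 8, 7, 3, 7, 4, 8, 1, 3, 2, 1, 6,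 5, 6, 3, 4, 7, 4, 8, 5, 3, 6, 5, 7, 6, 4, 3, 5, 8, 4, 7, 5, 6, 2, 3, 1, 4, 7, 3, 2, 1, 3, 7, 4, 3, 2, 4, 8, 7, 3, 4, 7, 6, 2, 3, 1, 4, 7, 3, 2, 1, 3, 7, 4, 3, 2, 4, 8, 7]

/-- part of a word -/
def zero21finp1 : List ℕ := [3, 4, 3, 4, 5, 3, 7, 2, 3, 1, 4, 7, 3, 2, 1, 3, 7, 4, 3, 2, 7, 3, 5, 4, 3, 7, 8, 6, 5, 9, 6, 2, 3, 1, 5, 4, 7, 6, 3, 2, 1, 3, 7, 4, 3, 2, 6, 2, 3, 1, 5, 4, 7, 6, 3, 2, 1, 3, 7, 4, 3, 2, 6, 4, 3, 7, 4, 6, 8, 5, 2, 3, 1, 2, 4, 6, 5, 4, 3, 2, 7, 1, 9, 5, 3, 7, 4, 5, 2, 3, 4, 2, 8, 5, 6, 7, 3, 5, 4, 7, 3, 6, 1, 2, 9, 3, 5, 8, 7, 3, 7, 4, 8, 1, 3, 2, 1, 6, 5, 6, 3, 4, 7, 4, 8, 5, 3, 6, 5, 7, 6, 4, 3, 5, 8, 4,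 7, 5, 7, 3, 4, 5, 3, 7, 2, 3, 1, 4, 7, 3, 2, 1, 3, 7, 4, 3, 2, 7, 3, 5, 4, 3, 7, 5, 6, 5, 9, 6, 4, 3, 7, 4, 6, 8, 5, 2, 3, 1, 2, 4, 6, 5, 4, 3, 2, 7, 1, 9, 5, 3, 7, 4, 5, 2, 3, 4, 2, 8, 5, 6, 7, 3, 5, 4, 7, 3, 6, 1, 2, 9, 3, 5, 8, 7, 3, 7, 4, 8, 1, 3, 2, 1, 6, 5, 6, 3, 4, 2, 3, 1, 2, 3, 4, 8, 7, 8, 3, 6, 5, 4, 9, 7, 3, 2, 8, 7, 8, 5, 4, 1]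

/-- part of a word -/
def zero21finp2 : List ℕ := [3, 2, 7, 3, 4, 5, 3, 7, 2, 3, 1, 4, 7, 3, 2, 1, 3, 7, 4, 3, 2, 7, 3, 5, 4, 3, 7, 6, 5, 9, 6, 4, 3, 7, 4, 6, 8, 5, 2, 3, 1, 2, 4, 6, 5, 4, 3, 2, 7, 1, 9, 5, 3, 7, 4, 5, 2, 3, 4, 2, 8, 5, 6, 7, 3, 5, 4, 7, 3, 6, 1, 2, 9, 3, 5, 8, 7, 3, 7, 4, 8, 1, 3, 2, 1, 6, 5, 6, 3, 4, 7, 4, 8, 5, 3, 6, 5, 7, 6, 4, 3, 5, 8, 4, 7, 5, 3, 6, 5, 9, 6, 4, 3, 7, 4, 6, 8, 5, 2, 3, 1, 2, 4, 6, 5, 4, 3, 2, 7, 1, 9, 5, 3, 7, 4, 5, 2, 3, 4, 2, 8, 5, 6, 7, 3, 5, 4, 7, 3, 6, 1, 2, 9, 3, 5, 8, 7, 3, 7, 4, 8, 1, 3, 2, 1, 6, 5, 6, 3, 4, 2, 3, 1, 2, 3, 4, 8, 7, 8, 3, 6, 5, 4, 9, 7, 3, 2, 8, 7, 8, 5, 4, 1,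 3, 2, 9]

/-- a loop -/
def zeroLoop21 : LoopWit := ⟨[⟨7, [zero21w0p0, zero21w0p1, zero21w0p2].flatten, 0, [3, 6, 5, 4, 7, 3, 8, 7, 9, 6, 5, 4, 3, 2, 1]⟩,
  ⟨3, [zero21w1p0, zero21w1p1].flatten, 0, [1, 2, 3, 4, 5, 6, 7, 3, 2, 1, 4, 3, 5, 4, 7, 3, 8, 7, 3, 2, 4, 3, 7, 9, 6, 5, 4, 3, 2, 1, 7, 3]⟩,
  ⟨7, [zero21w2p0, zero21w2p1, zero21w2p2, zero21w2p3, zero21w2p4].flatten, 0, [3, 4, 5, 6, 5, 4, 3, 7, 3, 4, 5, 9, 6, 5, 4, 3, 2, 1]⟩], [zero21finp0, zero21finp1, zero21finp2].flatten, 0⟩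

/-- part of a word -/
def zero22w1p0 : List ℕ := [6, 9, 5, 4, 3, 7, 6, 5, 4, 3, 2, 6, 5, 9, 6, 4, 3, 7, 4, 6, 8, 5, 2, 3, 1, 2, 4, 6, 5, 4, 3, 2, 7, 1, 9, 5, 3, 7, 4, 5, 2, 3, 4, 2, 8, 5, 6, 7, 3, 5, 4, 7, 3, 6, 1, 2, 9, 3, 5, 8, 7, 3, 7, 4, 8, 1, 3, 2, 1, 6, 5, 6, 3, 4, 7, 4, 8, 5, 3, 6, 5, 7, 6, 4, 3, 5, 8, 4, 7, 5, 7, 3, 5, 7, 3, 4, 5, 3, 7, 2, 3, 1, 4, 7, 3, 2, 1, 3, 7, 4, 3, 2, 7, 3, 5, 4, 3, 6, 5, 9, 6, 2, 3, 1, 5, 4, 7, 6, 3, 2, 1, 3, 7, 4, 3, 2, 6, 4, 3, 7, 4, 6, 8, 5, 2, 3, 1, 2, 4, 6, 5, 4, 3, 2, 7, 1, 9, 5, 3, 7, 4, 5, 2, 3, 4, 2, 8, 5, 6, 7, 3, 5, 4, 7, 3, 6, 1, 2, 9, 3, 5, 8, 7, 3, 7, 4, 8, 1, 3, 2, 1, 6, 5,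 6, 3, 4, 7, 4, 8, 5, 3, 6, 5, 7, 6, 4, 3, 5, 8, 4, 7, 5, 6, 2, 3, 1, 4, 7, 3, 2, 1, 3, 7, 4, 3, 2, 4, 8, 7, 3, 4, 7, 6, 5, 9, 6, 4, 3, 7, 4, 6, 8, 5, 2, 3, 1, 2, 4, 6, 5]

/-- part of a word -/
def zero22w1p1 : List ℕ := [4, 3, 2, 7, 1, 9, 5, 3, 7, 4, 5, 2, 3, 4, 2, 8, 5, 6, 7, 3, 5, 4, 7, 3, 6, 1, 2, 9, 3, 5, 8, 7, 3, 7, 4, 8, 1, 3, 2, 1, 6, 5, 6, 3, 4, 7, 4, 8, 5, 3, 6, 5, 7, 6, 4, 3, 5, 8, 4, 7, 5, 7, 3, 4, 5, 3, 7, 2, 3, 1, 4, 7, 3, 2, 1, 3, 7, 4, 3, 2, 7, 3, 5, 4, 3, 7, 6, 5, 9, 6, 4, 3, 7, 4, 6, 8, 5, 2, 3, 1, 2, 4, 6, 5, 4, 3, 2, 7, 1, 9, 5, 3, 7, 4, 5, 2, 3, 4, 2, 8, 5, 6, 7, 3, 5, 4, 7, 3, 6, 1, 2, 9, 3, 5, 8, 7,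 3, 7, 4, 8, 1, 3, 2, 1, 6, 5, 6, 3, 4, 7, 4, 8, 5, 3, 6, 5, 7, 6, 4, 3, 5, 8, 4, 7, 5, 6, 5, 9, 6, 4, 3, 7, 4, 6, 8, 5, 2, 3, 1, 2, 4, 6, 5, 4, 3, 2, 7, 1, 9, 5, 3, 7, 4, 5, 2, 3, 4, 2, 8, 5, 6, 7, 3, 5, 4, 7, 3, 6, 1, 2, 9, 3, 5, 8, 7, 3, 7, 4, 8, 1, 3, 2, 1, 6, 5, 6, 3, 4, 7, 4, 8, 5, 3, 6, 5, 7, 6, 4, 3, 5, 8, 4, 7, 6, 5, 9, 6, 4, 3, 7]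

/-- part of a word -/
def zero22w1p2 : List ℕ := [4, 6, 8, 5, 2, 3, 1, 2, 4, 6, 5, 4, 3, 2, 7, 1, 9, 5, 3, 7, 4, 5, 2, 3, 4, 2, 8, 5, 6, 7, 3, 5, 4, 7, 3, 6, 1, 2, 9, 3, 5, 8, 7, 3, 7, 4, 8, 1, 3, 2, 1, 6, 5, 6, 3, 4, 2, 3, 1, 2, 3, 4, 8, 7, 8, 3, 6, 5, 4, 9, 7, 3, 2, 8, 7, 8, 5, 4, 1, 3, 2, 6, 5, 9, 6, 4, 3, 7, 4, 6, 8, 5, 2, 3, 1, 2, 4, 6, 5, 4, 3, 2, 7, 1, 9, 5, 3, 7, 4, 5, 2, 3, 4, 2, 8, 5, 6, 7, 3, 5, 4, 7, 3, 6, 1, 2, 9, 3, 5, 8, 7, 3, 7, 4, 8, 1, 3, 2, 1, 6, 5, 6, 3, 4, 7, 4, 8, 5, 3, 6, 5, 7, 6, 4, 3, 5, 8, 4, 7, 1]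

/-- part of a word -/
def zero22w2p0 : List ℕ := [7, 3, 4, 5, 6, 9, 7, 3, 4, 1, 2, 3, 7, 8, 4, 5, 3, 4, 2, 3, 7, 6, 5, 4, 3, 2, 6, 2, 3, 1, 4, 7, 3, 2, 1, 3, 7, 4, 3, 2, 4, 8, 7, 3, 4, 7, 3, 5, 6, 2, 3, 1, 4, 7, 3, 2, 1, 3, 7, 4, 3, 2, 4, 8, 7, 3, 4, 3, 4, 5, 3, 7, 2, 3, 1, 4, 7, 3, 2, 1, 3, 7, 4, 3, 2, 7, 3, 5, 4, 3, 6, 2, 3, 1, 4, 7, 3, 2, 1, 3, 7, 4, 3, 2, 4, 8, 7, 3, 4, 7, 6, 5, 9, 6, 4, 3, 7, 4, 6, 8, 5, 2, 3, 1, 2, 4, 6, 5, 4, 3, 2, 7, 1, 9, 5, 3, 7, 4, 5, 2, 3, 4, 2, 8, 5, 6, 7, 3, 5, 4, 7, 3, 6, 1, 2, 9, 3, 5, 8, 7, 3, 7, 4, 8, 1, 3, 2, 1, 6, 5, 6, 3, 4, 7, 4, 8, 5, 3, 6, 5, 7, 6, 4, 3, 5, 8, 4, 7, 5, 6, 5, 9, 6,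 2, 3, 1, 5, 4, 7, 6, 3, 2, 1, 3, 7, 4, 3, 2, 6, 4, 3, 7, 4, 6, 8, 5, 2, 3, 1, 2, 4, 6, 5, 4, 3, 2, 7, 1, 9, 5, 3, 7, 4, 5, 2, 3, 4, 2, 8, 5, 6, 7, 3, 5, 4, 7, 3, 6, 1, 2]

/-- part of a word -/
def zero22w2p1 : List ℕ := [9, 3, 5, 8, 7, 3, 7, 4, 8, 1, 3, 2, 1, 6, 5, 6, 3, 4, 7, 4, 8, 5, 3, 6, 5, 7, 6, 4, 3, 5, 8, 4, 7, 5, 6, 2, 3, 1, 4, 7, 3, 2, 1, 3, 7, 4, 3, 2, 4, 8, 7, 3, 4, 3, 4, 5, 3, 7, 2, 3, 1, 4, 7, 3, 2, 1, 3, 7, 4, 3, 2, 7, 3, 5, 4, 3, 7, 6, 5, 9, 6, 4, 3, 7, 4, 6, 8, 5, 2, 3, 1, 2, 4, 6, 5, 4, 3, 2, 7, 1, 9, 5, 3, 7, 4, 5, 2, 3, 4, 2, 8, 5, 6, 7, 3, 5, 4, 7, 3, 6, 1, 2, 9, 3, 5, 8, 7, 3, 7, 4, 8, 1, 3, 2, 1, 6,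 5, 6, 3, 4, 7, 4, 8, 5, 3, 6, 5, 7, 6, 4, 3, 5, 8, 4, 7, 5, 6, 5, 9, 6, 4, 3, 7, 4, 6, 8, 5, 2, 3, 1, 2, 4, 6, 5, 4, 3, 2, 7, 1, 9, 5, 3, 7, 4, 5, 2, 3, 4, 2, 8, 5, 6, 7, 3, 5, 4, 7, 3, 6, 1, 2, 9, 3, 5, 8, 7, 3, 7, 4, 8, 1, 3, 2, 1, 6, 5, 6, 3, 4, 7, 4, 8, 5, 3, 6, 5, 7, 6, 4, 3, 5, 8, 4, 7, 5, 7, 3, 4, 5, 3, 7, 2, 3, 1, 4, 7, 3, 2, 1, 3]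

/-- part of a word -/
def zero22w2p2 : List ℕ := [7, 4, 3, 2, 7, 3, 5, 4, 3, 7, 6, 5, 9, 6, 4, 3, 7, 4, 6, 8, 5, 2, 3, 1, 2, 4, 6, 5, 4, 3, 2, 7, 1, 9, 5, 3, 7, 4, 5, 2, 3, 4, 2, 8, 5, 6, 7, 3, 5, 4, 7, 3, 6, 1, 2, 9, 3, 5, 8, 7, 3, 7, 4, 8, 1, 3, 2, 1, 6, 5, 6, 3, 4, 7, 4, 8, 5, 3, 6, 5, 7, 6, 4, 3, 5, 8, 4, 7, 6, 5, 9, 6, 4, 3, 7, 4, 6, 8, 5, 2, 3, 1, 2, 4, 6, 5, 4, 3, 2, 7, 1, 9, 5, 3, 7, 4, 5, 2, 3, 4, 2, 8, 5, 6, 7, 3, 5, 4, 7, 3, 6, 1, 2, 9, 3, 5, 8, 7, 3, 7, 4, 8, 1, 3, 2, 1, 6, 5, 6, 3, 4, 2, 3, 1, 2, 3, 4, 8, 7, 8, 3, 6, 5, 4, 9, 7, 3, 2, 8, 7, 8, 5, 4, 1, 3, 2, 6, 5, 9, 6, 4, 3, 7, 4, 6, 8, 5, 2, 3, 1, 2, 4, 6,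 5, 4, 3, 2, 7, 1, 9, 5, 3, 7, 4, 5, 2, 3, 4, 2, 8, 5, 6, 7, 3, 5, 4, 7, 3, 6, 1, 2, 9, 3, 5, 8, 7, 3, 7, 4, 8, 1, 3, 2, 1, 6, 5, 6, 3, 4, 7, 4, 8, 5, 3, 6, 5, 7, 6, 4, 3]

/-- part of a word -/
def zero22w2p3 : List ℕ := [5, 8, 4, 7, 5, 6, 5, 9, 6, 4, 3, 7, 4, 6, 8, 5, 2, 3, 1, 2, 4, 6, 5, 4, 3, 2, 7, 1, 9, 5, 3, 7, 4, 5, 2, 3, 4, 2, 8, 5, 6, 7, 3, 5, 4, 7, 3, 6, 1, 2, 9, 3, 5, 8, 7, 3, 7, 4, 8, 1, 3, 2, 1, 6, 5, 6, 3, 4, 7, 4, 8, 5, 3, 6, 5, 7, 6, 4, 3, 5, 8, 4, 7, 6, 5, 9, 6, 4, 3, 7, 4, 6, 8, 5, 2, 3, 1, 2, 4, 6, 5, 4, 3, 2, 7, 1, 9, 5, 3, 7, 4, 5, 2, 3, 4, 2, 8, 5, 6, 7, 3, 5, 4, 7, 3, 6, 1, 2, 9, 3, 5, 8, 7, 3, 7, 4,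 8, 1, 3, 2, 1, 6, 5, 6, 3, 4, 2, 3, 1, 2, 3, 4, 8, 7, 8, 3, 6, 5, 4, 9, 7, 3, 2, 8, 7, 8, 5, 4, 1, 3, 2, 9]

/-- part of a word -/
def zero22finp0 : List ℕ := [7, 8, 7, 3, 4, 2, 3, 7, 5, 4, 3, 2, 6, 2, 3, 1, 4, 7, 3, 2, 1, 3, 7, 4, 3, 2, 4, 8, 7, 3, 4, 6, 2, 3, 1, 4, 7, 3, 2, 1, 3, 7, 4, 3, 2, 4, 8, 7, 3, 4, 7, 6, 5, 9, 6, 4, 3, 7, 4, 6, 8, 5, 2, 3, 1, 2, 4, 6, 5, 4, 3, 2, 7, 1, 9, 5, 3, 7, 4, 5, 2, 3, 4, 2, 8, 5, 6, 7, 3, 5, 4, 7, 3, 6, 1, 2, 9, 3, 5, 8, 7, 3, 7, 4, 8, 1, 3, 2, 1, 6, 5, 6, 3, 4, 7, 4, 8, 5, 3, 6, 5, 7, 6, 4, 3, 5, 8, 4, 7, 5, 3, 5, 7, 5, 6, 2, 3, 1, 4, 7, 3, 2, 1, 3, 7, 4, 3, 2, 4, 8, 7, 3, 4, 7, 5, 6, 5,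 9, 6, 4, 3, 7, 4, 6, 8, 5, 2, 3, 1, 2, 4, 6, 5, 4, 3, 2, 7, 1, 9, 5, 3, 7, 4, 5, 2, 3, 4, 2, 8, 5, 6, 7, 3, 5, 4, 7, 3, 6, 1, 2, 9, 3, 5, 8, 7, 3, 7, 4, 8, 1, 3, 2, 1, 6, 5, 6, 3, 4, 2, 3, 1, 2, 3, 4, 8, 7, 8, 3, 6, 5, 4, 9, 7, 3, 2, 8, 7, 8, 5, 4, 1, 3, 2, 6, 2, 3, 1, 4, 7, 3]

/-- part of a word -/
def zero22finp1 : List ℕ := [2, 1, 3, 7, 4, 3, 2, 4, 8, 7, 3, 4, 7, 6, 5, 9, 6, 4, 3, 7, 4, 6, 8, 5, 2, 3, 1, 2, 4, 6, 5, 4, 3, 2, 7, 1, 9, 5, 3, 7, 4, 5, 2, 3, 4, 2, 8, 5, 6, 7, 3, 5, 4, 7, 3, 6, 1, 2, 9, 3, 5, 8, 7, 3, 7, 4, 8, 1, 3, 2, 1, 6, 5, 6, 3, 4, 7, 4, 8, 5, 3, 6, 5, 7, 6, 4, 3, 5, 8, 4, 7, 5, 6, 5, 9, 6, 4, 3, 7, 4,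 6, 8, 5, 2, 3, 1, 2, 4, 6, 5, 4, 3, 2, 7, 1, 9, 5, 3, 7, 4, 5, 2, 3, 4, 2, 8, 5, 6, 7, 3, 5, 4, 7, 3, 6, 1, 2, 9, 3, 5, 8, 7, 3, 7, 4, 8, 1, 3, 2, 1, 6, 5, 6, 3, 4, 7, 4, 8, 5, 3, 6, 5, 7, 6, 4, 3, 5, 8, 4, 7, 5, 6, 5, 9, 6, 2, 3, 1, 5, 4, 7, 6, 3, 2, 1, 3, 7, 4, 3, 2, 9, 5, 6, 7, 3, 4, 5, 3, 7, 2, 3, 1, 4, 7, 3, 2, 1, 3, 7, 4, 3, 2, 7, 3, 5, 4, 3, 7, 5, 6, 5, 9, 6, 4, 3, 7, 4, 6, 8, 5, 2, 3, 1, 2, 4, 6, 5, 4, 3, 2, 7, 1, 9, 5, 3, 7, 4, 5, 2, 3]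

/-- part of a word -/
def zero22finp2 : List ℕ := [4, 2, 8, 5, 6, 7, 3, 5, 4, 7, 3, 6, 1, 2, 9, 3, 5, 8, 7, 3, 7, 4, 8, 1, 3, 2, 1, 6, 5, 6, 3, 4, 2, 3, 1, 2, 3, 4, 8, 7, 8, 3, 6, 5, 4, 9, 7, 3, 2, 8, 7, 8, 5, 4, 1, 3, 2, 7, 3, 4, 5, 3, 7, 2, 3, 1, 4, 7, 3, 2, 1, 3, 7, 4, 3, 2, 7, 3, 5, 4, 3, 7, 6, 5, 9, 6, 4, 3, 7, 4, 6, 8, 5, 2, 3, 1, 2, 4, 6, 5, 4, 3, 2, 7, 1, 9, 5, 3, 7, 4, 5, 2, 3, 4, 2, 8, 5, 6, 7, 3, 5, 4, 7, 3, 6, 1, 2, 9, 3, 5, 8, 7, 3, 7, 4, 8, 1, 3, 2, 1, 6, 5, 6, 3, 4, 7, 4, 8, 5, 3, 6, 5, 7, 6, 4, 3, 5, 8, 4, 7, 5, 6, 5, 9, 6, 4, 3, 7, 4, 6, 8, 5, 2, 3, 1, 2, 4, 6, 5, 4, 3, 2, 7, 1, 9, 5, 3, 7, 4, 5, 2, 3, 4,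 2, 8, 5, 6, 7, 3, 5, 4, 7, 3, 6, 1, 2, 9, 3, 5, 8, 7, 3, 7, 4, 8, 1, 3, 2, 1, 6, 5, 6, 3, 4, 7, 4, 8, 5, 3, 6, 5, 7, 6, 4, 3, 5, 8, 4, 7, 5, 3, 5, 1]

/-- a loop -/
def zeroLoop22 : LoopWit := ⟨[⟨7, [2, 8, 7], 0, [3, 4, 6, 5, 7, 3, 2, 4, 3, 7, 9, 6, 5, 4, 3, 2, 1]⟩,
  ⟨7, [zero22w1p0, zero22w1p1, zero22w1p2].flatten, 0, [3, 4, 6, 5, 4, 3, 2, 7, 3, 2, 4, 3, 5, 7, 9, 6, 5, 4, 3, 2, 1, 7, 3, 4, 5]⟩,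
  ⟨7, [zero22w2p0, zero22w2p1, zero22w2p2, zero22w2p3].flatten, 0, [3, 2, 6, 5, 4, 3, 2, 7, 8, 9, 6, 5, 4, 3, 2, 1, 7, 3, 4, 5, 6, 8, 9]⟩], [zero22finp0, zero22finp1, zero22finp2].flatten, 0⟩

/-- part of a word -/
def zero23w1p0 : List ℕ := [8, 7, 3, 4, 2, 3, 7, 5, 4, 3, 2, 6, 2, 3, 1, 4, 7, 3, 2, 1, 3, 7, 4, 3, 2, 4, 8, 7, 3, 4, 6, 5, 9, 6, 4, 3, 7, 4, 6, 8, 5, 2, 3, 1, 2, 4, 6, 5, 4, 3, 2, 7, 1, 9, 5, 3, 7, 4, 5, 2, 3, 4, 2, 8, 5, 6, 7, 3, 5, 4, 7, 3, 6, 1, 2, 9, 3, 5, 8, 7, 3, 7, 4, 8, 1, 3, 2, 1, 6, 5, 6, 3, 4, 7, 4, 8, 5, 3, 6, 5, 7, 6, 4, 3, 5, 8, 4, 7, 5, 6, 5, 9, 6, 2, 3, 1, 5, 4, 7, 6, 3, 2, 1, 3, 7, 4, 3, 2, 9,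 5, 2, 3, 1, 4, 7, 3, 2, 1, 3, 7, 4, 3, 2, 4, 8, 7, 3, 4, 7, 6, 5, 9, 6, 4, 3, 7, 4, 6, 8, 5, 2, 3, 1, 2, 4, 6, 5, 4, 3, 2, 7, 1, 9, 5, 3, 7, 4, 5, 2, 3, 4, 2, 8, 5, 6, 7, 3, 5, 4, 7, 3, 6, 1, 2, 9, 3, 5, 8, 7, 3, 7, 4, 8, 1, 3, 2, 1, 6, 5, 6, 3, 4, 7, 4, 8, 5, 3, 6, 5, 7, 6, 4, 3, 5, 8, 4, 7, 5, 6, 2, 3, 1, 4, 7, 3, 2, 1, 3, 7, 4, 3, 2, 4, 8, 7, 3, 4, 7, 8, 6]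

/-- part of a word -/
def zero23w1p1 : List ℕ := [5, 9, 6, 4, 3, 7, 4, 6, 8, 5, 2, 3, 1, 2, 4, 6, 5, 4, 3, 2, 7, 1, 9, 5, 3, 7, 4, 5, 2, 3, 4, 2, 8, 5, 6, 7, 3, 5, 4, 7, 3, 6, 1, 2, 9, 3, 5, 8, 7, 3, 7, 4, 8, 1, 3, 2, 1, 6, 5, 6, 3, 4, 7, 4, 8, 5, 3, 6, 5, 7, 6, 4, 3, 5, 8, 4, 7, 5, 6, 5, 9, 6, 2, 3, 1, 5, 4, 7, 6, 3, 2, 1, 3, 7, 4, 3, 2, 6, 2, 3, 1, 5, 4, 7, 6, 3, 2, 1, 3, 7, 4, 3, 2, 9, 5, 6, 7, 3, 4, 5, 3, 7, 2, 3, 1, 4, 7, 3, 2, 1, 3, 7, 4, 3, 2, 7, 3, 5, 4, 3, 7, 6, 5, 9, 6, 4, 3, 7, 4, 6, 8, 5, 2, 3, 1, 2, 4, 6, 5, 4, 3, 2, 7, 1, 9, 5, 3, 7, 4, 5, 2, 3, 4, 2, 8, 5, 6, 7, 3, 5, 4, 7, 3, 6, 1, 2, 9, 3, 5, 8, 7, 3, 7,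 4, 8, 1, 3, 2, 1, 6, 5, 6, 3, 4, 7, 4, 8, 5, 3, 6, 5, 7, 6, 4, 3, 5, 8, 4, 7, 5, 6, 5, 9, 6, 4, 3, 7, 4, 6, 8, 5, 2, 3, 1, 2, 4, 6, 5, 4, 3, 2, 7, 1, 9, 5, 3, 7, 4, 5, 2]

/-- part of a word -/
def zero23w1p2 : List ℕ := [3, 4, 2, 8, 5, 6, 7, 3, 5, 4, 7, 3, 6, 1, 2, 9, 3, 5, 8, 7, 3, 7, 4, 8, 1, 3, 2, 1, 6, 5, 6, 3, 4, 7, 4, 8, 5, 3, 6, 5, 7, 6, 4, 3, 5, 8, 4, 7, 5, 7, 3, 4, 5, 3, 7, 2, 3, 1, 4, 7, 3, 2, 1, 3, 7, 4, 3, 2, 7, 3, 5, 4, 3, 7, 6, 5, 9, 6, 4, 3, 7, 4, 6, 8, 5, 2, 3, 1, 2, 4, 6, 5, 4, 3, 2, 7, 1, 9, 5, 3, 7, 4, 5, 2, 3, 4, 2, 8, 5, 6, 7, 3, 5, 4, 7, 3, 6, 1, 2, 9, 3, 5, 8, 7, 3, 7, 4, 8, 1, 3, 2, 1, 6, 5, 6, 3,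 4, 7, 4, 8, 5, 3, 6, 5, 7, 6, 4, 3, 5, 8, 4, 7, 5, 3, 5]

/-- part of a word -/
def zero23w2p0 : List ℕ := [8, 7, 3, 4, 2, 3, 7, 5, 4, 3, 2, 7, 6, 2, 3, 1, 4, 7, 3, 2, 1, 3, 7, 4, 3, 2, 4, 8, 7, 3, 4, 7, 3, 5, 6, 2, 3, 1, 4, 7, 3, 2, 1, 3, 7, 4, 3, 2, 4, 8, 7, 3, 4, 7, 6, 5, 9, 6, 4, 3, 7, 4, 6, 8, 5, 2, 3, 1, 2, 4, 6, 5, 4, 3, 2, 7, 1, 9, 5, 3, 7, 4, 5, 2, 3, 4, 2, 8, 5, 6, 7, 3, 5, 4, 7, 3, 6, 1, 2, 9, 3, 5, 8, 7, 3, 7, 4, 8, 1, 3, 2, 1, 6, 5, 6, 3, 4, 7, 4, 8, 5, 3, 6, 5, 7, 6, 4, 3, 5, 8, 4, 7, 5, 7, 6, 2, 3, 1, 4, 7, 3, 2, 1, 3, 7, 4, 3, 2, 4, 8, 7, 3, 4, 7, 6, 2, 3, 1, 4, 7, 3, 2, 1, 3, 7, 4, 3, 2, 4, 8, 7, 3, 4, 7,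 6, 5, 9, 6, 4, 3, 7, 4, 6, 8, 5, 2, 3, 1, 2, 4, 6, 5, 4, 3, 2, 7, 1, 9, 5, 3, 7, 4, 5, 2, 3, 4, 2, 8, 5, 6, 7, 3, 5, 4, 7, 3, 6, 1, 2, 9, 3, 5, 8, 7, 3, 7, 4, 8, 1, 3, 2, 1, 6, 5, 6, 3, 4, 7, 4, 8, 5, 3, 6, 5, 7, 6, 4, 3, 5, 8]

/-- part of a word -/
def zero23w2p1 : List ℕ := [4, 7, 5, 6, 2, 3, 1, 4, 7, 3, 2, 1, 3, 7, 4, 3, 2, 4, 8, 7, 3, 4, 7, 6, 2, 3, 1, 4, 7, 3, 2, 1, 3, 7, 4, 3, 2, 4, 8, 7, 3, 4, 7, 6, 5, 9, 6, 2, 3, 1, 5, 4, 7, 6, 3, 2, 1, 3, 7, 4, 3, 2, 6, 2, 3, 1, 5, 4, 7, 6, 3, 2, 1, 3, 7, 4, 3, 2, 6, 4, 3, 7, 4, 6, 8, 5, 2, 3, 1, 2, 4, 6, 5, 4, 3, 2, 7, 1, 9, 5, 3, 7, 4, 5, 2, 3, 4, 2, 8, 5, 6, 7, 3, 5, 4, 7, 3,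 6, 1, 2, 9, 3, 5, 8, 7, 3, 7, 4, 8, 1, 3, 2, 1, 6, 5, 6, 3, 4, 7, 4, 8, 5, 3, 6, 5, 7, 6, 4, 3, 5, 8, 4, 7, 5, 6, 5, 9, 6, 2, 3, 1, 5, 4, 7, 6, 3, 2, 1, 3, 7, 4, 3, 2, 6, 4, 3, 7, 4, 6, 8, 5, 2, 3, 1, 2, 4, 6, 5, 4, 3, 2, 7, 1, 9, 5, 3, 7, 4, 5, 2, 3, 4, 2, 8, 5, 6, 7, 3, 5, 4, 7, 3, 6, 1, 2, 9, 3, 5, 8, 7, 3, 7, 4, 8, 1, 3, 2, 1, 6, 5, 6, 3, 4, 7, 4, 8, 5, 3, 6, 5, 7, 6, 4, 3, 5, 8, 4, 7, 5, 6]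

/-- part of a word -/
def zero23w2p2 : List ℕ := [5, 9, 6, 2, 3, 1, 5, 4, 7, 6, 3, 2, 1, 3, 7, 4, 3, 2, 6, 4, 3, 7, 4, 6, 8, 5, 2, 3, 1, 2, 4, 6, 5, 4, 3, 2, 7, 1, 9, 5, 3, 7, 4, 5, 2, 3, 4, 2, 8, 5, 6, 7, 3, 5, 4, 7, 3, 6, 1, 2, 9, 3, 5, 8, 7, 3, 7, 4, 8, 1, 3, 2, 1, 6, 5, 6, 3, 4, 7, 4, 8, 5, 3, 6, 5, 7, 6, 4, 3, 5, 8, 4, 7, 6, 5, 9, 6, 4, 3, 7, 4, 6, 8, 5, 2, 3, 1, 2, 4, 6, 5, 4, 3, 2, 7, 1, 9, 5, 3, 7, 4, 5, 2, 3, 4, 2, 8, 5, 6, 7, 3, 5, 4, 7, 3, 6, 1, 2, 9, 3, 5, 8, 7, 3, 7, 4, 8, 1, 3, 2, 1, 6, 5, 6, 3, 4, 2, 3, 1, 2, 3, 4, 8, 7, 8, 3, 6, 5, 4, 9, 7, 3, 2, 8, 7, 8, 5, 4, 1, 3, 2, 7, 3, 4, 5, 3, 7, 2, 3, 1, 4, 7, 3,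 2, 1, 3, 7, 4, 3, 2, 7, 3, 5, 4, 3, 7, 6, 5, 9, 6, 4, 3, 7, 4, 6, 8, 5, 2, 3, 1, 2, 4, 6, 5, 4, 3, 2, 7, 1, 9, 5, 3, 7, 4, 5, 2, 3, 4, 2, 8, 5, 6, 7, 3, 5, 4, 7, 3, 6, 1]

/-- part of a word -/
def zero23w2p3 : List ℕ := [2, 9, 3, 5, 8, 7, 3, 7, 4, 8, 1, 3, 2, 1, 6, 5, 6, 3, 4, 7, 4, 8, 5, 3, 6, 5, 7, 6, 4, 3, 5, 8, 4, 7, 5, 6, 5, 9, 6, 4, 3, 7, 4, 6, 8, 5, 2, 3, 1, 2, 4, 6, 5, 4, 3, 2, 7, 1, 9, 5, 3, 7, 4, 5, 2, 3, 4, 2, 8, 5, 6, 7, 3, 5, 4, 7, 3, 6, 1, 2, 9, 3, 5, 8, 7, 3, 7, 4, 8, 1, 3, 2, 1, 6, 5, 6, 3, 4, 7, 4, 8, 5, 3, 6, 5, 7, 6, 4, 3, 5, 8, 4, 7, 5, 6, 5, 9, 6, 4, 3, 7, 4, 6, 8, 5, 2, 3, 1, 2, 4, 6, 5, 4, 3, 2, 7,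 1, 9, 5, 3, 7, 4, 5, 2, 3, 4, 2, 8, 5, 6, 7, 3, 5, 4, 7, 3, 6, 1, 2, 9, 3, 5, 8, 7, 3, 7, 4, 8, 1, 3, 2, 1, 6, 5, 6, 3, 4, 2, 3, 1, 2, 3, 4, 8, 7, 8, 3, 6, 5, 4, 9, 7, 3, 2, 8, 7, 8, 5, 4, 1, 3, 2, 9, 1]

/-- part of a word -/
def zero23finp0 : List ℕ := [3, 7, 8, 4, 3, 7, 5, 4, 3, 1, 2, 6, 5, 9, 6, 2, 3, 1, 5, 4, 7, 6, 3, 2, 1, 3, 7, 4, 3, 2, 6, 4, 3, 7, 4, 6, 8, 5, 2, 3, 1, 2, 4, 6, 5, 4, 3, 2, 7, 1, 9, 5, 3, 7, 4, 5, 2, 3, 4, 2, 8, 5, 6, 7, 3, 5, 4, 7, 3, 6, 1, 2, 9, 3, 5, 8, 7, 3, 7, 4, 8, 1, 3, 2, 1, 6, 5, 6, 3, 4, 7, 4, 8, 5, 3, 6, 5, 7, 6, 4, 3, 5, 8, 4, 7, 5, 6, 5, 9, 6, 4, 3, 7, 4, 6, 8, 5, 2, 3, 1, 2, 4, 6, 5, 4,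 3, 2, 7, 1, 9, 5, 3, 7, 4, 5, 2, 3, 4, 2, 8, 5, 6, 7, 3, 5, 4, 7, 3, 6, 1, 2, 9, 3, 5, 8, 7, 3, 7, 4, 8, 1, 3, 2, 1, 6, 5, 6, 3, 4, 7, 4, 8, 5, 3, 6, 5, 7, 6, 4, 3, 5, 8, 4, 7, 5, 7, 5, 6, 5, 9, 6, 4, 3, 7, 4, 6, 8, 5, 2, 3, 1, 2, 4, 6, 5, 4, 3, 2, 7, 1, 9, 5, 3, 7, 4, 5, 2, 3, 4, 2, 8, 5, 6, 7, 3, 5, 4, 7, 3, 6, 1, 2, 9, 3, 5, 8, 7, 3, 7, 4, 8, 1, 3, 2, 1, 6, 5, 6, 3, 4]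

/-- part of a word -/
def zero23finp1 : List ℕ := [2, 3, 1, 2, 3, 4, 8, 7, 8, 3, 6, 5, 4, 9, 7, 3, 2, 8, 7, 8, 5, 4, 1, 3, 2, 6, 5, 9, 6, 4, 3, 7, 4, 6, 8, 5, 2, 3, 1, 2, 4, 6, 5, 4, 3, 2, 7, 1, 9, 5, 3, 7, 4, 5, 2, 3, 4, 2, 8, 5, 6, 7, 3, 5, 4, 7, 3, 6, 1, 2, 9, 3, 5, 8, 7, 3, 7, 4, 8, 1, 3, 2, 1, 6, 5, 6, 3, 4, 7, 4, 8, 5, 3, 6, 5, 7, 6, 4, 3, 5, 8, 4, 7, 5, 6, 5, 9, 6, 2, 3, 1, 5, 4, 7, 6, 3, 2, 1, 3, 7, 4, 3, 2, 9, 5, 6, 7, 3, 4, 5, 3, 7, 2, 3, 1, 4, 7, 3, 2, 1, 3, 7, 4, 3, 2, 7, 3, 5, 4, 3, 7, 5, 6, 5, 9, 6, 4, 3, 7, 4, 6, 8, 5, 2, 3, 1, 2, 4, 6, 5, 4, 3, 2, 7, 1, 9, 5, 3, 7, 4, 5, 2, 3, 4, 2, 8, 5, 6, 7, 3, 5, 4, 7,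 3, 6, 1, 2, 9, 3, 5, 8, 7, 3, 7, 4, 8, 1, 3, 2, 1, 6, 5, 6, 3, 4, 2, 3, 1, 2, 3, 4, 8, 7, 8, 3, 6, 5, 4, 9, 7, 3, 2, 8, 7, 8, 5, 4, 1, 3, 2, 7, 3, 4, 5, 3, 7, 2, 3, 1, 4]

/-- part of a word -/
def zero23finp2 : List ℕ := [7, 3, 2, 1, 3, 7, 4, 3, 2, 7, 3, 5, 4, 3, 7, 6, 5, 9, 6, 4, 3, 7, 4, 6, 8, 5, 2, 3, 1, 2, 4, 6, 5, 4, 3, 2, 7, 1, 9, 5, 3, 7, 4, 5, 2, 3, 4, 2, 8, 5, 6, 7, 3, 5, 4, 7, 3, 6, 1, 2, 9, 3, 5, 8, 7, 3, 7, 4, 8, 1, 3, 2, 1, 6, 5, 6, 3, 4, 7, 4, 8, 5, 3, 6, 5, 7, 6, 4, 3, 5, 8, 4, 7, 6, 5, 9, 6, 4, 3, 7, 4, 6, 8, 5, 2, 3, 1, 2, 4, 6, 5, 4, 3, 2, 7, 1, 9, 5, 3, 7, 4, 5, 2, 3, 4, 2, 8, 5, 6, 7, 3, 5, 4, 7, 3, 6,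 1, 2, 9, 3, 5, 8, 7, 3, 7, 4, 8, 1, 3, 2, 1, 6, 5, 6, 3, 4, 2, 3, 1, 2, 3, 4, 8, 7, 8, 3, 6, 5, 4, 9, 7, 3, 2, 8, 7, 8, 5, 4, 1, 3, 2, 6, 5, 9, 6, 4, 3, 7, 4, 6, 8, 5, 2, 3, 1, 2, 4, 6, 5, 4, 3, 2, 7, 1, 9, 5, 3, 7, 4, 5, 2, 3, 4, 2, 8, 5, 6, 7, 3, 5, 4, 7, 3, 6, 1, 2, 9, 3, 5, 8, 7, 3, 7, 4, 8, 1, 3, 2, 1, 6, 5, 6, 3, 4, 7, 4, 8, 5, 3, 6]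

/-- part of a word -/
def zero23finp3 : List ℕ := [5, 7, 6, 4, 3, 5, 8, 4, 7, 6, 5, 9, 6, 4, 3, 7, 4, 6, 8, 5, 2, 3, 1, 2, 4, 6, 5, 4, 3, 2, 7, 1, 9, 5, 3, 7, 4, 5, 2, 3, 4, 2, 8, 5, 6, 7, 3, 5, 4, 7, 3, 6, 1, 2, 9, 3, 5, 8, 7, 3, 7, 4, 8, 1, 3, 2, 1, 6, 5, 6, 3, 4, 2, 3, 1, 2, 3, 4, 8, 7, 8, 3, 6, 5, 4, 9, 7, 3, 2, 8, 7, 8, 5, 4, 1, 3, 2, 9]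

/-- a loop -/
def zeroLoop23 : LoopWit := ⟨[⟨7, [2, 9], 0, [3, 4, 5, 6, 7, 3, 2, 4, 3, 5, 4, 7, 3, 2, 1]⟩,
  ⟨7, [zero23w1p0, zero23w1p1, zero23w1p2].flatten, 0, [3, 2, 4, 3, 5, 4, 6, 5, 4, 3, 2, 1]⟩,
  ⟨3, [zero23w2p0, zero23w2p1, zero23w2p2, zero23w2p3].flatten, 0, [1, 2, 3, 4, 5, 6, 7, 3, 4, 5, 8, 7, 3, 2, 1, 4, 3, 2, 7, 3, 4, 8, 7, 3, 2]⟩], [zero23finp0, zero23finp1, zero23finp2, zero23finp3].flatten, 0⟩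

/-- part of a word -/
def zero24w2p0 : List ℕ := [3, 7, 2, 3, 1, 2, 7, 3, 4, 5, 3, 7, 2, 3, 1, 4, 7, 3, 2, 1, 3, 7, 4, 3, 2, 7, 3, 5, 4, 5, 6, 2, 3, 1, 4, 7, 3, 2, 1, 3, 7, 4, 3, 2, 4, 8, 7, 3, 4, 7, 3, 4, 5, 3, 7, 2, 3, 1, 4, 7, 3, 2, 1, 3, 7, 4, 3, 2, 7, 3, 5, 4, 3, 7, 6, 2, 3, 1, 4, 7, 3, 2, 1, 3, 7, 4, 3, 2, 4, 8, 7, 3, 4, 7, 6, 2, 3, 1, 4, 7, 3, 2, 1, 3, 7, 4, 3, 2, 4, 8, 7, 3, 4, 7, 6, 5, 9, 6, 4, 3, 7, 4, 6, 8, 5, 2, 3, 1, 2, 4, 6, 5, 4, 3, 2, 7, 1, 9, 5, 3, 7, 4, 5, 2, 3, 4, 2, 8, 5, 6, 7, 3, 5, 4, 7, 3, 6, 1, 2, 9, 3, 5, 8, 7, 3, 7, 4, 8, 1, 3, 2, 1, 6, 5, 6, 3, 4, 7, 4, 8, 5, 3, 6, 5, 7, 6, 4, 3, 5, 8, 4, 7, 5,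 6, 5, 9, 6, 4, 3, 7, 4, 6, 8, 5, 2, 3, 1, 2, 4, 6, 5, 4, 3, 2, 7, 1, 9, 5, 3, 7, 4, 5, 2, 3, 4, 2, 8, 5, 6, 7, 3, 5, 4, 7, 3, 6, 1, 2, 9, 3, 5, 8, 7, 3, 7, 4, 8, 1, 3, 2]

/-- part of a word -/
def zero24w2p1 : List ℕ := [1, 6, 5, 6, 3, 4, 7, 4, 8, 5, 3, 6, 5, 7, 6, 4, 3, 5, 8, 4, 7, 5, 6, 5, 9, 6, 2, 3, 1, 5, 4, 7, 6, 3, 2, 1, 3, 7, 4, 3, 2, 6, 2, 3, 1, 5, 4, 7, 6, 3, 2, 1, 3, 7, 4, 3, 2, 6, 4, 3, 7, 4, 6, 8, 5, 2, 3, 1, 2, 4, 6, 5, 4, 3, 2, 7, 1, 9, 5, 3, 7, 4, 5, 2, 3, 4, 2, 8, 5, 6, 7, 3, 5, 4, 7, 3, 6, 1, 2, 9, 3, 5, 8, 7, 3, 7, 4, 8, 1, 3, 2, 1, 6, 5, 6, 3, 4, 7, 4, 8, 5, 3, 6, 5, 7, 6, 4, 3, 5, 8, 4, 7, 6, 5, 9, 6,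 4, 3, 7, 4, 6, 8, 5, 2, 3, 1, 2, 4, 6, 5, 4, 3, 2, 7, 1, 9, 5, 3, 7, 4, 5, 2, 3, 4, 2, 8, 5, 6, 7, 3, 5, 4, 7, 3, 6, 1, 2, 9, 3, 5, 8, 7, 3, 7, 4, 8, 1, 3, 2, 1, 6, 5, 6, 3, 4, 2, 3, 1, 2, 3, 4, 8, 7, 8, 3, 6, 5, 4, 9, 7, 3, 2, 8, 7, 8, 5, 4, 1, 3, 2, 7, 3, 4, 5, 3, 7, 2, 3, 1, 4, 7, 3, 2, 1, 3, 7, 4, 3, 2, 7, 3, 5, 4, 3, 7, 6, 5, 9, 6, 4]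

/-- part of a word -/
def zero24w2p2 : List ℕ := [3, 7, 4, 6, 8, 5, 2, 3, 1, 2, 4, 6, 5, 4, 3, 2, 7, 1, 9, 5, 3, 7, 4, 5, 2, 3, 4, 2, 8, 5, 6, 7, 3, 5, 4, 7, 3, 6, 1, 2, 9, 3, 5, 8, 7, 3, 7, 4, 8, 1, 3, 2, 1, 6, 5, 6, 3, 4, 7, 4, 8, 5, 3, 6, 5, 7, 6, 4, 3, 5, 8, 4, 7, 5, 6, 5, 9, 6, 4, 3, 7, 4, 6, 8, 5, 2, 3, 1, 2, 4, 6, 5, 4, 3, 2, 7, 1, 9, 5, 3, 7, 4, 5, 2, 3, 4, 2, 8, 5, 6, 7, 3, 5, 4, 7, 3, 6, 1, 2, 9, 3, 5, 8, 7, 3, 7, 4, 8, 1, 3, 2, 1, 6, 5, 6, 3, 4, 7, 4, 8, 5, 3, 6, 5, 7, 6, 4, 3, 5, 8, 4, 7, 6, 5, 9, 6, 4, 3, 7, 4, 6, 8, 5, 2, 3, 1, 2, 4, 6, 5, 4, 3, 2, 7, 1, 9, 5, 3, 7, 4, 5, 2, 3, 4, 2, 8, 5, 6, 7, 3, 5, 4, 7,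 3, 6, 1, 2, 9, 3, 5, 8, 7, 3, 7, 4, 8, 1, 3, 2, 1, 6, 5, 6, 3, 4, 2, 3, 1, 2, 3, 4, 8, 7, 8, 3, 6, 5, 4, 9, 7, 3, 2, 8, 7, 8, 5, 4, 1, 3, 2, 6, 5, 9, 6, 4, 3, 7, 4, 6, 8]

/-- part of a word -/
def zero24w2p3 : List ℕ := [5, 2, 3, 1, 2, 4, 6, 5, 4, 3, 2, 7, 1, 9, 5, 3, 7, 4, 5, 2, 3, 4, 2, 8, 5, 6, 7, 3, 5, 4, 7, 3, 6, 1, 2, 9, 3, 5, 8, 7, 3, 7, 4, 8, 1, 3, 2, 1, 6, 5, 6, 3, 4, 7, 4, 8, 5, 3, 6, 5, 7, 6, 4, 3, 5, 8, 4, 7, 6, 5, 9, 6, 4, 3, 7, 4, 6, 8, 5, 2, 3, 1, 2, 4, 6, 5, 4, 3, 2, 7, 1, 9, 5, 3, 7, 4, 5, 2, 3, 4, 2, 8, 5, 6, 7, 3, 5, 4, 7, 3, 6, 1, 2, 9, 3, 5, 8, 7, 3, 7, 4, 8, 1, 3, 2, 1, 6, 5, 6, 3, 4, 2, 3, 1, 2, 3,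 4, 8, 7, 8, 3, 6, 5, 4, 9, 7, 3, 2, 8, 7, 8, 5, 4, 1, 3, 2, 9, 1]

/-- a loop -/
def zeroLoop24 : LoopWit := ⟨[⟨8, [], 0, []⟩,
  ⟨5, [], 0, [1, 2, 3, 4, 5, 6, 7, 3, 2, 1, 4, 3, 5, 8, 7, 3, 2, 1, 4, 3, 2, 5, 4, 7, 3, 8, 7, 9, 6, 5, 4, 3, 2, 1]⟩,
  ⟨4, [zero24w2p0, zero24w2p1, zero24w2p2, zero24w2p3].flatten, 1, [1, 2, 3, 4, 5, 6, 7, 3, 2, 1, 4, 3, 5, 8, 7, 3, 2, 1, 4, 3, 2, 5, 4, 7, 3, 8, 7, 9, 6, 5, 4, 3, 2, 1]⟩], [], 0⟩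

/-- a loop -/
def zeroLoop25 : LoopWit := ⟨[⟨8, [1, 2, 3, 4, 5, 6, 7, 3, 2, 1, 4, 3, 5, 8, 7, 3, 2, 1, 4, 3, 2, 5, 4, 7, 3, 8, 7, 9, 6, 5, 4, 3, 2, 1, 0, 7, 3, 4, 5, 6, 9, 2, 3, 7, 4, 5, 3, 4, 2, 3, 7, 6, 5, 4, 7, 4, 5, 6, 5, 3, 1, 0, 1, 2, 3, 4, 5, 6, 9, 7, 8, 3, 7, 4, 5, 2, 3, 4, 1, 2, 3, 7, 8, 5, 3, 4, 1, 2, 3, 7, 6, 5, 4, 3, 2, 1], 0, [1, 3, 5, 6, 5, 4, 7, 3, 2, 1]⟩,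
  ⟨8, [1, 2, 3, 4, 5, 6, 7, 3, 2, 1, 4, 3, 5, 8, 7, 3, 2, 1, 4, 3, 2, 5, 4, 7, 3, 8, 7, 9, 6, 5, 4, 3, 2, 1, 0, 1, 3, 5, 6, 5, 4, 7, 3, 2, 1, 0, 1, 2, 3, 7, 4, 5, 6, 5, 3, 1, 0, 1, 2, 3, 4, 5, 6, 9, 7, 8, 3, 7, 4, 5, 2, 3, 4, 1, 2, 3, 7, 8, 5, 3, 4, 1, 2, 3, 7, 6, 5, 4, 3, 2, 1], 0, [1, 3, 5, 6, 5, 4, 7, 3, 2, 1]⟩,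
  ⟨8, [1, 2, 3, 4, 5, 6, 7, 3, 2, 1, 4, 3, 5, 8, 7, 3, 2, 1, 4, 3, 2, 5, 4, 7, 3, 8, 7, 9, 6, 5, 4, 3, 2, 1, 0, 1, 3, 5, 6, 5, 4, 7, 3, 2, 1, 0, 1, 2, 3, 7, 4, 5, 6, 5, 3, 1, 0, 1, 2, 3, 4, 5, 6, 9, 7, 8, 3, 7, 4, 5, 2, 3, 4, 1, 2, 3, 7, 8, 5, 3, 4, 1, 2, 3, 7, 6, 5, 4, 3, 2, 1], 0, [1, 3, 5, 6, 5, 4, 7, 3, 2, 1]⟩], [1, 2, 3, 4, 5, 6, 7, 3, 2, 1, 4, 3, 5, 8, 7, 3, 2, 1, 4, 3, 2, 5, 4, 7, 3, 8, 7, 9, 6, 5, 4, 3, 2, 1, 0, 1, 3, 5, 6, 5, 4, 7, 3, 2, 1, 0, 1, 2, 3, 4, 5, 6, 7, 3, 2, 4, 3, 5, 4, 7, 3, 2, 9, 6, 5, 4, 3, 7, 0, 1, 2, 3, 4, 5, 6, 9, 7, 8, 3, 7, 4, 5, 2, 3, 4, 1, 2, 3, 7, 8, 5, 3, 4, 1, 2, 3, 7, 6, 5, 4, 3, 2, 1],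 0⟩

/-- the loops for the braid of `k` and `a` -/
def zeroLoops : List LoopWit := [zeroLoop0, zeroLoop1, zeroLoop2, zeroLoop3, zeroLoop4, zeroLoop5, zeroLoop6, zeroLoop7, zeroLoop8, zeroLoop9, zeroLoop10, zeroLoop11, zeroLoop12, zeroLoop13, zeroLoop14, zeroLoop15, zeroLoop16, zeroLoop17, zeroLoop18, zeroLoop19, zeroLoop20, zeroLoop21, zeroLoop22, zeroLoop23, zeroLoop24, zeroLoop25]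

/-- the starting points of the loops for the braid of `k` and `a` -/
def zeroStarts : List (ℕ × List ℕ) := [(0, []),
  (1, []),
  (2, []),
  (3, []),
  (3, [1, 2, 3, 4, 5, 6, 7, 3, 2, 4, 3, 5, 4, 7, 3, 2, 9, 6, 5, 4, 3, 7]),
  (3, [1, 2, 3, 4, 5, 6, 7, 3, 2, 1, 4, 3, 5, 4, 7, 3, 9, 6, 5, 4]),
  (3, [1, 2, 3, 4, 5, 6, 7, 3, 2, 4, 3, 5, 4, 7, 3, 2, 8, 7, 3, 2, 1, 9, 6, 5]),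
  (3, [1, 2, 3, 4, 5, 6, 7, 3, 2, 1, 4, 3, 5, 4, 7, 8, 7, 3, 2, 1, 4, 3, 2, 5, 4, 7, 3, 8, 7, 9, 6, 5, 4, 3, 2, 1, 7]),
  (4, []),
  (4, [1, 2, 3, 4, 5, 6, 7, 3, 2, 4, 3, 5, 4, 7, 3, 2, 9, 6, 5, 4, 3, 7]),
  (4, [1, 2, 3, 4, 5, 6, 7, 3, 2, 1, 4, 3, 5, 4, 7, 3, 9, 6, 5, 4]),
  (4, [1, 2, 3, 4, 5, 6, 7, 3, 2, 4, 3, 5, 4, 7, 3, 2, 8, 7, 3, 2, 1, 9, 6, 5]),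
  (4, [1, 2, 3, 4, 5, 6, 7, 3, 2, 1, 4, 3, 5, 4, 7, 8, 7, 3, 2, 1, 4, 3, 2, 5, 4, 7, 3, 8, 7, 9, 6, 5, 4, 3, 2, 1, 7]),
  (5, []),
  (5, [1, 2, 3, 4, 5, 6, 7, 3, 2, 4, 3, 5, 4, 7, 3, 2, 9, 6, 5, 4, 3, 7]),
  (5, [1, 2, 3, 4, 5, 6, 7, 3, 2, 1, 4, 3, 5, 4, 7, 3, 9, 6, 5, 4]),
  (5, [1, 2, 3, 4, 5, 6, 7, 3, 2, 4, 3, 5, 4, 7, 3, 2, 8, 7, 3, 2, 1, 9, 6, 5]),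
  (5, [1, 2, 3, 4, 5, 6, 7, 3, 2, 1, 4, 3, 5, 4, 7, 8, 7, 3, 2, 1, 4, 3, 2, 5, 4, 7, 3, 8, 7, 9, 6, 5, 4, 3, 2, 1, 7]),
  (6, []),
  (6, [1, 2, 3, 4, 5, 6, 7, 3, 2, 4, 3, 5, 4, 7, 3, 2, 9, 6, 5, 4, 3, 7]),
  (7, []),
  (7, [1, 2, 3, 4, 5, 6, 7, 3, 2, 4, 3, 5, 4, 7, 3, 2, 9, 6, 5, 4, 3, 7]),
  (7, [1, 2, 3, 4, 5, 6, 7, 3, 2, 4, 3, 5, 4, 7, 3, 2, 9, 6, 5, 4]),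
  (7, [1, 2, 3, 4, 5, 6, 7, 3, 2, 4, 3, 5, 4, 7, 3, 2, 9]),
  (8, []),
  (8, [1, 2, 3, 4, 5, 6, 7, 3, 2, 4, 3, 5, 4, 7, 3, 2, 9, 6, 5, 4, 3, 7])]

end CfsgLib.Fi24Act
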