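import Cfsg.Agent.Lib.Fi24Pres.Coset

/-!
Conjugates of the even generators by the stabiliser element, as words in the letters commuting with `k`.
-/

set_option autoImplicit false
set_option linter.style.longLine false

namespace CfsgLib.Fi24Act

/-- part of a word -/
def tauConj0p0 : List ℕ := []

/-- part of a word -/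
def tauConj1p0 : List ℕ := [4, 3, 7, 8, 5, 4, 3, 7, 6, 5, 4, 3, 1, 2, 6, 5, 9, 6, 4, 3, 7, 4, 6, 8, 5, 2, 3, 1, 2, 4, 6, 5, 4, 3, 2, 7, 1, 9, 5, 3, 7, 4, 5, 2, 3, 4, 2, 8, 5, 6, 7, 3, 5, 4, 7, 3, 6, 1, 2, 9, 3, 5, 8, 7, 3, 7, 4, 8, 1, 3, 2, 1, 6, 5, 6, 3, 4, 7, 4, 8, 5, 3, 6, 5, 7, 6, 4, 3, 5, 8, 4, 7, 5, 7, 6, 2, 3, 1, 4, 7, 3, 2, 1, 3, 7, 4, 3, 2, 4, 8, 7, 3, 4, 7, 6, 5, 9, 6, 4, 3, 7, 4, 6, 8, 5, 2, 3, 1, 2, 4, 6, 5, 4, 3, 2, 7, 1, 9, 5, 3, 7, 4, 5, 2, 3, 4, 2, 8, 5, 6, 7, 3, 5, 4, 7, 3, 6, 1, 2, 9, 3, 5, 8, 7, 3, 7, 4, 8, 1, 3, 2, 1, 6, 5, 6, 3, 4, 7, 4, 8, 5, 3, 6, 5, 7, 6, 4, 3, 5, 8, 4, 7, 5, 6, 2, 3, 1, 4, 7, 3, 2, 1,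 3, 7, 4, 3, 2, 4, 8, 7, 3, 4, 5, 6, 5, 9, 6, 4, 3, 7, 4, 6, 8, 5, 2, 3, 1, 2, 4, 6, 5, 4, 3, 2, 7, 1, 9, 5, 3, 7, 4, 5, 2, 3, 4, 2, 8, 5, 6, 7]

/-- part of a word -/
def tauConj1p1 : List ℕ := [3, 5, 4, 7, 3, 6, 1, 2, 9, 3, 5, 8, 7, 3, 7, 4, 8, 1, 3, 2, 1, 6, 5, 6, 3, 4, 2, 3, 1, 2, 3, 4, 8, 7, 8, 3, 6, 5, 4, 9, 7, 3, 2, 8, 7, 8, 5, 4, 1, 3, 2, 7, 3, 4, 5, 3, 7, 2, 3, 1, 4, 7, 3, 2, 1, 3, 7, 4, 3, 2, 7, 3, 5, 4, 3, 7, 6, 5, 9, 6, 2, 3, 1, 5, 4, 7, 6, 3, 2, 1, 3, 7, 4, 3, 2, 9, 5, 2, 3, 1, 4, 7, 3, 2, 1, 3, 7, 4, 3, 2, 4, 8, 7, 3, 4, 7, 6, 2, 3, 1, 4, 7, 3, 2, 1, 3, 7, 4, 3, 2, 4, 8, 7, 3, 4, 7, 6, 5, 9, 6, 2, 3, 1, 5, 4, 7,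 6, 3, 2, 1, 3, 7, 4, 3, 2, 6, 2, 3, 1, 5, 4, 7, 6, 3, 2, 1, 3, 7, 4, 3, 2, 6, 4, 3, 7, 4, 6, 8, 5, 2, 3, 1, 2, 4, 6, 5, 4, 3, 2, 7, 1, 9, 5, 3, 7, 4, 5, 2, 3, 4, 2, 8, 5, 6, 7, 3, 5, 4, 7, 3, 6, 1, 2, 9, 3, 5, 8, 7, 3, 7, 4, 8, 1, 3, 2, 1, 6, 5, 6, 3, 4, 7, 4, 8, 5, 3, 6, 5, 7, 6, 4, 3, 5, 8, 4, 7, 5, 6, 5, 9]

/-- part of a word -/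
def tauConj1p2 : List ℕ := [6, 2, 3, 1, 5, 4, 7, 6, 3, 2, 1, 3, 7, 4, 3, 2, 6, 4, 3, 7, 4, 6, 8, 5, 2, 3, 1, 2, 4, 6, 5, 4, 3, 2, 7, 1, 9, 5, 3, 7, 4, 5, 2, 3, 4, 2, 8, 5, 6, 7, 3, 5, 4, 7, 3, 6, 1, 2, 9, 3, 5, 8, 7, 3, 7, 4, 8, 1, 3, 2, 1, 6, 5, 6, 3, 4, 7, 4, 8, 5, 3, 6, 5, 7, 6, 4, 3, 5, 8, 4, 7, 5, 6, 5, 9, 6, 2, 3, 1, 5, 4, 7, 6, 3, 2, 1, 3, 7, 4, 3, 2, 9, 5, 6, 5, 6, 5, 9, 6, 4, 3, 7, 4, 6, 8, 5, 2, 3, 1, 2, 4, 6, 5, 4, 3, 2, 7, 1, 9, 5, 3, 7, 4, 5, 2, 3, 4, 2, 8, 5, 6, 7, 3, 5, 4, 7, 3, 6, 1, 2, 9, 3, 5, 8, 7, 3, 7, 4, 8, 1, 3, 2, 1, 6, 5, 6, 3, 4, 2, 3, 1, 2, 3, 4, 8, 7, 8, 3, 6, 5, 4, 9, 7, 3, 2, 8, 7, 8, 5, 4, 1, 3,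 2, 6, 5, 9, 6, 4, 3, 7, 4, 6, 8, 5, 2, 3, 1, 2, 4, 6, 5, 4, 3, 2, 7, 1, 9, 5, 3, 7, 4, 5, 2, 3, 4, 2, 8, 5, 6, 7, 3, 5, 4, 7, 3, 6, 1, 2, 9, 3]

/-- part of a word -/
def tauConj1p3 : List ℕ := [5, 8, 7, 3, 7, 4, 8, 1, 3, 2, 1, 6, 5, 6, 3, 4, 7, 4, 8, 5, 3, 6, 5, 7, 6, 4, 3, 5, 8, 4, 7, 6, 5, 9, 6, 4, 3, 7, 4, 6, 8, 5, 2, 3, 1, 2, 4, 6, 5, 4, 3, 2, 7, 1, 9, 5, 3, 7, 4, 5, 2, 3, 4, 2, 8, 5, 6, 7, 3, 5, 4, 7, 3, 6, 1, 2, 9, 3, 5, 8, 7, 3, 7, 4, 8, 1, 3, 2, 1, 6, 5, 6, 3, 4, 2, 3, 1, 2, 3, 4, 8, 7, 8, 3, 6, 5, 4, 9, 7, 3, 2, 8, 7, 8, 5, 4, 1, 3, 2, 7, 3, 4, 5, 3, 7, 2, 3, 1, 4, 7, 3, 2, 1, 3, 7, 4, 3, 2, 7, 3, 5, 4, 3, 7, 5, 6,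 5, 9, 6, 4, 3, 7, 4, 6, 8, 5, 2, 3, 1, 2, 4, 6, 5, 4, 3, 2, 7, 1, 9, 5, 3, 7, 4, 5, 2, 3, 4, 2, 8, 5, 6, 7, 3, 5, 4, 7, 3, 6, 1, 2, 9, 3, 5, 8, 7, 3, 7, 4, 8, 1, 3, 2, 1, 6, 5, 6, 3, 4, 2, 3, 1, 2, 3, 4, 8, 7, 8, 3, 6, 5, 4, 9, 7, 3, 2, 8, 7, 8, 5, 4, 1, 3, 2, 6, 5, 9, 6, 4, 3, 7, 4, 6, 8, 5, 2, 3, 1, 2, 4, 6]

/-- part of a word -/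
def tauConj1p4 : List ℕ := [5, 4, 3, 2, 7, 1, 9, 5, 3, 7, 4, 5, 2, 3, 4, 2, 8, 5, 6, 7, 3, 5, 4, 7, 3, 6, 1, 2, 9, 3, 5, 8, 7, 3, 7, 4, 8, 1, 3, 2, 1, 6, 5, 6, 3, 4, 7, 4, 8, 5, 3, 6, 5, 7, 6, 4, 3, 5, 8, 4, 7, 9, 1, 8]

/-- part of a word -/
def tauConj2p0 : List ℕ := [3, 4, 5, 6, 9, 5, 4, 3, 7, 8, 3, 7, 4, 5, 3, 4, 2, 3, 7, 6, 5, 4, 3, 2, 6, 5, 9, 6, 4, 3, 7, 4, 6, 8, 5, 2, 3, 1, 2, 4, 6, 5, 4, 3, 2, 7, 1, 9, 5, 3, 7, 4, 5, 2, 3, 4, 2, 8, 5, 6, 7, 3, 5, 4, 7, 3, 6, 1, 2, 9, 3, 5, 8, 7, 3, 7, 4, 8, 1, 3, 2, 1, 6, 5, 6, 3, 4, 7, 4, 8, 5, 3, 6, 5, 7, 6, 4, 3, 5, 8, 4, 7, 5, 6, 5, 9, 6, 2, 3, 1, 5, 4, 7, 6, 3, 2, 1, 3, 7, 4, 3,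 2, 9, 5, 2, 3, 1, 4, 7, 3, 2, 1, 3, 7, 4, 3, 2, 4, 8, 7, 3, 4, 7, 3, 5, 7, 8, 6, 5, 9, 6, 4, 3, 7, 4, 6, 8, 5, 2, 3, 1, 2, 4, 6, 5, 4, 3, 2, 7, 1, 9, 5, 3, 7, 4, 5, 2, 3, 4, 2, 8, 5, 6, 7, 3, 5, 4, 7, 3, 6, 1, 2, 9, 3, 5, 8, 7, 3, 7, 4, 8, 1, 3, 2, 1, 6, 5, 6, 3, 4, 7, 4, 8, 5, 3, 6, 5, 7, 6, 4, 3, 5, 8, 4, 7, 5, 6, 2, 3, 1, 4, 7, 3, 2, 1, 3, 7, 4, 3, 2, 4, 8, 7, 3, 4, 7, 6, 5, 9, 6]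

/-- part of a word -/
def tauConj2p1 : List ℕ := [2, 3, 1, 5, 4, 7, 6, 3, 2, 1, 3, 7, 4, 3, 2, 9, 5, 2, 3, 1, 4, 7, 3, 2, 1, 3, 7, 4, 3, 2, 4, 8, 7, 3, 4, 7, 6, 5, 9, 6, 2, 3, 1, 5, 4, 7, 6, 3, 2, 1, 3, 7, 4, 3, 2, 9, 5, 6, 8, 5, 6, 5, 9, 6, 4, 3, 7, 4, 6, 8, 5, 2, 3, 1, 2, 4, 6, 5, 4, 3, 2, 7, 1, 9, 5, 3, 7, 4, 5, 2, 3, 4, 2, 8, 5, 6, 7, 3, 5, 4, 7, 3, 6, 1, 2, 9, 3, 5, 8, 7, 3, 7, 4, 8, 1, 3, 2, 1, 6, 5, 6, 3, 4, 2, 3, 1, 2, 3, 4, 8, 7, 8, 3, 6, 5, 4, 9, 7, 3, 2, 8, 7, 8, 5, 4, 1, 3, 2, 6, 5, 9, 6, 2, 3, 1, 5, 4, 7, 6, 3, 2, 1, 3, 7, 4, 3, 2, 9, 5, 6, 5, 6, 5, 9, 6, 4, 3, 7, 4, 6, 8, 5, 2, 3, 1, 2, 4, 6, 5, 4, 3, 2, 7, 1,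 9, 5, 3, 7, 4, 5, 2, 3, 4, 2, 8, 5, 6, 7, 3, 5, 4, 7, 3, 6, 1, 2, 9, 3, 5, 8, 7, 3, 7, 4, 8, 1, 3, 2, 1, 6, 5, 6, 3, 4, 2, 3, 1, 2, 3, 4, 8, 7, 8, 3, 6, 5, 4, 9, 7, 3]

/-- part of a word -/
def tauConj2p2 : List ℕ := [2, 8, 7, 8, 5, 4, 1, 3, 2, 7, 3, 4, 5, 3, 7, 2, 3, 1, 4, 7, 3, 2, 1, 3, 7, 4, 3, 2, 7, 3, 5, 4, 3, 7, 5, 6, 5, 9, 6, 4, 3, 7, 4, 6, 8, 5, 2, 3, 1, 2, 4, 6, 5, 4, 3, 2, 7, 1, 9, 5, 3, 7, 4, 5, 2, 3, 4, 2, 8, 5, 6, 7, 3, 5, 4, 7, 3, 6, 1, 2, 9, 3, 5, 8, 7, 3, 7, 4, 8, 1, 3, 2, 1, 6, 5, 6, 3, 4, 2, 3, 1, 2, 3, 4, 8, 7, 8, 3, 6, 5, 4, 9, 7, 3, 2, 8, 7, 8, 5, 4, 1, 3, 2, 6, 5, 9, 6, 4, 3, 7, 4, 6, 8, 5, 2, 3, 1, 2,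 4, 6, 5, 4, 3, 2, 7, 1, 9, 5, 3, 7, 4, 5, 2, 3, 4, 2, 8, 5, 6, 7, 3, 5, 4, 7, 3, 6, 1, 2, 9, 3, 5, 8, 7, 3, 7, 4, 8, 1, 3, 2, 1, 6, 5, 6, 3, 4, 7, 4, 8, 5, 3, 6, 5, 7, 6, 4, 3, 5, 8, 4, 7, 5, 3, 5, 6, 5, 9, 6, 4, 3, 7, 4, 6, 8, 5, 2, 3, 1, 2, 4, 6, 5, 4, 3, 2, 7, 1, 9, 5, 3, 7, 4, 5, 2, 3, 4, 2, 8, 5, 6, 7, 3, 5, 4, 7, 3, 6, 1, 2, 9]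

/-- part of a word -/
def tauConj2p3 : List ℕ := [3, 5, 8, 7, 3, 7, 4, 8, 1, 3, 2, 1, 6, 5, 6, 3, 4, 2, 3, 1, 2, 3, 4, 8, 7, 8, 3, 6, 5, 4, 9, 7, 3, 2, 8, 7, 8, 5, 4, 1, 3, 2, 9, 8]

/-- part of a word -/
def tauConj3p0 : List ℕ := [2, 3, 1, 2, 6, 5, 9, 6, 4, 3, 7, 4, 6, 8, 5, 2, 3, 1, 2, 4, 6, 5, 4, 3, 2, 7, 1, 9, 5, 3, 7, 4, 5, 2, 3, 4, 2, 8, 5, 6, 7, 3, 5, 4, 7, 3, 6, 1, 2, 9, 3, 5, 8, 7, 3, 7, 4, 8, 1, 3, 2, 1, 6, 5, 6, 3, 4, 7, 4, 8, 5, 3, 6, 5, 7, 6, 4, 3, 5, 8, 4, 7, 5, 6, 5, 9, 6, 2, 3, 1, 5, 4, 7, 6, 3, 2, 1, 3, 7, 4, 3, 2, 6, 4, 3, 7, 4, 6, 8, 5, 2, 3, 1, 2, 4, 6, 5, 4, 3, 2, 7, 1, 9, 5, 3, 7, 4, 5, 2, 3, 4, 2, 8,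 5, 6, 7, 3, 5, 4, 7, 3, 6, 1, 2, 9, 3, 5, 8, 7, 3, 7, 4, 8, 1, 3, 2, 1, 6, 5, 6, 3, 4, 7, 4, 8, 5, 3, 6, 5, 7, 6, 4, 3, 5, 8, 4, 7, 5, 6, 2, 3, 1, 4, 7, 3, 2, 1, 3, 7, 4, 3, 2, 4, 8, 7, 3, 4, 7, 6, 2, 3, 1, 4, 7, 3, 2, 1, 3, 7, 4, 3, 2, 4, 8, 7, 3, 4, 7, 6, 5, 9, 6, 2, 3, 1, 5, 4, 7, 6, 3, 2, 1, 3, 7, 4, 3, 2, 9, 5, 6, 8, 7, 3, 4, 5, 3, 7, 2, 3, 1]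

/-- part of a word -/
def tauConj3p1 : List ℕ := [4, 7, 3, 2, 1, 3, 7, 4, 3, 2, 7, 3, 5, 4, 3, 7, 5, 9, 1, 8]

/-- part of a word -/
def tauConj4p0 : List ℕ := [3, 7, 2, 3, 1, 2, 6, 5, 9, 6, 2, 3, 1, 5, 4, 7, 6, 3, 2, 1, 3, 7, 4, 3, 2, 6, 2, 3, 1, 5, 4, 7, 6, 3, 2, 1, 3, 7, 4, 3, 2, 6, 4, 3, 7, 4, 6, 8, 5, 2, 3, 1, 2, 4, 6, 5, 4, 3, 2, 7, 1, 9, 5, 3, 7, 4, 5, 2, 3, 4, 2, 8, 5, 6, 7, 3, 5, 4, 7, 3, 6, 1, 2, 9, 3, 5, 8, 7, 3, 7, 4, 8, 1, 3, 2, 1, 6, 5, 6, 3, 4, 7, 4, 8, 5, 3, 6, 5, 7, 6, 4, 3, 5, 8, 4, 7, 5, 3, 5, 7, 5, 6, 5, 9, 6, 4, 3, 7, 4, 6, 8, 5, 2, 3, 1, 2, 4, 6, 5, 4, 3, 2, 7, 1, 9, 5, 3, 7, 4, 5, 2, 3, 4, 2, 8, 5, 6,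 7, 3, 5, 4, 7, 3, 6, 1, 2, 9, 3, 5, 8, 7, 3, 7, 4, 8, 1, 3, 2, 1, 6, 5, 6, 3, 4, 2, 3, 1, 2, 3, 4, 8, 7, 8, 3, 6, 5, 4, 9, 7, 3, 2, 8, 7, 8, 5, 4, 1, 3, 2, 6, 5, 9, 6, 2, 3, 1, 5, 4, 7, 6, 3, 2, 1, 3, 7, 4, 3, 2, 6, 2, 3, 1, 5, 4, 7, 6, 3, 2, 1, 3, 7, 4, 3, 2, 9, 5, 2, 3, 1, 4]

/-- part of a word -/
def tauConj4p1 : List ℕ := [7, 3, 2, 1, 3, 7, 4, 3, 2, 4, 8, 7, 3, 4, 7, 6, 2, 3, 1, 4, 7, 3, 2, 1, 3, 7, 4, 3, 2, 4, 8, 7, 3, 4, 3, 4, 5, 3, 7, 2, 3, 1, 4, 7, 3, 2, 1, 3, 7, 4, 3, 2, 7, 3, 5, 4, 3, 7, 8, 6, 5, 9, 6, 2, 3, 1, 5, 4, 7, 6, 3, 2, 1, 3, 7, 4, 3, 2, 6, 2, 3, 1, 5, 4, 7, 6, 3, 2, 1, 3, 7, 4, 3, 2, 9, 5, 6, 7, 3, 4, 5,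 3, 7, 2, 3, 1, 4, 7, 3, 2, 1, 3, 7, 4, 3, 2, 7, 3, 5, 4, 3, 7, 6, 5, 9, 6, 4, 3, 7, 4, 6, 8, 5, 2, 3, 1, 2, 4, 6, 5, 4, 3, 2, 7, 1, 9, 5, 3, 7, 4, 5, 2, 3, 4, 2, 8, 5, 6, 7, 3, 5, 4, 7, 3, 6, 1, 2, 9, 3, 5, 8, 7, 3, 7, 4, 8, 1, 3, 2, 1, 6, 5, 6, 3, 4, 7, 4, 8, 5, 3, 6, 5, 7, 6, 4, 3, 5, 8, 4, 7, 5, 6, 5, 9, 6, 4, 3, 7, 4, 6, 8, 5, 2, 3, 1, 2, 4, 6, 5, 4, 3, 2, 7, 1, 9, 5, 3, 7, 4, 5, 2, 3, 4, 2, 8, 5, 6, 7, 3, 5, 4, 7, 3, 6, 1, 2, 9, 3, 5, 8]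

/-- part of a word -/
def tauConj4p2 : List ℕ := [7, 3, 7, 4, 8, 1, 3, 2, 1, 6, 5, 6, 3, 4, 7, 4, 8, 5, 3, 6, 5, 7, 6, 4, 3, 5, 8, 4, 7, 6, 5, 9, 6, 4, 3, 7, 4, 6, 8, 5, 2, 3, 1, 2, 4, 6, 5, 4, 3, 2, 7, 1, 9, 5, 3, 7, 4, 5, 2, 3, 4, 2, 8, 5, 6, 7, 3, 5, 4, 7, 3, 6, 1, 2, 9, 3, 5, 8, 7, 3, 7, 4, 8, 1, 3, 2, 1, 6, 5, 6, 3, 4, 2, 3, 1, 2, 3, 4, 8, 7, 8, 3, 6, 5, 4, 9, 7, 3, 2, 8, 7, 8, 5, 4, 1, 3, 2, 6, 5, 9, 6, 4, 3, 7, 4, 6, 8, 5, 2, 3, 1, 2, 4, 6, 5, 4, 3, 2, 7, 1, 9, 5, 3, 7, 4, 5, 2, 3, 4, 2, 8, 5, 6, 7, 3, 5, 4, 7, 3, 6, 1, 2, 9, 3, 5, 8, 7, 3, 7, 4, 8, 1, 3, 2, 1, 6, 5, 6, 3, 4, 7, 4, 8, 5, 3, 6, 5, 7, 6, 4, 3, 5, 8, 4,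 7, 6, 5, 9, 6, 4, 3, 7, 4, 6, 8, 5, 2, 3, 1, 2, 4, 6, 5, 4, 3, 2, 7, 1, 9, 5, 3, 7, 4, 5, 2, 3, 4, 2, 8, 5, 6, 7, 3, 5, 4, 7, 3, 6, 1, 2, 9, 3, 5, 8, 7, 3, 7, 4, 8, 1]

/-- part of a word -/
def tauConj4p3 : List ℕ := [3, 2, 1, 6, 5, 6, 3, 4, 2, 3, 1, 2, 3, 4, 8, 7, 8, 3, 6, 5, 4, 9, 7, 3, 2, 8, 7, 8, 5, 4, 1, 3, 2, 9]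

/-- part of a word -/
def tauConj5p0 : List ℕ := [7, 8, 3, 7, 2, 3, 1, 2, 6, 2, 3, 1, 4, 7, 3, 2, 1, 3, 7, 4, 3, 2, 4, 8, 7, 3, 4, 6, 5, 9, 6, 4, 3, 7, 4, 6, 8, 5, 2, 3, 1, 2, 4, 6, 5, 4, 3, 2, 7, 1, 9, 5, 3, 7, 4, 5, 2, 3, 4, 2, 8, 5, 6, 7, 3, 5, 4, 7, 3, 6, 1, 2, 9, 3, 5, 8, 7, 3, 7, 4, 8, 1, 3, 2, 1, 6, 5, 6, 3, 4, 7, 4, 8, 5, 3, 6, 5, 7, 6, 4, 3, 5, 8, 4, 7, 6, 2, 3, 1, 4, 7, 3, 2, 1, 3, 7, 4, 3, 2, 4, 8, 7, 3, 4, 7, 3, 4, 5, 3, 7, 2, 3, 1, 4, 7, 3, 2, 1, 3, 7, 4, 3, 2, 7, 3, 5, 4, 3, 7, 6, 2, 3, 1, 4, 7, 3, 2, 1, 3, 7, 4, 3, 2, 4, 8, 7, 3, 4, 7, 5, 6, 5, 9, 6, 2, 3, 1, 5, 4, 7, 6, 3, 2, 1, 3, 7, 4, 3, 2, 9, 5, 2, 3, 1,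 4, 7, 3, 2, 1, 3, 7, 4, 3, 2, 4, 8, 7, 3, 4, 7, 6, 5, 9, 6, 4, 3, 7, 4, 6, 8, 5, 2, 3, 1, 2, 4, 6, 5, 4, 3, 2, 7, 1, 9, 5, 3, 7, 4, 5, 2, 3, 4, 2, 8, 5, 6, 7, 3, 5, 4]

/-- part of a word -/
def tauConj5p1 : List ℕ := [7, 3, 6, 1, 2, 9, 3, 5, 8, 7, 3, 7, 4, 8, 1, 3, 2, 1, 6, 5, 6, 3, 4, 7, 4, 8, 5, 3, 6, 5, 7, 6, 4, 3, 5, 8, 4, 7, 5, 6, 5, 9, 6, 4, 3, 7, 4, 6, 8, 5, 2, 3, 1, 2, 4, 6, 5, 4, 3, 2, 7, 1, 9, 5, 3, 7, 4, 5, 2, 3, 4, 2, 8, 5, 6, 7, 3, 5, 4, 7, 3, 6, 1, 2, 9, 3, 5, 8, 7, 3, 7, 4, 8, 1, 3, 2, 1, 6, 5, 6, 3, 4, 7, 4, 8, 5, 3, 6, 5, 7, 6, 4, 3, 5, 8, 4, 7, 5, 6, 5, 9, 6, 2, 3, 1, 5, 4, 7, 6, 3, 2, 1, 3, 7, 4, 3, 2, 6,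 4, 3, 7, 4, 6, 8, 5, 2, 3, 1, 2, 4, 6, 5, 4, 3, 2, 7, 1, 9, 5, 3, 7, 4, 5, 2, 3, 4, 2, 8, 5, 6, 7, 3, 5, 4, 7, 3, 6, 1, 2, 9, 3, 5, 8, 7, 3, 7, 4, 8, 1, 3, 2, 1, 6, 5, 6, 3, 4, 7, 4, 8, 5, 3, 6, 5, 7, 6, 4, 3, 5, 8, 4, 7, 5, 7, 3, 4, 5, 3, 7, 2, 3, 1, 4, 7, 3, 2, 1, 3, 7, 4, 3, 2, 7, 3, 5, 4, 3, 7, 5, 6, 5, 9, 6, 4, 3, 7, 4, 6, 8, 5]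

/-- part of a word -/
def tauConj5p2 : List ℕ := [2, 3, 1, 2, 4, 6, 5, 4, 3, 2, 7, 1, 9, 5, 3, 7, 4, 5, 2, 3, 4, 2, 8, 5, 6, 7, 3, 5, 4, 7, 3, 6, 1, 2, 9, 3, 5, 8, 7, 3, 7, 4, 8, 1, 3, 2, 1, 6, 5, 6, 3, 4, 2, 3, 1, 2, 3, 4, 8, 7, 8, 3, 6, 5, 4, 9, 7, 3, 2, 8, 7, 8, 5, 4, 1, 3, 2, 7, 3, 4, 5, 3, 7, 2, 3, 1, 4, 7, 3, 2, 1, 3, 7, 4, 3, 2, 7, 3, 5, 4, 3, 7, 3, 6, 5, 9, 6, 4, 3, 7, 4, 6, 8, 5, 2, 3, 1, 2, 4, 6, 5, 4, 3, 2, 7, 1, 9, 5, 3, 7, 4, 5, 2, 3, 4, 2, 8, 5, 6, 7, 3, 5, 4, 7, 3, 6, 1, 2, 9, 3, 5, 8, 7, 3, 7, 4, 8, 1, 3, 2, 1, 6, 5, 6, 3, 4, 2, 3, 1, 2, 3, 4, 8, 7, 8, 3, 6, 5, 4, 9, 7, 3, 2, 8, 7, 8, 5, 4, 1, 3, 2, 9, 1, 8]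

/-- part of a word -/
def tauConj6p0 : List ℕ := [9, 6, 5, 4, 3, 7, 2, 3, 4, 5, 6, 9, 1, 2, 3, 7, 4, 5, 3, 4, 2, 3, 7, 6, 5, 4, 3, 2, 3, 5, 7, 6, 5, 9, 6, 4, 3, 7, 4, 6, 8, 5, 2, 3, 1, 2, 4, 6, 5, 4, 3, 2, 7, 1, 9, 5, 3, 7, 4, 5, 2, 3, 4, 2, 8, 5, 6, 7, 3, 5, 4, 7, 3, 6, 1, 2, 9, 3, 5, 8, 7, 3, 7, 4, 8, 1, 3, 2, 1, 6, 5, 6, 3, 4, 7, 4, 8, 5, 3, 6, 5, 7, 6, 4, 3, 5, 8, 4, 7, 5, 7, 5, 6, 2, 3, 1, 4, 7, 3, 2, 1, 3, 7, 4, 3, 2, 4, 8, 7, 3, 4, 7, 5, 6, 5, 9, 6, 4, 3, 7, 4, 6, 8, 5, 2, 3, 1, 2, 4, 6, 5, 4, 3, 2, 7, 1, 9, 5, 3, 7, 4, 5, 2, 3, 4, 2, 8, 5, 6, 7, 3, 5, 4, 7, 3, 6, 1, 2, 9, 3, 5, 8, 7, 3, 7, 4, 8, 1, 3, 2, 1, 6, 5, 6,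 3, 4, 2, 3, 1, 2, 3, 4, 8, 7, 8, 3, 6, 5, 4, 9, 7, 3, 2, 8, 7, 8, 5, 4, 1, 3, 2, 6, 2, 3, 1, 4, 7, 3, 2, 1, 3, 7, 4, 3, 2, 4, 8, 7, 3, 4, 7, 6, 5, 9, 6, 2, 3, 1, 5, 4]

/-- part of a word -/
def tauConj6p1 : List ℕ := [7, 6, 3, 2, 1, 3, 7, 4, 3, 2, 6, 4, 3, 7, 4, 6, 8, 5, 2, 3, 1, 2, 4, 6, 5, 4, 3, 2, 7, 1, 9, 5, 3, 7, 4, 5, 2, 3, 4, 2, 8, 5, 6, 7, 3, 5, 4, 7, 3, 6, 1, 2, 9, 3, 5, 8, 7, 3, 7, 4, 8, 1, 3, 2, 1, 6, 5, 6, 3, 4, 7, 4, 8, 5, 3, 6, 5, 7, 6, 4, 3, 5, 8, 4, 7, 6, 5, 9, 6, 4, 3, 7, 4, 6, 8, 5, 2, 3, 1, 2, 4, 6, 5, 4, 3, 2, 7, 1, 9, 5, 3, 7, 4, 5, 2, 3, 4, 2, 8, 5, 6, 7, 3, 5, 4, 7, 3, 6, 1, 2, 9, 3, 5, 8, 7, 3, 7, 4,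 8, 1, 3, 2, 1, 6, 5, 6, 3, 4, 2, 3, 1, 2, 3, 4, 8, 7, 8, 3, 6, 5, 4, 9, 7, 3, 2, 8, 7, 8, 5, 4, 1, 3, 2, 6, 5, 9, 6, 2, 3, 1, 5, 4, 7, 6, 3, 2, 1, 3, 7, 4, 3, 2, 6, 2, 3, 1, 5, 4, 7, 6, 3, 2, 1, 3, 7, 4, 3, 2, 9, 5, 6, 8, 7, 3, 4, 5, 3, 7, 2, 3, 1, 4, 7, 3, 2, 1, 3, 7, 4, 3, 2, 7, 3, 5, 4, 3, 7, 6, 5, 9, 6, 4, 3, 7, 4, 6, 8, 5, 2, 3]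

/-- part of a word -/
def tauConj6p2 : List ℕ := [1, 2, 4, 6, 5, 4, 3, 2, 7, 1, 9, 5, 3, 7, 4, 5, 2, 3, 4, 2, 8, 5, 6, 7, 3, 5, 4, 7, 3, 6, 1, 2, 9, 3, 5, 8, 7, 3, 7, 4, 8, 1, 3, 2, 1, 6, 5, 6, 3, 4, 7, 4, 8, 5, 3, 6, 5, 7, 6, 4, 3, 5, 8, 4, 7, 5, 6, 5, 9, 6, 4, 3, 7, 4, 6, 8, 5, 2, 3, 1, 2, 4, 6, 5, 4, 3, 2, 7, 1, 9, 5, 3, 7, 4, 5, 2, 3, 4, 2, 8, 5, 6, 7, 3, 5, 4, 7, 3, 6, 1, 2, 9, 3, 5, 8, 7, 3, 7, 4, 8, 1, 3, 2, 1, 6, 5, 6, 3, 4, 2, 3, 1, 2, 3, 4, 8, 7, 8, 3, 6, 5, 4, 9, 7, 3, 2, 8, 7, 8, 5, 4, 1, 3, 2, 9, 8]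

/-- part of a word -/
def tauConj7p0 : List ℕ := [9, 6, 5, 4, 3, 7, 8, 2, 3, 7, 4, 3, 2, 6, 5, 9, 6, 2, 3, 1, 5, 4, 7, 6, 3, 2, 1, 3, 7, 4, 3, 2, 6, 2, 3, 1, 5, 4, 7, 6, 3, 2, 1, 3, 7, 4, 3, 2, 9, 5, 2, 3, 1, 4, 7, 3, 2, 1, 3, 7, 4, 3, 2, 4, 8, 7, 3, 4, 3, 5, 6, 2, 3, 1, 4, 7, 3, 2, 1, 3, 7, 4, 3, 2, 4, 8, 7, 3, 4, 6, 2, 3, 1, 4, 7, 3, 2, 1, 3, 7, 4, 3, 2, 4, 8, 7, 3, 4, 7, 5, 6, 5, 9, 6, 4, 3, 7, 4, 6, 8, 5, 2, 3, 1, 2, 4, 6, 5, 4, 3, 2, 7, 1, 9, 5, 3, 7, 4, 5, 2, 3, 4, 2, 8, 5, 6, 7, 3, 5, 4, 7, 3, 6, 1, 2, 9, 3, 5, 8, 7, 3, 7, 4, 8, 1, 3, 2, 1, 6, 5, 6, 3, 4, 2, 3, 1, 2, 3, 4, 8, 7, 8, 3, 6, 5, 4, 9, 7, 3, 2, 8, 7, 8, 5,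 4, 1, 3, 2, 6, 5, 9, 6, 2, 3, 1, 5, 4, 7, 6, 3, 2, 1, 3, 7, 4, 3, 2, 9, 5, 2, 3, 1, 4, 7, 3, 2, 1, 3, 7, 4, 3, 2, 4, 8, 7, 3, 4, 7, 6, 2, 3, 1, 4, 7, 3, 2, 1, 3, 7, 4]

/-- part of a word -/
def tauConj7p1 : List ℕ := [3, 2, 4, 8, 7, 3, 4, 7, 6, 5, 9, 6, 2, 3, 1, 5, 4, 7, 6, 3, 2, 1, 3, 7, 4, 3, 2, 6, 2, 3, 1, 5, 4, 7, 6, 3, 2, 1, 3, 7, 4, 3, 2, 6, 4, 3, 7, 4, 6, 8, 5, 2, 3, 1, 2, 4, 6, 5, 4, 3, 2, 7, 1, 9, 5, 3, 7, 4, 5, 2, 3, 4, 2, 8, 5, 6, 7, 3, 5, 4, 7, 3, 6, 1, 2, 9, 3, 5, 8, 7, 3, 7, 4, 8, 1, 3, 2, 1, 6, 5, 6, 3, 4, 7, 4, 8, 5, 3, 6, 5, 7, 6, 4, 3, 5, 8, 4, 7, 5, 6, 5, 9, 6, 2, 3, 1, 5, 4, 7, 6, 3, 2, 1, 3, 7, 4, 3, 2,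 6, 4, 3, 7, 4, 6, 8, 5, 2, 3, 1, 2, 4, 6, 5, 4, 3, 2, 7, 1, 9, 5, 3, 7, 4, 5, 2, 3, 4, 2, 8, 5, 6, 7, 3, 5, 4, 7, 3, 6, 1, 2, 9, 3, 5, 8, 7, 3, 7, 4, 8, 1, 3, 2, 1, 6, 5, 6, 3, 4, 7, 4, 8, 5, 3, 6, 5, 7, 6, 4, 3, 5, 8, 4, 7, 5, 6, 5, 9, 6, 2, 3, 1, 5, 4, 7, 6, 3, 2, 1, 3, 7, 4, 3, 2, 6, 4, 3, 7, 4, 6, 8, 5, 2, 3, 1, 2, 4, 6, 5, 4, 3]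

/-- part of a word -/
def tauConj7p2 : List ℕ := [2, 7, 1, 9, 5, 3, 7, 4, 5, 2, 3, 4, 2, 8, 5, 6, 7, 3, 5, 4, 7, 3, 6, 1, 2, 9, 3, 5, 8, 7, 3, 7, 4, 8, 1, 3, 2, 1, 6, 5, 6, 3, 4, 7, 4, 8, 5, 3, 6, 5, 7, 6, 4, 3, 5, 8, 4, 7, 5, 6, 5, 9, 6, 4, 3, 7, 4, 6, 8, 5, 2, 3, 1, 2, 4, 6, 5, 4, 3, 2, 7, 1, 9, 5, 3, 7, 4, 5, 2, 3, 4, 2, 8, 5, 6, 7, 3, 5, 4, 7, 3, 6, 1, 2, 9, 3, 5, 8, 7, 3, 7, 4, 8, 1, 3, 2, 1, 6, 5, 6, 3, 4, 7, 4, 8, 5, 3, 6, 5, 7, 6, 4, 3, 5, 8, 4, 7, 5, 7, 3, 4, 5, 3, 7, 2, 3, 1, 4, 7, 3, 2, 1, 3, 7, 4, 3, 2, 7, 3, 5, 4, 3, 7, 5, 6, 5, 9, 6, 4, 3, 7, 4, 6, 8, 5, 2, 3, 1, 2, 4, 6, 5, 4, 3, 2, 7, 1, 9, 5, 3, 7, 4, 5, 2,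 3, 4, 2, 8, 5, 6, 7, 3, 5, 4, 7, 3, 6, 1, 2, 9, 3, 5, 8, 7, 3, 7, 4, 8, 1, 3, 2, 1, 6, 5, 6, 3, 4, 2, 3, 1, 2, 3, 4, 8, 7, 8, 3, 6, 5, 4, 9, 7, 3, 2, 8, 7, 8, 5, 4, 1]

/-- part of a word -/
def tauConj7p3 : List ℕ := [3, 2, 6, 5, 9, 6, 4, 3, 7, 4, 6, 8, 5, 2, 3, 1, 2, 4, 6, 5, 4, 3, 2, 7, 1, 9, 5, 3, 7, 4, 5, 2, 3, 4, 2, 8, 5, 6, 7, 3, 5, 4, 7, 3, 6, 1, 2, 9, 3, 5, 8, 7, 3, 7, 4, 8, 1, 3, 2, 1, 6, 5, 6, 3, 4, 7, 4, 8, 5, 3, 6, 5, 7, 6, 4, 3, 5, 8, 4, 7, 5, 6, 5, 9, 6, 4, 3, 7, 4, 6, 8, 5, 2, 3, 1, 2, 4, 6, 5, 4, 3, 2, 7, 1, 9, 5, 3, 7, 4, 5, 2, 3, 4, 2, 8, 5, 6, 7, 3, 5, 4, 7, 3, 6, 1, 2, 9, 3, 5, 8, 7, 3, 7, 4, 8, 1, 3, 2,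 1, 6, 5, 6, 3, 4, 7, 4, 8, 5, 3, 6, 5, 7, 6, 4, 3, 5, 8, 4, 7, 5, 6, 5, 9, 6, 4, 3, 7, 4, 6, 8, 5, 2, 3, 1, 2, 4, 6, 5, 4, 3, 2, 7, 1, 9, 5, 3, 7, 4, 5, 2, 3, 4, 2, 8, 5, 6, 7, 3, 5, 4, 7, 3, 6, 1, 2, 9, 3, 5, 8, 7, 3, 7, 4, 8, 1, 3, 2, 1, 6, 5, 6, 3, 4, 2, 3, 1, 2, 3, 4, 8, 7, 8, 3, 6, 5, 4, 9, 7, 3, 2, 8, 7, 8, 5, 4, 1, 3, 2]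

/-- part of a word -/
def tauConj8p0 : List ℕ := [6, 5, 4, 3, 7, 8, 7, 3, 4, 2, 3, 7, 5, 4, 3, 2, 3, 4, 5, 3, 7, 2, 3, 1, 4, 7, 3, 2, 1, 3, 7, 4, 3, 2, 7, 3, 5, 4, 3, 7, 6, 2, 3, 1, 4, 7, 3, 2, 1, 3, 7, 4, 3, 2, 4, 8, 7, 3, 4, 7, 5, 6, 5, 9, 6, 4, 3, 7, 4, 6, 8, 5, 2, 3, 1, 2, 4, 6, 5, 4, 3, 2, 7, 1, 9, 5, 3, 7, 4, 5, 2, 3, 4, 2, 8, 5, 6, 7, 3, 5, 4, 7, 3, 6, 1, 2, 9, 3, 5, 8, 7, 3, 7, 4, 8, 1, 3, 2, 1, 6, 5, 6, 3, 4, 2, 3, 1, 2, 3, 4, 8, 7, 8, 3, 6, 5, 4, 9, 7, 3, 2, 8, 7, 8, 5, 4, 1, 3, 2, 7, 6, 5, 9, 6, 2, 3, 1, 5, 4, 7, 6, 3, 2, 1, 3, 7, 4, 3, 2, 9, 5, 2, 3, 1, 4, 7, 3, 2, 1, 3, 7, 4, 3, 2, 4, 8, 7, 3, 4, 7, 5, 6, 2, 3,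 1, 4, 7, 3, 2, 1, 3, 7, 4, 3, 2, 4, 8, 7, 3, 4, 3, 4, 5, 3, 7, 2, 3, 1, 4, 7, 3, 2, 1, 3, 7, 4, 3, 2, 7, 3, 5, 4, 3, 7, 8, 6, 5, 9, 6, 2, 3, 1, 5, 4, 7, 6, 3, 2, 1, 3]

/-- part of a word -/
def tauConj8p1 : List ℕ := [7, 4, 3, 2, 6, 2, 3, 1, 5, 4, 7, 6, 3, 2, 1, 3, 7, 4, 3, 2, 9, 5, 6, 7, 3, 4, 5, 3, 7, 2, 3, 1, 4, 7, 3, 2, 1, 3, 7, 4, 3, 2, 7, 3, 5, 4, 3, 7, 6, 5, 9, 6, 4, 3, 7, 4, 6, 8, 5, 2, 3, 1, 2, 4, 6, 5, 4, 3, 2, 7, 1, 9, 5, 3, 7, 4, 5, 2, 3, 4, 2, 8, 5, 6, 7, 3, 5, 4, 7, 3, 6, 1, 2, 9, 3, 5, 8, 7, 3, 7, 4, 8, 1, 3, 2, 1, 6, 5, 6, 3, 4, 7, 4, 8, 5, 3, 6, 5, 7, 6, 4, 3, 5, 8, 4, 7, 5, 6, 5, 9, 6, 4, 3, 7, 4, 6, 8, 5,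 2, 3, 1, 2, 4, 6, 5, 4, 3, 2, 7, 1, 9, 5, 3, 7, 4, 5, 2, 3, 4, 2, 8, 5, 6, 7, 3, 5, 4, 7, 3, 6, 1, 2, 9, 3, 5, 8, 7, 3, 7, 4, 8, 1, 3, 2, 1, 6, 5, 6, 3, 4, 7, 4, 8, 5, 3, 6, 5, 7, 6, 4, 3, 5, 8, 4, 7, 5, 3, 6, 5, 9, 6, 4, 3, 7, 4, 6, 8, 5, 2, 3, 1, 2, 4, 6, 5, 4, 3, 2, 7, 1, 9, 5, 3, 7, 4, 5, 2, 3, 4, 2, 8, 5, 6, 7, 3, 5, 4, 7, 3, 6]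

/-- part of a word -/
def tauConj8p2 : List ℕ := [1, 2, 9, 3, 5, 8, 7, 3, 7, 4, 8, 1, 3, 2, 1, 6, 5, 6, 3, 4, 2, 3, 1, 2, 3, 4, 8, 7, 8, 3, 6, 5, 4, 9, 7, 3, 2, 8, 7, 8, 5, 4, 1, 3, 2, 8]

/-- part of a word -/
def tauConj9p0 : List ℕ := []

/-- part of a word -/
def tauConj10p0 : List ℕ := [4, 3, 7, 8, 5, 4, 3, 7, 6, 5, 4, 3, 2, 6, 2, 3, 1, 4, 7, 3, 2, 1, 3, 7, 4, 3, 2, 4, 8, 7, 3, 4, 6, 2, 3, 1, 4, 7, 3, 2, 1, 3, 7, 4, 3, 2, 4, 8, 7, 3, 4, 7, 6, 5, 9, 6, 4, 3, 7, 4, 6, 8, 5, 2, 3, 1, 2, 4, 6, 5, 4, 3, 2, 7, 1, 9, 5, 3, 7, 4, 5, 2, 3, 4, 2, 8, 5, 6, 7, 3, 5, 4, 7, 3, 6, 1, 2, 9, 3, 5, 8, 7, 3, 7, 4, 8, 1, 3, 2, 1, 6, 5, 6,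 3, 4, 7, 4, 8, 5, 3, 6, 5, 7, 6, 4, 3, 5, 8, 4, 7, 5, 3, 5, 7, 6, 5, 9, 6, 2, 3, 1, 5, 4, 7, 6, 3, 2, 1, 3, 7, 4, 3, 2, 9, 5, 2, 3, 1, 4, 7, 3, 2, 1, 3, 7, 4, 3, 2, 4, 8, 7, 3, 4, 7, 6, 5, 9, 6, 4, 3, 7, 4, 6, 8, 5, 2, 3, 1, 2, 4, 6, 5, 4, 3, 2, 7, 1, 9, 5, 3, 7, 4, 5, 2, 3, 4, 2, 8, 5, 6, 7, 3, 5, 4, 7, 3, 6, 1, 2, 9, 3, 5, 8, 7, 3, 7, 4, 8, 1, 3, 2, 1, 6, 5, 6, 3, 4, 7, 4, 8, 5, 3, 6, 5, 7, 6, 4, 3, 5, 8]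

/-- part of a word -/
def tauConj10p1 : List ℕ := [4, 7, 5, 6, 2, 3, 1, 4, 7, 3, 2, 1, 3, 7, 4, 3, 2, 4, 8, 7, 3, 4, 7, 6, 5, 9, 6, 2, 3, 1, 5, 4, 7, 6, 3, 2, 1, 3, 7, 4, 3, 2, 9, 5, 6, 8, 5, 6, 5, 9, 6, 4, 3, 7, 4, 6, 8, 5, 2, 3, 1, 2, 4, 6, 5, 4, 3, 2, 7, 1, 9, 5, 3, 7, 4, 5, 2, 3, 4, 2, 8, 5, 6, 7, 3, 5, 4, 7, 3, 6, 1, 2, 9, 3, 5, 8, 7, 3, 7, 4, 8, 1, 3, 2, 1, 6, 5, 6, 3, 4, 2, 3, 1, 2, 3, 4, 8, 7, 8, 3, 6, 5, 4, 9, 7, 3, 2, 8, 7, 8, 5, 4, 1, 3, 2, 6, 5, 9, 6, 2, 3, 1, 5, 4, 7, 6, 3, 2, 1, 3, 7, 4, 3, 2, 6, 4, 3, 7, 4, 6, 8, 5, 2, 3, 1, 2, 4, 6, 5, 4, 3, 2, 7, 1, 9, 5, 3, 7, 4, 5, 2, 3, 4, 2, 8, 5, 6, 7, 3, 5, 4, 7, 3, 6,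 1, 2, 9, 3, 5, 8, 7, 3, 7, 4, 8, 1, 3, 2, 1, 6, 5, 6, 3, 4, 7, 4, 8, 5, 3, 6, 5, 7, 6, 4, 3, 5, 8, 4, 7, 6, 5, 9, 6, 4, 3, 7, 4, 6, 8, 5, 2, 3, 1, 2, 4, 6, 5, 4, 3, 2]

/-- part of a word -/
def tauConj10p2 : List ℕ := [7, 1, 9, 5, 3, 7, 4, 5, 2, 3, 4, 2, 8, 5, 6, 7, 3, 5, 4, 7, 3, 6, 1, 2, 9, 3, 5, 8, 7, 3, 7, 4, 8, 1, 3, 2, 1, 6, 5, 6, 3, 4, 2, 3, 1, 2, 3, 4, 8, 7, 8, 3, 6, 5, 4, 9, 7, 3, 2, 8, 7, 8, 5, 4, 1, 3, 2, 7, 3, 4, 5, 3, 7, 2, 3, 1, 4, 7, 3, 2, 1, 3, 7, 4, 3, 2, 7, 3, 5, 4, 3, 7, 6, 5, 9, 6, 4, 3, 7, 4, 6, 8, 5, 2, 3, 1, 2, 4, 6, 5, 4, 3, 2, 7, 1, 9, 5, 3, 7, 4, 5, 2, 3, 4, 2, 8, 5, 6, 7, 3, 5, 4, 7, 3, 6, 1, 2, 9,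 3, 5, 8, 7, 3, 7, 4, 8, 1, 3, 2, 1, 6, 5, 6, 3, 4, 7, 4, 8, 5, 3, 6, 5, 7, 6, 4, 3, 5, 8, 4, 7, 5, 3, 1, 8]

/-- part of a word -/
def tauConj11p0 : List ℕ := [3, 4, 5, 6, 9, 5, 4, 3, 7, 8, 3, 7, 4, 5, 3, 4, 2, 3, 7, 6, 5, 4, 3, 2, 6, 5, 9, 6, 4, 3, 7, 4, 6, 8, 5, 2, 3, 1, 2, 4, 6, 5, 4, 3, 2, 7, 1, 9, 5, 3, 7, 4, 5, 2, 3, 4, 2, 8, 5, 6, 7, 3, 5, 4, 7, 3, 6, 1, 2, 9, 3, 5, 8, 7, 3, 7, 4, 8, 1, 3, 2, 1, 6, 5, 6, 3, 4, 7, 4, 8, 5, 3, 6, 5, 7, 6, 4, 3, 5, 8, 4, 7, 5, 6, 5, 9, 6, 2, 3, 1, 5, 4, 7, 6, 3, 2, 1, 3, 7, 4, 3, 2, 9, 5, 2, 3, 1, 4, 7, 3, 2, 1, 3, 7, 4, 3, 2, 4, 8, 7, 3, 4, 7, 3, 5, 7, 8, 6, 5, 9, 6, 4, 3, 7, 4, 6, 8, 5,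 2, 3, 1, 2, 4, 6, 5, 4, 3, 2, 7, 1, 9, 5, 3, 7, 4, 5, 2, 3, 4, 2, 8, 5, 6, 7, 3, 5, 4, 7, 3, 6, 1, 2, 9, 3, 5, 8, 7, 3, 7, 4, 8, 1, 3, 2, 1, 6, 5, 6, 3, 4, 7, 4, 8, 5, 3, 6, 5, 7, 6, 4, 3, 5, 8, 4, 7, 5, 6, 2, 3, 1, 4, 7, 3, 2, 1, 3, 7, 4, 3, 2, 4, 8, 7, 3, 4, 7, 6, 5, 9, 6]

/-- part of a word -/
def tauConj11p1 : List ℕ := [2, 3, 1, 5, 4, 7, 6, 3, 2, 1, 3, 7, 4, 3, 2, 9, 5, 2, 3, 1, 4, 7, 3, 2, 1, 3, 7, 4, 3, 2, 4, 8, 7, 3, 4, 7, 6, 5, 9, 6, 2, 3, 1, 5, 4, 7, 6, 3, 2, 1, 3, 7, 4, 3, 2, 9, 5, 6, 8, 5, 6, 5, 9, 6, 4, 3, 7, 4, 6, 8, 5, 2, 3, 1, 2, 4, 6, 5, 4, 3, 2, 7, 1, 9, 5, 3, 7, 4, 5, 2, 3, 4, 2, 8, 5, 6, 7, 3, 5, 4, 7, 3,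 6, 1, 2, 9, 3, 5, 8, 7, 3, 7, 4, 8, 1, 3, 2, 1, 6, 5, 6, 3, 4, 2, 3, 1, 2, 3, 4, 8, 7, 8, 3, 6, 5, 4, 9, 7, 3, 2, 8, 7, 8, 5, 4, 1, 3, 2, 6, 5, 9, 6, 2, 3, 1, 5, 4, 7, 6, 3, 2, 1, 3, 7, 4, 3, 2, 9, 5, 6, 5, 6, 5, 9, 6, 4, 3, 7, 4, 6, 8, 5, 2, 3, 1, 2, 4, 6, 5, 4, 3, 2, 7, 1, 9, 5, 3, 7, 4, 5, 2, 3, 4, 2, 8, 5, 6, 7, 3, 5, 4, 7, 3, 6, 1, 2, 9, 3, 5, 8, 7, 3, 7, 4, 8, 1, 3, 2, 1, 6, 5, 6, 3, 4, 2, 3, 1, 2, 3, 4, 8, 7, 8, 3, 6, 5, 4, 9, 7, 3]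

/-- part of a word -/
def tauConj11p2 : List ℕ := [2, 8, 7, 8, 5, 4, 1, 3, 2, 7, 3, 4, 5, 3, 7, 2, 3, 1, 4, 7, 3, 2, 1, 3, 7, 4, 3, 2, 7, 3, 5, 4, 3, 7, 5, 6, 5, 9, 6, 4, 3, 7, 4, 6, 8, 5, 2, 3, 1, 2, 4, 6, 5, 4, 3, 2, 7, 1, 9, 5, 3, 7, 4, 5, 2, 3, 4, 2, 8, 5, 6, 7, 3, 5, 4, 7, 3, 6, 1, 2, 9, 3, 5, 8, 7, 3, 7, 4, 8, 1, 3, 2, 1, 6, 5, 6, 3, 4, 2, 3, 1, 2, 3, 4, 8, 7, 8, 3, 6, 5, 4, 9, 7, 3, 2, 8, 7, 8, 5, 4, 1, 3, 2, 6, 5, 9, 6, 4, 3, 7, 4, 6, 8, 5, 2, 3, 1, 2, 4, 6, 5, 4, 3, 2, 7, 1, 9, 5, 3, 7, 4, 5, 2, 3, 4, 2, 8, 5, 6, 7, 3, 5, 4, 7, 3, 6, 1, 2, 9, 3, 5, 8, 7, 3, 7, 4, 8, 1, 3, 2, 1, 6, 5, 6, 3, 4, 7, 4, 8, 5, 3, 6, 5, 7,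 6, 4, 3, 5, 8, 4, 7, 5, 3, 5, 6, 5, 9, 6, 4, 3, 7, 4, 6, 8, 5, 2, 3, 1, 2, 4, 6, 5, 4, 3, 2, 7, 1, 9, 5, 3, 7, 4, 5, 2, 3, 4, 2, 8, 5, 6, 7, 3, 5, 4, 7, 3, 6, 1, 2, 9]

/-- part of a word -/
def tauConj11p3 : List ℕ := [3, 5, 8, 7, 3, 7, 4, 8, 1, 3, 2, 1, 6, 5, 6, 3, 4, 2, 3, 1, 2, 3, 4, 8, 7, 8, 3, 6, 5, 4, 9, 7, 3, 2, 8, 7, 8, 5, 4, 1, 3, 2, 9, 8]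

/-- part of a word -/
def tauConj12p0 : List ℕ := [2, 3, 1, 2, 6, 5, 9, 6, 4, 3, 7, 4, 6, 8, 5, 2, 3, 1, 2, 4, 6, 5, 4, 3, 2, 7, 1, 9, 5, 3, 7, 4, 5, 2, 3, 4, 2, 8, 5, 6, 7, 3, 5, 4, 7, 3, 6, 1, 2, 9, 3, 5, 8, 7, 3, 7, 4, 8, 1, 3, 2, 1, 6, 5, 6, 3, 4, 7, 4, 8, 5, 3, 6, 5, 7, 6, 4, 3, 5, 8, 4, 7, 5, 6, 5, 9, 6, 2, 3, 1, 5, 4, 7, 6, 3, 2, 1, 3, 7, 4, 3, 2, 6, 4, 3, 7, 4, 6, 8, 5, 2, 3, 1, 2, 4, 6, 5, 4, 3, 2, 7, 1, 9, 5, 3, 7, 4, 5, 2, 3, 4, 2, 8, 5, 6, 7, 3, 5, 4, 7, 3, 6, 1, 2, 9, 3, 5, 8, 7, 3, 7, 4, 8, 1, 3, 2, 1, 6, 5, 6, 3, 4, 7, 4, 8, 5, 3, 6, 5, 7, 6, 4, 3, 5, 8, 4, 7, 5, 6, 2, 3, 1, 4, 7, 3, 2, 1, 3, 7, 4, 3, 2, 4, 8,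 7, 3, 4, 7, 6, 2, 3, 1, 4, 7, 3, 2, 1, 3, 7, 4, 3, 2, 4, 8, 7, 3, 4, 7, 6, 5, 9, 6, 2, 3, 1, 5, 4, 7, 6, 3, 2, 1, 3, 7, 4, 3, 2, 9, 5, 6, 8, 7, 3, 4, 5, 3, 7, 2, 3, 1]

/-- part of a word -/
def tauConj12p1 : List ℕ := [4, 7, 3, 2, 1, 3, 7, 4, 3, 2, 7, 3, 5, 4, 3, 7, 5, 9, 1, 8]

/-- part of a word -/
def tauConj13p0 : List ℕ := [3, 7, 2, 3, 1, 2, 6, 5, 9, 6, 2, 3, 1, 5, 4, 7, 6, 3, 2, 1, 3, 7, 4, 3, 2, 6, 2, 3, 1, 5, 4, 7, 6, 3, 2, 1, 3, 7, 4, 3, 2, 6, 4, 3, 7, 4, 6, 8, 5, 2, 3, 1, 2, 4, 6, 5, 4, 3, 2, 7, 1, 9, 5, 3, 7, 4, 5, 2, 3, 4, 2, 8, 5, 6, 7, 3, 5, 4, 7, 3, 6, 1, 2, 9, 3, 5, 8, 7, 3, 7, 4, 8, 1, 3, 2, 1, 6, 5, 6, 3, 4,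 7, 4, 8, 5, 3, 6, 5, 7, 6, 4, 3, 5, 8, 4, 7, 5, 3, 5, 7, 5, 6, 5, 9, 6, 4, 3, 7, 4, 6, 8, 5, 2, 3, 1, 2, 4, 6, 5, 4, 3, 2, 7, 1, 9, 5, 3, 7, 4, 5, 2, 3, 4, 2, 8, 5, 6, 7, 3, 5, 4, 7, 3, 6, 1, 2, 9, 3, 5, 8, 7, 3, 7, 4, 8, 1, 3, 2, 1, 6, 5, 6, 3, 4, 2, 3, 1, 2, 3, 4, 8, 7, 8, 3, 6, 5, 4, 9, 7, 3, 2, 8, 7, 8, 5, 4, 1, 3, 2, 6, 5, 9, 6, 2, 3, 1, 5, 4, 7, 6, 3, 2, 1, 3, 7, 4, 3, 2, 6, 2, 3, 1, 5, 4, 7, 6, 3, 2, 1, 3, 7, 4, 3, 2, 9, 5, 2, 3, 1, 4]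

/-- part of a word -/
def tauConj13p1 : List ℕ := [7, 3, 2, 1, 3, 7, 4, 3, 2, 4, 8, 7, 3, 4, 7, 6, 2, 3, 1, 4, 7, 3, 2, 1, 3, 7, 4, 3, 2, 4, 8, 7, 3, 4, 3, 4, 5, 3, 7, 2, 3, 1, 4, 7, 3, 2, 1, 3, 7, 4, 3, 2, 7, 3, 5, 4, 3, 7, 8, 6, 5, 9, 6, 2, 3, 1, 5, 4, 7, 6, 3, 2, 1, 3, 7, 4, 3, 2, 6, 2, 3, 1, 5, 4, 7, 6, 3, 2, 1, 3, 7, 4, 3, 2, 9, 5, 6, 7, 3, 4, 5, 3, 7, 2, 3, 1, 4, 7, 3, 2, 1, 3, 7, 4, 3, 2, 7, 3, 5, 4, 3, 7, 6, 5, 9, 6, 4, 3, 7, 4, 6, 8, 5, 2, 3, 1, 2, 4, 6, 5, 4, 3, 2, 7, 1, 9, 5, 3, 7, 4, 5, 2, 3, 4, 2, 8, 5, 6, 7, 3, 5, 4, 7, 3, 6, 1, 2, 9, 3, 5, 8, 7, 3, 7, 4, 8, 1, 3, 2, 1, 6, 5, 6, 3, 4, 7, 4, 8, 5, 3, 6, 5, 7, 6,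 4, 3, 5, 8, 4, 7, 5, 6, 5, 9, 6, 4, 3, 7, 4, 6, 8, 5, 2, 3, 1, 2, 4, 6, 5, 4, 3, 2, 7, 1, 9, 5, 3, 7, 4, 5, 2, 3, 4, 2, 8, 5, 6, 7, 3, 5, 4, 7, 3, 6, 1, 2, 9, 3, 5, 8]

/-- part of a word -/
def tauConj13p2 : List ℕ := [7, 3, 7, 4, 8, 1, 3, 2, 1, 6, 5, 6, 3, 4, 7, 4, 8, 5, 3, 6, 5, 7, 6, 4, 3, 5, 8, 4, 7, 6, 5, 9, 6, 4, 3, 7, 4, 6, 8, 5, 2, 3, 1, 2, 4, 6, 5, 4, 3, 2, 7, 1, 9, 5, 3, 7, 4, 5, 2, 3, 4, 2, 8, 5, 6, 7, 3, 5, 4, 7, 3, 6, 1, 2, 9, 3, 5, 8, 7, 3, 7, 4, 8, 1, 3, 2, 1, 6, 5, 6, 3, 4, 2, 3, 1, 2, 3, 4, 8, 7, 8, 3, 6, 5, 4, 9, 7, 3, 2, 8, 7, 8, 5, 4, 1, 3, 2, 6, 5, 9, 6, 4, 3, 7, 4, 6, 8, 5, 2, 3, 1, 2, 4, 6, 5, 4, 3, 2,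 7, 1, 9, 5, 3, 7, 4, 5, 2, 3, 4, 2, 8, 5, 6, 7, 3, 5, 4, 7, 3, 6, 1, 2, 9, 3, 5, 8, 7, 3, 7, 4, 8, 1, 3, 2, 1, 6, 5, 6, 3, 4, 7, 4, 8, 5, 3, 6, 5, 7, 6, 4, 3, 5, 8, 4, 7, 6, 5, 9, 6, 4, 3, 7, 4, 6, 8, 5, 2, 3, 1, 2, 4, 6, 5, 4, 3, 2, 7, 1, 9, 5, 3, 7, 4, 5, 2, 3, 4, 2, 8, 5, 6, 7, 3, 5, 4, 7, 3, 6, 1, 2, 9, 3, 5, 8, 7, 3, 7, 4, 8, 1]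

/-- part of a word -/
def tauConj13p3 : List ℕ := [3, 2, 1, 6, 5, 6, 3, 4, 2, 3, 1, 2, 3, 4, 8, 7, 8, 3, 6, 5, 4, 9, 7, 3, 2, 8, 7, 8, 5, 4, 1, 3, 2, 9]

/-- part of a word -/
def tauConj14p0 : List ℕ := [7, 8, 3, 7, 2, 3, 1, 2, 6, 2, 3, 1, 4, 7, 3, 2, 1, 3, 7, 4, 3, 2, 4, 8, 7, 3, 4, 6, 5, 9, 6, 4, 3, 7, 4, 6, 8, 5, 2, 3, 1, 2, 4, 6, 5, 4, 3, 2, 7, 1, 9, 5, 3, 7, 4, 5, 2, 3, 4, 2, 8, 5, 6, 7, 3, 5, 4, 7, 3, 6, 1, 2, 9, 3, 5, 8, 7, 3, 7, 4, 8, 1, 3, 2, 1, 6, 5, 6, 3, 4, 7, 4, 8, 5, 3, 6, 5, 7, 6, 4, 3, 5, 8, 4, 7, 6, 2, 3, 1, 4, 7, 3, 2, 1, 3, 7, 4, 3, 2, 4, 8, 7, 3, 4, 7, 3, 4, 5, 3, 7, 2, 3, 1, 4, 7, 3, 2, 1, 3, 7, 4, 3, 2,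 7, 3, 5, 4, 3, 7, 6, 2, 3, 1, 4, 7, 3, 2, 1, 3, 7, 4, 3, 2, 4, 8, 7, 3, 4, 7, 5, 6, 5, 9, 6, 2, 3, 1, 5, 4, 7, 6, 3, 2, 1, 3, 7, 4, 3, 2, 9, 5, 2, 3, 1, 4, 7, 3, 2, 1, 3, 7, 4, 3, 2, 4, 8, 7, 3, 4, 7, 6, 5, 9, 6, 4, 3, 7, 4, 6, 8, 5, 2, 3, 1, 2, 4, 6, 5, 4, 3, 2, 7, 1, 9, 5, 3, 7, 4, 5, 2, 3, 4, 2, 8, 5, 6, 7, 3, 5, 4]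

/-- part of a word -/
def tauConj14p1 : List ℕ := [7, 3, 6, 1, 2, 9, 3, 5, 8, 7, 3, 7, 4, 8, 1, 3, 2, 1, 6, 5, 6, 3, 4, 7, 4, 8, 5, 3, 6, 5, 7, 6, 4, 3, 5, 8, 4, 7, 5, 6, 5, 9, 6, 4, 3, 7, 4, 6, 8, 5, 2, 3, 1, 2, 4, 6, 5, 4, 3, 2, 7, 1, 9, 5, 3, 7, 4, 5, 2, 3, 4, 2, 8, 5, 6, 7, 3, 5, 4, 7, 3, 6, 1, 2, 9, 3, 5, 8, 7, 3, 7, 4, 8, 1, 3, 2, 1, 6, 5, 6, 3, 4, 7, 4, 8, 5, 3, 6, 5, 7, 6, 4, 3, 5, 8, 4, 7, 5, 6, 5, 9, 6, 2, 3, 1, 5, 4, 7, 6, 3, 2, 1, 3, 7, 4, 3, 2, 6, 4, 3, 7, 4, 6, 8, 5, 2, 3, 1, 2, 4, 6, 5, 4, 3, 2, 7, 1, 9, 5, 3, 7, 4, 5, 2, 3, 4, 2, 8, 5, 6, 7, 3, 5, 4, 7, 3, 6, 1, 2, 9, 3, 5, 8, 7, 3, 7, 4, 8, 1, 3, 2, 1, 6, 5,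 6, 3, 4, 7, 4, 8, 5, 3, 6, 5, 7, 6, 4, 3, 5, 8, 4, 7, 5, 7, 3, 4, 5, 3, 7, 2, 3, 1, 4, 7, 3, 2, 1, 3, 7, 4, 3, 2, 7, 3, 5, 4, 3, 7, 5, 6, 5, 9, 6, 4, 3, 7, 4, 6, 8, 5]

/-- part of a word -/
def tauConj14p2 : List ℕ := [2, 3, 1, 2, 4, 6, 5, 4, 3, 2, 7, 1, 9, 5, 3, 7, 4, 5, 2, 3, 4, 2, 8, 5, 6, 7, 3, 5, 4, 7, 3, 6, 1, 2, 9, 3, 5, 8, 7, 3, 7, 4, 8, 1, 3, 2, 1, 6, 5, 6, 3, 4, 2, 3, 1, 2, 3, 4, 8, 7, 8, 3, 6, 5, 4, 9, 7, 3, 2, 8, 7, 8, 5, 4, 1, 3, 2, 7, 3, 4, 5, 3, 7, 2, 3, 1, 4, 7, 3, 2, 1, 3, 7, 4, 3, 2, 7, 3, 5, 4, 3, 7, 3, 6, 5, 9, 6, 4, 3, 7, 4, 6, 8, 5, 2, 3, 1, 2, 4, 6, 5, 4, 3, 2, 7, 1, 9, 5, 3, 7, 4, 5, 2, 3, 4, 2, 8, 5,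 6, 7, 3, 5, 4, 7, 3, 6, 1, 2, 9, 3, 5, 8, 7, 3, 7, 4, 8, 1, 3, 2, 1, 6, 5, 6, 3, 4, 2, 3, 1, 2, 3, 4, 8, 7, 8, 3, 6, 5, 4, 9, 7, 3, 2, 8, 7, 8, 5, 4, 1, 3, 2, 9, 1, 8]

/-- part of a word -/
def tauConj15p0 : List ℕ := [9, 6, 5, 4, 3, 7, 2, 3, 4, 5, 6, 9, 1, 2, 3, 7, 4, 5, 3, 4, 2, 3, 7, 6, 5, 4, 3, 2, 3, 5, 7, 6, 5, 9, 6, 4, 3, 7, 4, 6, 8, 5, 2, 3, 1, 2, 4, 6, 5, 4, 3, 2, 7, 1, 9, 5, 3, 7, 4, 5, 2, 3, 4, 2, 8, 5, 6, 7, 3, 5, 4, 7, 3, 6, 1, 2, 9, 3, 5, 8, 7, 3, 7, 4, 8, 1, 3, 2, 1, 6, 5, 6, 3, 4, 7, 4, 8, 5, 3, 6, 5, 7, 6, 4, 3, 5, 8, 4, 7, 5, 7, 5, 6, 2, 3, 1, 4, 7, 3, 2, 1, 3, 7, 4, 3, 2, 4, 8, 7, 3, 4, 7, 5, 6, 5, 9, 6, 4,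 3, 7, 4, 6, 8, 5, 2, 3, 1, 2, 4, 6, 5, 4, 3, 2, 7, 1, 9, 5, 3, 7, 4, 5, 2, 3, 4, 2, 8, 5, 6, 7, 3, 5, 4, 7, 3, 6, 1, 2, 9, 3, 5, 8, 7, 3, 7, 4, 8, 1, 3, 2, 1, 6, 5, 6, 3, 4, 2, 3, 1, 2, 3, 4, 8, 7, 8, 3, 6, 5, 4, 9, 7, 3, 2, 8, 7, 8, 5, 4, 1, 3, 2, 6, 2, 3, 1, 4, 7, 3, 2, 1, 3, 7, 4, 3, 2, 4, 8, 7, 3, 4, 7, 6, 5, 9, 6, 2, 3, 1, 5, 4]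

/-- part of a word -/
def tauConj15p1 : List ℕ := [7, 6, 3, 2, 1, 3, 7, 4, 3, 2, 6, 4, 3, 7, 4, 6, 8, 5, 2, 3, 1, 2, 4, 6, 5, 4, 3, 2, 7, 1, 9, 5, 3, 7, 4, 5, 2, 3, 4, 2, 8, 5, 6, 7, 3, 5, 4, 7, 3, 6, 1, 2, 9, 3, 5, 8, 7, 3, 7, 4, 8, 1, 3, 2, 1, 6, 5, 6, 3, 4, 7, 4, 8, 5, 3, 6, 5, 7, 6, 4, 3, 5, 8, 4, 7, 6, 5, 9, 6, 4, 3, 7, 4, 6, 8, 5, 2, 3, 1, 2, 4, 6, 5, 4, 3, 2, 7, 1, 9, 5, 3, 7, 4, 5, 2, 3, 4, 2, 8, 5, 6, 7, 3, 5, 4, 7, 3, 6, 1, 2, 9, 3, 5, 8, 7, 3, 7, 4, 8, 1, 3, 2, 1, 6, 5, 6, 3, 4, 2, 3, 1, 2, 3, 4, 8, 7, 8, 3, 6, 5, 4, 9, 7, 3, 2, 8, 7, 8, 5, 4, 1, 3, 2, 6, 5, 9, 6, 2, 3, 1, 5, 4, 7, 6, 3, 2, 1, 3, 7, 4, 3, 2, 6, 2,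 3, 1, 5, 4, 7, 6, 3, 2, 1, 3, 7, 4, 3, 2, 9, 5, 6, 8, 7, 3, 4, 5, 3, 7, 2, 3, 1, 4, 7, 3, 2, 1, 3, 7, 4, 3, 2, 7, 3, 5, 4, 3, 7, 6, 5, 9, 6, 4, 3, 7, 4, 6, 8, 5, 2, 3]

/-- part of a word -/
def tauConj15p2 : List ℕ := [1, 2, 4, 6, 5, 4, 3, 2, 7, 1, 9, 5, 3, 7, 4, 5, 2, 3, 4, 2, 8, 5, 6, 7, 3, 5, 4, 7, 3, 6, 1, 2, 9, 3, 5, 8, 7, 3, 7, 4, 8, 1, 3, 2, 1, 6, 5, 6, 3, 4, 7, 4, 8, 5, 3, 6, 5, 7, 6, 4, 3, 5, 8, 4, 7, 5, 6, 5, 9, 6, 4, 3, 7, 4, 6, 8, 5, 2, 3, 1, 2, 4, 6, 5, 4, 3, 2, 7, 1, 9, 5, 3, 7, 4, 5, 2, 3, 4, 2, 8, 5, 6, 7, 3, 5, 4, 7, 3, 6, 1, 2, 9, 3, 5, 8, 7, 3, 7, 4, 8, 1, 3, 2, 1, 6, 5, 6, 3, 4, 2, 3, 1, 2, 3, 4, 8, 7, 8,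 3, 6, 5, 4, 9, 7, 3, 2, 8, 7, 8, 5, 4, 1, 3, 2, 9, 8]

/-- part of a word -/
def tauConj16p0 : List ℕ := [9, 6, 5, 4, 3, 7, 8, 2, 3, 7, 4, 3, 2, 6, 5, 9, 6, 2, 3, 1, 5, 4, 7, 6, 3, 2, 1, 3, 7, 4, 3, 2, 6, 2, 3, 1, 5, 4, 7, 6, 3, 2, 1, 3, 7, 4, 3, 2, 9, 5, 2, 3, 1, 4, 7, 3, 2, 1, 3, 7, 4, 3, 2, 4, 8, 7, 3, 4, 3, 5, 6, 2, 3, 1, 4, 7, 3, 2, 1, 3, 7, 4, 3, 2, 4, 8, 7, 3, 4, 6, 2, 3, 1, 4, 7, 3, 2, 1, 3, 7, 4, 3, 2, 4, 8, 7, 3, 4, 7, 5, 6, 5, 9, 6, 4, 3, 7, 4, 6, 8, 5, 2, 3, 1, 2, 4, 6, 5, 4, 3, 2, 7, 1, 9, 5, 3, 7, 4, 5, 2, 3, 4, 2, 8, 5, 6, 7, 3, 5, 4, 7, 3, 6, 1, 2, 9, 3, 5, 8, 7, 3, 7, 4, 8, 1, 3, 2, 1, 6, 5, 6, 3, 4, 2, 3, 1,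 2, 3, 4, 8, 7, 8, 3, 6, 5, 4, 9, 7, 3, 2, 8, 7, 8, 5, 4, 1, 3, 2, 6, 5, 9, 6, 2, 3, 1, 5, 4, 7, 6, 3, 2, 1, 3, 7, 4, 3, 2, 9, 5, 2, 3, 1, 4, 7, 3, 2, 1, 3, 7, 4, 3, 2, 4, 8, 7, 3, 4, 7, 6, 2, 3, 1, 4, 7, 3, 2, 1, 3, 7, 4]

/-- part of a word -/
def tauConj16p1 : List ℕ := [3, 2, 4, 8, 7, 3, 4, 7, 6, 5, 9, 6, 2, 3, 1, 5, 4, 7, 6, 3, 2, 1, 3, 7, 4, 3, 2, 6, 2, 3, 1, 5, 4, 7, 6, 3, 2, 1, 3, 7, 4, 3, 2, 6, 4, 3, 7, 4, 6, 8, 5, 2, 3, 1, 2, 4, 6, 5, 4, 3, 2, 7, 1, 9, 5, 3, 7, 4, 5, 2, 3, 4, 2, 8, 5, 6, 7, 3, 5, 4, 7, 3, 6, 1, 2, 9, 3, 5, 8, 7, 3, 7, 4, 8, 1, 3, 2, 1, 6, 5, 6, 3, 4, 7, 4, 8, 5, 3, 6, 5, 7, 6, 4, 3, 5, 8, 4, 7, 5, 6,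 5, 9, 6, 2, 3, 1, 5, 4, 7, 6, 3, 2, 1, 3, 7, 4, 3, 2, 6, 4, 3, 7, 4, 6, 8, 5, 2, 3, 1, 2, 4, 6, 5, 4, 3, 2, 7, 1, 9, 5, 3, 7, 4, 5, 2, 3, 4, 2, 8, 5, 6, 7, 3, 5, 4, 7, 3, 6, 1, 2, 9, 3, 5, 8, 7, 3, 7, 4, 8, 1, 3, 2, 1, 6, 5, 6, 3, 4, 7, 4, 8, 5, 3, 6, 5, 7, 6, 4, 3, 5, 8, 4, 7, 5, 6, 5, 9, 6, 2, 3, 1, 5, 4, 7, 6, 3, 2, 1, 3, 7, 4, 3, 2, 6, 4, 3, 7, 4, 6, 8, 5, 2, 3, 1, 2, 4, 6, 5, 4, 3]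

/-- part of a word -/
def tauConj16p2 : List ℕ := [2, 7, 1, 9, 5, 3, 7, 4, 5, 2, 3, 4, 2, 8, 5, 6, 7, 3, 5, 4, 7, 3, 6, 1, 2, 9, 3, 5, 8, 7, 3, 7, 4, 8, 1, 3, 2, 1, 6, 5, 6, 3, 4, 7, 4, 8, 5, 3, 6, 5, 7, 6, 4, 3, 5, 8, 4, 7, 5, 6, 5, 9, 6, 4, 3, 7, 4, 6, 8, 5, 2, 3, 1, 2, 4, 6, 5, 4, 3, 2, 7, 1, 9, 5, 3, 7, 4, 5, 2, 3, 4, 2, 8, 5, 6, 7, 3, 5, 4, 7, 3, 6, 1, 2, 9, 3, 5, 8, 7, 3, 7, 4, 8, 1, 3, 2, 1, 6, 5, 6, 3, 4, 7, 4, 8, 5, 3, 6, 5, 7, 6, 4, 3, 5, 8, 4, 7, 5, 7, 3, 4, 5, 3, 7, 2, 3, 1, 4, 7, 3, 2, 1, 3, 7, 4, 3, 2, 7, 3, 5, 4, 3, 7, 5, 6, 5, 9, 6, 4, 3, 7, 4, 6, 8, 5, 2, 3, 1, 2, 4, 6, 5, 4, 3, 2, 7, 1, 9, 5, 3, 7, 4, 5, 2,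 3, 4, 2, 8, 5, 6, 7, 3, 5, 4, 7, 3, 6, 1, 2, 9, 3, 5, 8, 7, 3, 7, 4, 8, 1, 3, 2, 1, 6, 5, 6, 3, 4, 2, 3, 1, 2, 3, 4, 8, 7, 8, 3, 6, 5, 4, 9, 7, 3, 2, 8, 7, 8, 5, 4, 1]

/-- part of a word -/
def tauConj16p3 : List ℕ := [3, 2, 6, 5, 9, 6, 4, 3, 7, 4, 6, 8, 5, 2, 3, 1, 2, 4, 6, 5, 4, 3, 2, 7, 1, 9, 5, 3, 7, 4, 5, 2, 3, 4, 2, 8, 5, 6, 7, 3, 5, 4, 7, 3, 6, 1, 2, 9, 3, 5, 8, 7, 3, 7, 4, 8, 1, 3, 2, 1, 6, 5, 6, 3, 4, 7, 4, 8, 5, 3, 6, 5, 7, 6, 4, 3, 5, 8, 4, 7, 5, 6, 5, 9, 6, 4, 3, 7, 4, 6, 8, 5, 2, 3, 1, 2, 4, 6, 5, 4, 3, 2, 7, 1, 9, 5, 3, 7, 4, 5, 2, 3, 4, 2, 8, 5, 6, 7, 3, 5, 4, 7, 3, 6, 1, 2, 9, 3, 5, 8, 7, 3, 7, 4, 8, 1, 3, 2,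 1, 6, 5, 6, 3, 4, 7, 4, 8, 5, 3, 6, 5, 7, 6, 4, 3, 5, 8, 4, 7, 5, 6, 5, 9, 6, 4, 3, 7, 4, 6, 8, 5, 2, 3, 1, 2, 4, 6, 5, 4, 3, 2, 7, 1, 9, 5, 3, 7, 4, 5, 2, 3, 4, 2, 8, 5, 6, 7, 3, 5, 4, 7, 3, 6, 1, 2, 9, 3, 5, 8, 7, 3, 7, 4, 8, 1, 3, 2, 1, 6, 5, 6, 3, 4, 2, 3, 1, 2, 3, 4, 8, 7, 8, 3, 6, 5, 4, 9, 7, 3, 2, 8, 7, 8, 5, 4, 1, 3, 2]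

/-- part of a word -/
def tauConj17p0 : List ℕ := [6, 5, 4, 3, 7, 8, 7, 3, 4, 2, 3, 7, 5, 4, 3, 2, 3, 4, 5, 3, 7, 2, 3, 1, 4, 7, 3, 2, 1, 3, 7, 4, 3, 2, 7, 3, 5, 4, 3, 7, 6, 2, 3, 1, 4, 7, 3, 2, 1, 3, 7, 4, 3, 2, 4, 8, 7, 3, 4, 7, 5, 6, 5, 9, 6, 4, 3, 7, 4, 6, 8, 5, 2, 3, 1, 2, 4, 6, 5, 4, 3, 2, 7, 1, 9, 5, 3, 7, 4, 5, 2, 3, 4, 2, 8, 5, 6, 7, 3, 5, 4, 7, 3, 6, 1, 2, 9, 3, 5, 8, 7, 3, 7, 4, 8, 1, 3, 2, 1, 6, 5, 6, 3, 4, 2, 3, 1, 2, 3, 4, 8, 7, 8, 3, 6, 5, 4, 9, 7, 3, 2, 8, 7, 8, 5, 4, 1, 3, 2, 7, 6, 5, 9, 6, 2, 3, 1, 5, 4, 7, 6, 3, 2, 1, 3, 7, 4, 3, 2, 9, 5, 2, 3, 1, 4, 7, 3, 2, 1, 3, 7, 4, 3, 2, 4, 8, 7, 3, 4, 7, 5, 6, 2, 3,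 1, 4, 7, 3, 2, 1, 3, 7, 4, 3, 2, 4, 8, 7, 3, 4, 3, 4, 5, 3, 7, 2, 3, 1, 4, 7, 3, 2, 1, 3, 7, 4, 3, 2, 7, 3, 5, 4, 3, 7, 8, 6, 5, 9, 6, 2, 3, 1, 5, 4, 7, 6, 3, 2, 1, 3]

/-- part of a word -/
def tauConj17p1 : List ℕ := [7, 4, 3, 2, 6, 2, 3, 1, 5, 4, 7, 6, 3, 2, 1, 3, 7, 4, 3, 2, 9, 5, 6, 7, 3, 4, 5, 3, 7, 2, 3, 1, 4, 7, 3, 2, 1, 3, 7, 4, 3, 2, 7, 3, 5, 4, 3, 7, 6, 5, 9, 6, 4, 3, 7, 4, 6, 8, 5, 2, 3, 1, 2, 4, 6, 5, 4, 3, 2, 7, 1, 9, 5, 3, 7, 4, 5, 2, 3, 4, 2, 8, 5, 6, 7, 3, 5, 4, 7, 3, 6, 1, 2, 9, 3, 5, 8, 7, 3, 7, 4, 8, 1, 3, 2, 1, 6, 5, 6, 3, 4, 7, 4, 8, 5, 3, 6, 5, 7, 6, 4, 3, 5, 8, 4, 7, 5, 6, 5, 9, 6, 4, 3, 7, 4, 6, 8, 5,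 2, 3, 1, 2, 4, 6, 5, 4, 3, 2, 7, 1, 9, 5, 3, 7, 4, 5, 2, 3, 4, 2, 8, 5, 6, 7, 3, 5, 4, 7, 3, 6, 1, 2, 9, 3, 5, 8, 7, 3, 7, 4, 8, 1, 3, 2, 1, 6, 5, 6, 3, 4, 7, 4, 8, 5, 3, 6, 5, 7, 6, 4, 3, 5, 8, 4, 7, 5, 3, 6, 5, 9, 6, 4, 3, 7, 4, 6, 8, 5, 2, 3, 1, 2, 4, 6, 5, 4, 3, 2, 7, 1, 9, 5, 3, 7, 4, 5, 2, 3, 4, 2, 8, 5, 6, 7, 3, 5, 4, 7, 3, 6]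

/-- part of a word -/
def tauConj17p2 : List ℕ := [1, 2, 9, 3, 5, 8, 7, 3, 7, 4, 8, 1, 3, 2, 1, 6, 5, 6, 3, 4, 2, 3, 1, 2, 3, 4, 8, 7, 8, 3, 6, 5, 4, 9, 7, 3, 2, 8, 7, 8, 5, 4, 1, 3, 2, 8]

/-- the even generators with their conjugates -/
def tauConjs : List (List ℕ × List ℕ) := [([1, 1], [tauConj0p0].flatten),
  ([2, 1], [tauConj1p0, tauConj1p1, tauConj1p2, tauConj1p3, tauConj1p4].flatten),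
  ([3, 1], [tauConj2p0, tauConj2p1, tauConj2p2, tauConj2p3].flatten),
  ([4, 1], [tauConj3p0, tauConj3p1].flatten),
  ([5, 1], [tauConj4p0, tauConj4p1, tauConj4p2, tauConj4p3].flatten),
  ([6, 1], [tauConj5p0, tauConj5p1, tauConj5p2].flatten),
  ([7, 1], [tauConj6p0, tauConj6p1, tauConj6p2].flatten),
  ([8, 1], [tauConj7p0, tauConj7p1, tauConj7p2, tauConj7p3].flatten),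
  ([9, 1], [tauConj8p0, tauConj8p1, tauConj8p2].flatten),
  ([1, 1], [tauConj9p0].flatten),
  ([1, 2], [tauConj10p0, tauConj10p1, tauConj10p2].flatten),
  ([1, 3], [tauConj11p0, tauConj11p1, tauConj11p2, tauConj11p3].flatten),
  ([1, 4], [tauConj12p0, tauConj12p1].flatten),
  ([1, 5], [tauConj13p0, tauConj13p1, tauConj13p2, tauConj13p3].flatten),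
  ([1, 6], [tauConj14p0, tauConj14p1, tauConj14p2].flatten),
  ([1, 7], [tauConj15p0, tauConj15p1, tauConj15p2].flatten),
  ([1, 8], [tauConj16p0, tauConj16p1, tauConj16p2, tauConj16p3].flatten),
  ([1, 9], [tauConj17p0, tauConj17p1, tauConj17p2].flatten)]

end CfsgLib.Fi24Act
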