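import Cfsg.Agent.Lib.Fi24Act.Points
import Cfsg.Agent.Lib.Fi24Act.ChkT

/-!
The nine edges cover the points once, so that `k` acts on them.
-/

set_option autoImplicit false

namespace CfsgLib.Fi24Act

open CfsgLib.CosetEnum Cfsg.Spor CfsgLib.Fi24Pres
open CfsgLib.Fi23Pres (certA setupA rho)

theorem fix_comm {u : K} {s : ℕ} {r : List ℕ} (hc : Commute (prodW genK r) u)
    (hu : u ∈ subS (kind s)) : actK u (ptW s r) = ptW s r := by
  refine fix_ptK ?_
  rw [hc.inv_right.eq, mul_inv_cancel_right]
  exact inv_mem hu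

theorem right_S (s : ℕ) {u : K} (hu : u ∈ subRight) (h2 : kind s = 2 → u.1 ∈ fixA) :
    u ∈ subS (kind s) := by
  generalize kind s = t at h2 ⊢
  fin_cases t
  · trivial
  · exact right_le_S1 hu
  · exact h2 rfl

theorem prodW_genK_inv : ∀ w : List ℕ, (prodW genK w)⁻¹ = prodW genK w.reverse
  | [] => by simp
  | g :: w => by
    rw [prodW_cons, mul_inv_rev, prodW_genK_inv w, List.reverse_cons, prodW_append, prodW_cons,
      prodW_nil, mul_one, genK_inv]

theorem fixOK_spec {s : ℕ} {r w : List ℕ} {d : List ℕ × ℕ} (h : fixOK s r w d = true) :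
    prodW genK w ∈ subRight ∧ actK (prodW genK w) (ptW s r) = ptW s r := by
  simp only [fixOK, Bool.and_eq_true] at h
  refine ⟨right_mem h.1.1, ?_⟩
  have e := ptW_eq h.2 h.1.2
  rw [ptW, ptW, prodW_append] at e
  rw [ptW, actK_ptK, prodW_genK_inv]
  exact e

theorem idxW_mem {H : Subgroup K} (h : ∀ i < basicT.length, prodW genK (basicT.getD i []) ∈ H) :
    ∀ l : List ℕ, prodW genK (idxW l) ∈ H
  | [] => by simp [idxW]
  | i :: l => by
    rw [idxW, List.flatMap_cons, prodW_append]
    refine mul_mem ?_ (idxW_mem h l)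
    by_cases hi : i < basicT.length
    · exact h i hi
    · rw [List.getD_eq_default _ _ (Nat.not_lt.mp hi)]
      simp

/-- the stabiliser of the seventh edge, inside the letters commuting with `k` -/
noncomputable def fixSeven : Subgroup K := fixEdge 7 ⊓ subRight

theorem basic_seven {i : ℕ} (hi : i < basicT.length) :
    prodW genK (basicT.getD i []) ∈ fixSeven := by
  have h := genT_ok
  simp only [List.all_eq_true, List.mem_range, genTOK, Bool.and_eq_true] at h
  obtain ⟨a, b⟩ := h i hi
  obtain ⟨hu, ha⟩ := fixOK_spec a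
  obtain ⟨-, hb⟩ := fixOK_spec b
  refine ⟨⟨?_, ?_⟩, hu⟩
  · exact ha
  · exact hb

theorem chain_idx : chainWords levelsT = idxT.map idxW := rfl

theorem chain_seven : ∀ w ∈ chainWords levelsT, prodW genK w ∈ fixSeven := by
  intro w hw
  rw [chain_idx, List.mem_map] at hw
  obtain ⟨l, -, rfl⟩ := hw
  exact idxW_mem (fun i hi => basic_seven hi) l

theorem card_seven : 45349632 ≤ Nat.card ((fixEdge 7).subgroupOf subRight) := by
  set T := (fixEdge 7).subgroupOf subRight
  let f : subRight →* Equiv.Perm Pts :=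
    rho.comp ((MonoidHom.fst Fi23 (Multiplicative (ZMod 2))).comp subRight.subtype)
  have hle : chainGroup setupA.complete setupA.action levelsT ≤ T.map f := by
    refine (Subgroup.closure_le _).mpr ?_
    rintro y ⟨w, hw, rfl⟩
    obtain ⟨h7, hr⟩ := chain_seven w hw
    refine ⟨⟨prodW genK w, hr⟩, h7, ?_⟩
    show rho (prodW genK w).1 = _
    have hlt := levelsT_lt
    simp only [idxOK, List.all_eq_true, Nat.blt_eq] at hlt
    rw [fst_prodW, map_prodW]
    exact prodW_congr fun g hg => setupA.rho_gen g (hlt w hw g hg)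
  rw [← levelsT_size]
  exact ((chainSize_le setupA.complete setupA.action levelsT_ok).trans
    (Subgroup.card_le_of_le hle)).trans (Nat.card_le_card_of_surjective _ (f.subgroupMap_surjective T))

/-- the orbit lengths of the nine edges -/
def orbLen : Fin 9 → ℕ := ![1, 1, 1, 28431, 28431, 28431, 1080, 218400, 2160]

theorem inClasses_card (f : ℕ → Bool) : (inClasses f).card = cntN fun z => f (clsOf z) := by
  rw [cntN_eq, inClasses]

theorem relIndex_whole (i : Fin 9) (h : ∀ u ∈ subRight, u ∈ fixEdge i) :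
    (fixEdge i).relIndex subRight ≤ 1 :=
  le_of_eq (Subgroup.relIndex_eq_one.mpr h)

theorem fix_small (i : Fin 9) {u : K} (hu : u ∈ subRight)
    (h : ((i : ℕ) < 3) ∨ ((i : ℕ) < 6 ∧ u.1 ∈ fixA)) : u ∈ fixEdge i := by
  have h2 : ∀ s, ((i : ℕ) < 6 ∧ u.1 ∈ fixA) ∨ kind s ≠ 2 → u ∈ subS (kind s) := fun s hs =>
    right_S s hu fun e => hs.elim And.right fun hne => absurd e hne
  have hc10 : Commute (prodW genK [10]) u := by simpa using ten_central u
  rcases h with h | ⟨h, hA⟩
  · obtain ⟨i, hi⟩ := i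
    simp only at h
    interval_cases i
    · exact ⟨fix_comm (r := []) (by simp) (h2 0 (Or.inr (by decide))),
        fix_comm (r := []) (by simp) (h2 1 (Or.inr (by decide)))⟩
    · exact ⟨fix_comm (r := []) (by simp) (h2 1 (Or.inr (by decide))),
        fix_comm (r := []) (by simp) (h2 0 (Or.inr (by decide)))⟩
    · exact ⟨fix_comm (r := [10]) hc10 (h2 1 (Or.inr (by decide))),
        fix_comm (r := [10]) hc10 (h2 1 (Or.inr (by decide)))⟩
  · have hs : ∀ s, u ∈ subS (kind s) := fun s => right_S s hu fun _ => hA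
    have hc0 : Commute (prodW genK [0]) u := by simpa using (fix_comm_zero hA).symm
    have hc : Commute (prodW genK [10, 0]) u := by
      rw [prodW_cons, prodW_cons, prodW_nil, mul_one]
      exact (ten_central u).mul_left (fix_comm_zero hA).symm
    obtain ⟨i, hi⟩ := i
    simp only at h
    interval_cases i
    · exact ⟨fix_comm (r := []) (by simp) (hs 0), fix_comm (r := []) (by simp) (hs 1)⟩
    · exact ⟨fix_comm (r := []) (by simp) (hs 1), fix_comm (r := []) (by simp) (hs 0)⟩
    · exact ⟨fix_comm (r := [10]) hc10 (hs 1), fix_comm (r := [10]) hc10 (hs 1)⟩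
    · exact ⟨fix_comm (r := [0]) hc0 (hs 1), fix_comm (r := [0]) hc0 (hs 1)⟩
    · exact ⟨fix_comm (r := [10, 0]) hc (hs 1), fix_comm (r := []) (by simp) (hs 2)⟩
    · exact ⟨fix_comm (r := []) (by simp) (hs 2), fix_comm (r := [10, 0]) hc (hs 1)⟩

theorem class_numbers :
    (inClasses fun c => Nat.beq c 3).card = 28431 ∧ (inClasses fun c => Nat.beq c 0).card = 1080 ∧
      (inClasses fun c => Nat.beq c 1 || Nat.beq c 2).card = 2160 := by
  have h := edge_class_sizes
  simp only [Bool.and_eq_true] at h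
  exact ⟨(inClasses_card _).trans (Nat.eq_of_beq_eq_true h.1.1),
    (inClasses_card _).trans (Nat.eq_of_beq_eq_true h.1.2),
    (inClasses_card _).trans (Nat.eq_of_beq_eq_true h.2)⟩

theorem fix_two {u : K} {r : List ℕ} (h : rho u.1 (edgePt r) = edgePt r) :
    actK u (ptW 2 r) = ptW 2 r :=
  fix_ptK_two h

theorem relIndex_le_len (i : Fin 9) : (fixEdge i).relIndex subRight ≤ orbLen i := by
  have hcl := edge_classes
  simp only [Bool.and_eq_true, Bool.or_eq_true] at hcl
  obtain ⟨⟨hA, h6⟩, h8⟩ := hcl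
  obtain ⟨n3, n0, n12⟩ := class_numbers
  have horb3 : ∀ u ∈ subRight, rho u.1 ptA ∈ inClasses fun c => Nat.beq c 3 := by
    intro u hu
    simp only [inClasses, Finset.mem_filter, Finset.mem_univ, true_and]
    rw [(right_zero hu ptA).2.mpr (Nat.eq_of_beq_eq_true hA)]
    rfl
  have hsmall : ∀ j : Fin 9, (j : ℕ) < 6 → (fixEdge j).relIndex subRight ≤ 28431 := fun j hj =>
    n3 ▸ relIndex_le ptA _ horb3 fun u hu e => fix_small j hu (Or.inr ⟨hj, e⟩)
  obtain ⟨i, hi⟩ := i
  interval_cases i
  · exact relIndex_whole _ fun u hu => fix_small _ hu (Or.inl (by simp))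
  · exact relIndex_whole _ fun u hu => fix_small _ hu (Or.inl (by simp))
  · exact relIndex_whole _ fun u hu => fix_small _ hu (Or.inl (by simp))
  · exact hsmall _ (by simp)
  · exact hsmall _ (by simp)
  · exact hsmall _ (by simp)
  · show (fixEdge 6).relIndex subRight ≤ 1080
    refine (relIndex_le (T := fixEdge 6) (edgePt [1, 0]) (inClasses fun c => Nat.beq c 0) (fun u hu => ?_)
      (fun u hu e => ⟨fix_two e, fix_two e⟩)).trans n0.le
    simp only [inClasses, Finset.mem_filter, Finset.mem_univ, true_and]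
    rw [(right_zero hu _).1.mpr (by rw [edgePt_val]; exact Nat.eq_of_beq_eq_true h6)]
    rfl
  · have h := ((fixEdge 7).subgroupOf subRight).card_mul_index
    have hle : Nat.card ((fixEdge 7).subgroupOf subRight) * (fixEdge 7).relIndex subRight ≤
        45349632 * 218400 := by
      rw [Subgroup.relIndex, h]
      exact right_card_le
    show (fixEdge 7).relIndex subRight ≤ 218400
    exact Nat.le_of_mul_le_mul_left ((Nat.mul_le_mul_right _ card_seven).trans hle) (by norm_num)
  · show (fixEdge 8).relIndex subRight ≤ 2160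
    refine (relIndex_le (T := fixEdge 8) (edgePt rho8) (inClasses fun c => Nat.beq c 1 || Nat.beq c 2) (fun u hu => ?_)
      (fun u hu e => ⟨fix_two e, ?_⟩)).trans n12.le
    · simp only [inClasses, Finset.mem_filter, Finset.mem_univ, true_and, Bool.or_eq_true]
      have hz := right_zero hu (edgePt rho8)
      have hlt := clsOf_lt (rho u.1 (edgePt rho8) : ℕ)
      have hne : clsOf (edgePt rho8 : ℕ) ≠ 0 ∧ clsOf (edgePt rho8 : ℕ) ≠ 3 := by
        rw [edgePt_val]
        cases of_decide_eq_true h8 with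
        | inl h' => rw [Nat.eq_of_beq_eq_true h']; decide
        | inr h' => rw [Nat.eq_of_beq_eq_true h']; decide
      have h0 : clsOf (rho u.1 (edgePt rho8) : ℕ) ≠ 0 := fun e => hne.1 (hz.1.mp e)
      have h3 : clsOf (rho u.1 (edgePt rho8) : ℕ) ≠ 3 := fun e => hne.2 (hz.2.mp e)
      generalize clsOf (rho u.1 (edgePt rho8) : ℕ) = c at hlt h0 h3 ⊢
      interval_cases c <;> simp_all
    · have e8 : sigma8 = rho8 := by decide +kernel
      show actK u (ptW target8 sigma8) = ptW target8 sigma8
      rw [e8]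
      exact fix_two e

/-- the orbit of an edge together with the edge -/
abbrev Dom : Type := Σ i : Fin 9, subRight ⧸ (fixEdge i).subgroupOf subRight

/-- the point of a translate of a source -/
noncomputable def srcAt (d : Dom) : X := actK d.2.out.1 (src d.1)

theorem srcAt_mk (i : Fin 9) (u : subRight) :
    srcAt ⟨i, QuotientGroup.mk u⟩ = actK u.1 (src i) := by
  obtain ⟨h, e⟩ := QuotientGroup.mk_out_eq_mul ((fixEdge i).subgroupOf subRight) u
  simp only [srcAt, e, Subgroup.coe_mul, map_mul, Equiv.Perm.mul_apply]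
  rw [show actK (h.1 : K) (src i) = src i from (mem_fixEdge.mp h.2).1]

theorem hit {s : Fin 3} {r : List ℕ} {x s0 u : K} (hs0 : s0 ∈ subS s) (hu : u ∈ subRight)
    (hx : x = s0 * prodW genK r * u) (i : Fin 9) (hi : src i = ptK s (prodW genK r)) :
    ∃ d : Dom, srcAt d = ptK s x := by
  refine ⟨⟨i, QuotientGroup.mk ⟨u⁻¹, inv_mem hu⟩⟩, ?_⟩
  rw [srcAt_mk, hi, actK_ptK, inv_inv, ptK_eq, hx]
  simp only [mul_inv_rev, mul_assoc, mul_inv_cancel_left]
  exact inv_mem hs0

theorem srcAt_surjective : Function.Surjective srcAt := by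
  intro p
  obtain ⟨s, x, rfl⟩ := ptK_surj p
  fin_cases s
  · refine hit (r := []) (s0 := x) trivial (one_mem subRight) (by simp) 0 rfl
  · obtain ⟨j, hj, s0, hs0, u, hu, hx⟩ := coveredBy_all (fun h => stab_mem h) x
    have hj5 : j < 5 := hj
    interval_cases j
    · exact hit hs0 hu hx 1 rfl
    · exact hit hs0 hu hx 2 rfl
    · exact hit hs0 hu hx 3 rfl
    · exact hit hs0 hu hx 4 rfl
    · exact hit hs0 hu hx 7 rfl
  · obtain ⟨j, hj, s0, hs0, u, hu, hx⟩ := covered_two_fix x
    have hj3 : j < 3 := hj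
    interval_cases j
    · exact hit hs0 hu hx 5 rfl
    · exact hit hs0 hu hx 6 rfl
    · exact hit hs0 hu hx 8 rfl

theorem card_dom_le : Nat.card Dom ≤ 306936 := by
  have : Finite K := inferInstance
  rw [Nat.card_sigma]
  calc (∑ i : Fin 9, Nat.card (subRight ⧸ (fixEdge i).subgroupOf subRight))
      ≤ ∑ i : Fin 9, orbLen i := Finset.sum_le_sum fun i _ => relIndex_le_len i
    _ = 306936 := by decide

theorem card_X : Nat.card X = 306936 :=
  le_antisymm ((Nat.card_le_card_of_surjective _ srcAt_surjective).trans card_dom_le) card_X_ge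

theorem srcAt_bijective : Function.Bijective srcAt := by
  refine (Nat.bijective_iff_surjective_and_card _).mpr ⟨srcAt_surjective, ?_⟩
  exact le_antisymm (card_dom_le.trans card_X.ge) (Nat.card_le_card_of_surjective _ srcAt_surjective)

/-- `k` on the points -/
noncomputable def kFun (p : X) : X :=
  let d := (Equiv.ofBijective srcAt srcAt_bijective).symm p
  actK d.2.out.1 (dst d.1)

theorem kFun_src (i : Fin 9) {u : K} (hu : u ∈ subRight) :
    kFun (actK u (src i)) = actK u (dst i) := by
  have e : (Equiv.ofBijective srcAt srcAt_bijective).symm (actK u (src i)) =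
      ⟨i, QuotientGroup.mk ⟨u, hu⟩⟩ := by
    rw [Equiv.symm_apply_eq]
    exact (srcAt_mk i ⟨u, hu⟩).symm
  unfold kFun
  dsimp only
  rw [e]
  dsimp only
  obtain ⟨h, eo⟩ := QuotientGroup.mk_out_eq_mul ((fixEdge i).subgroupOf subRight) (⟨u, hu⟩ : subRight)
  rw [eo, Subgroup.coe_mul, map_mul, Equiv.Perm.mul_apply]
  rw [show actK (h.1 : K) (dst i) = dst i from (mem_fixEdge.mp h.2).2]

theorem kFun_comm {u : K} (hu : u ∈ subRight) (p : X) : kFun (actK u p) = actK u (kFun p) := by
  obtain ⟨⟨i, q⟩, rfl⟩ := srcAt_surjective p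
  obtain ⟨v, rfl⟩ := QuotientGroup.mk_surjective q
  rw [srcAt_mk, ← Equiv.Perm.mul_apply, ← map_mul, kFun_src i (mul_mem hu v.2), kFun_src i v.2,
    map_mul, Equiv.Perm.mul_apply]

end CfsgLib.Fi24Act
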