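import Cfsg.Agent.Lib.Fi24Pres.Facts

/-!
Checks of loops of walks between the cosets.
-/

set_option autoImplicit false

namespace CfsgLib.Fi24Act

open CfsgLib.Fi24Pres

/-- the edges as a list -/
noncomputable def edgeList : List Fact := facts7 ++ [fact8]

/-- a loop: the witnesses of the steps and of the closing -/
structure LoopWit where
  /-- the steps -/
  ws : List Wit
  /-- stabiliser word of the closing -/
  st : List ℕ
  /-- its class -/
  cls : ℕ

/-- a word leads back to the starting coset -/
noncomputable def loopOK (Q : List ℕ) (s : ℕ) (h : List ℕ) (w : LoopWit) : Bool :=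
  ltAll 11 h &&
    match walk edgeList transW Q s h w.ws with
    | some (t, h') => Nat.beq t s && stabOK transW s w.st w.cls &&
        eqK h' (stabW transW s w.st w.cls ++ h)
    | none => false

/-- a word leads back from the source of an edge, moved by a word -/
noncomputable def loopFrom (Q : List ℕ) (i : ℕ) (v : List ℕ) (w : LoopWit) : Bool :=
  match edgeList[i]? with
  | some f => loopOK Q f.s (f.rho ++ v) w
  | none => false

/-- the square of `k` -/
def sqQ : List ℕ := [11, 11]

/-- the braid of `k` and `l` -/
def tenQ : List ℕ := [11, 10, 11, 10, 11, 10]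

/-- the braid of `k` and `a` -/
def zeroQ : List ℕ := [11, 0, 11, 0, 11, 0]

/-- the commutator of `k` and the third stabiliser element -/
def tauQ : List ℕ := [11] ++ tauW ++ [11] ++ tauW.reverse

end CfsgLib.Fi24Act
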