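import Cfsg.Agent.Lib.Fi24Act.KPerm
import Cfsg.Agent.Lib.Fi24Act.LoopDefs
import Cfsg.Agent.Lib.Fi24Act.ChkLoopSq

/-!
Walks act on the points; `k` is an involution.
-/

set_option autoImplicit false

namespace CfsgLib.Fi24Act

open CfsgLib.CosetEnum Cfsg.Spor CfsgLib.Fi24Pres

theorem edgeList_get {i : ℕ} {f : Fact} (h : edgeList[i]? = some f) :
    ∃ hi : i < 9, edge ⟨i, hi⟩ = f := by
  obtain ⟨hi, e⟩ := List.getElem?_eq_some_iff.mp h
  have hlen : edgeList.length = 9 := rfl
  refine ⟨hlen ▸ hi, ?_⟩
  show edgeList.getD i ⟨0, [], 0, []⟩ = f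
  rw [List.getD_eq_getElem _ _ hi]
  exact e

/-- one letter on the points -/
noncomputable def stepX (g : ℕ) : X → X :=
  if g < 11 then fun p => actK (genK g) p else if g = 11 then kFun else fun p => p

/-- a word on the points, read from the left -/
noncomputable def appW (Q : List ℕ) (p : X) : X := Q.foldl (fun p g => stepX g p) p

theorem appW_nil (p : X) : appW [] p = p := rfl

theorem appW_cons (g : ℕ) (Q : List ℕ) (p : X) : appW (g :: Q) p = appW Q (stepX g p) := rfl

theorem appW_append (Q R : List ℕ) (p : X) : appW (Q ++ R) p = appW R (appW Q p) := by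
  simp [appW, List.foldl_append]

theorem ptW_shift (s : ℕ) (h u : List ℕ) :
    ptW s (h ++ u) = actK (prodW genK u)⁻¹ (ptW s h) := by
  rw [ptW, ptW, actK_ptK, inv_inv, prodW_append]

theorem kStep_X {s : ℕ} {h : List ℕ} {w : Wit} {t : ℕ} {h' : List ℕ}
    (e : kStep edgeList transW s h w = some (t, h')) : kFun (ptW s h) = ptW t h' := by
  unfold kStep at e
  cases hfw : edgeList[w.id]? with
  | none => simp [hfw] at e
  | some f =>
    obtain ⟨hi, hf⟩ := edgeList_get hfw
    rw [hfw] at e
    dsimp only at e
    split at e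
    · rename_i hc
      simp only [Bool.and_eq_true] at hc
      obtain ⟨⟨⟨⟨⟨hfs, hst⟩, hu⟩, -⟩, -⟩, heq⟩ := hc
      obtain rfl := Nat.eq_of_beq_eq_true hfs
      simp only [Option.some.injEq, Prod.mk.injEq] at e
      obtain ⟨rfl, rfl⟩ := e
      rw [ptW_eq heq hst, ptW_shift, ptW_shift]
      have hmem : (prodW genK w.u)⁻¹ ∈ subRight := inv_mem (right_mem hu)
      have h1 := kFun_src ⟨w.id, hi⟩ hmem
      rw [src, dst, hf] at h1
      exact h1
    · simp at e

theorem walk_X : ∀ {Q : List ℕ} {s : ℕ} {h : List ℕ} {ws : List Wit} {t : ℕ} {h' : List ℕ},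
    walk edgeList transW Q s h ws = some (t, h') → appW Q (ptW s h) = ptW t h'
  | [], s, h, ws, t, h', e => by
    simp only [walk, Option.some.injEq, Prod.mk.injEq] at e
    obtain ⟨rfl, rfl⟩ := e
    rfl
  | g :: Q, s, h, ws, t, h', e => by
    rw [walk.eq_def] at e
    dsimp only at e
    rw [appW_cons]
    split at e
    · rename_i hg
      rw [Nat.blt_eq] at hg
      rw [stepX, if_pos hg, actK_ptW]
      exact walk_X e
    · split at e
      · rename_i hg
        obtain rfl := Nat.eq_of_beq_eq_true hg
        rw [stepX, if_neg (by norm_num), if_pos rfl]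
        cases ws with
        | nil => simp at e
        | cons w ws =>
          dsimp only at e
          cases hk : kStep edgeList transW s h w with
          | none => simp [hk] at e
          | some q =>
            obtain ⟨t1, h1⟩ := q
            simp only [hk] at e
            rw [kStep_X hk]
            exact walk_X e
      · simp at e

theorem loop_X {Q : List ℕ} {s : ℕ} {h : List ℕ} {w : LoopWit} (e : loopOK Q s h w = true) :
    appW Q (ptW s h) = ptW s h := by
  simp only [loopOK, Bool.and_eq_true] at e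
  obtain ⟨-, e⟩ := e
  cases hw : walk edgeList transW Q s h w.ws with
  | none => simp [hw] at e
  | some q =>
    obtain ⟨t, h'⟩ := q
    simp only [hw, Bool.and_eq_true] at e
    obtain rfl := Nat.eq_of_beq_eq_true e.1.1
    rw [walk_X hw]
    exact ptW_eq e.2 e.1.2

theorem loopFrom_X {Q v : List ℕ} {i : ℕ} {w : LoopWit} (e : loopFrom Q i v w = true) :
    ∃ hi : i < 9, appW Q (actK (prodW genK v)⁻¹ (src ⟨i, hi⟩)) =
      actK (prodW genK v)⁻¹ (src ⟨i, hi⟩) := by
  unfold loopFrom at e
  cases hf : edgeList[i]? with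
  | none => simp [hf] at e
  | some f =>
    rw [hf] at e
    obtain ⟨hi, hfe⟩ := edgeList_get hf
    have h := loop_X e
    rw [ptW_shift] at h
    refine ⟨hi, ?_⟩
    rw [src, hfe]
    exact h

/-- every letter of a word commutes with an element on the points -/
theorem appW_comm {Q : List ℕ} {c : K}
    (hc : ∀ g ∈ Q, ∀ p, stepX g (actK c p) = actK c (stepX g p)) (p : X) :
    appW Q (actK c p) = actK c (appW Q p) := by
  induction Q generalizing p with
  | nil => rfl
  | cons g Q ih =>
    rw [List.forall_mem_cons] at hc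
    rw [appW_cons, appW_cons, hc.1, ih hc.2]

theorem step_k {c : K} (hc : c ∈ subRight) (p : X) :
    stepX 11 (actK c p) = actK c (stepX 11 p) := by
  rw [stepX, if_neg (by norm_num), if_pos rfl]
  exact kFun_comm hc p

theorem step_letter {c : K} {g : ℕ} (hg : g < 11) (hc : Commute (genK g) c) (p : X) :
    stepX g (actK c p) = actK c (stepX g p) := by
  rw [stepX, if_pos hg, ← Equiv.Perm.mul_apply, ← Equiv.Perm.mul_apply, ← map_mul, ← map_mul, hc.eq]

theorem points_all (P : X → Prop) (h : ∀ (i : Fin 9) (u : K), u ∈ subRight → P (actK u (src i))) (p : X) :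
    P p := by
  obtain ⟨⟨i, q⟩, rfl⟩ := srcAt_surjective p
  exact h i _ q.out.2

theorem kFun_kFun (p : X) : kFun (kFun p) = p := by
  refine points_all (fun q => kFun (kFun q) = q) (fun i u hu => ?_) p
  show kFun (kFun (actK u (src i))) = actK u (src i)
  have h := sq_loops
  simp only [List.all_eq_true, List.mem_range] at h
  obtain ⟨_, h1⟩ := loopFrom_X (h i i.2)
  rw [prodW_nil, inv_one, map_one, Equiv.Perm.one_apply] at h1
  rw [kFun_comm hu, kFun_comm hu]
  have e : appW sqQ (src i) = kFun (kFun (src i)) := rfl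
  rw [← e]
  exact congrArg _ h1

/-- `k` as a permutation -/
noncomputable def kPerm : Equiv.Perm X := Function.Involutive.toPerm kFun kFun_kFun

/-- the letters as permutations -/
noncomputable def genX (g : ℕ) : Equiv.Perm X :=
  if g < 11 then actK (genK g) else if g = 11 then kPerm else 1

theorem genX_apply (g : ℕ) (p : X) : genX g p = stepX g p := by
  unfold genX stepX
  split
  · rfl
  · split <;> rfl

theorem appW_eq : ∀ (Q : List ℕ) (p : X), appW Q p = prodW genX Q.reverse p
  | [], p => by simp [appW]
  | g :: Q, p => by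
    rw [appW_cons, appW_eq Q, List.reverse_cons, prodW_append, prodW_cons, prodW_nil, mul_one,
      Equiv.Perm.mul_apply, genX_apply]

theorem genX_sq (g : ℕ) : genX g * genX g = 1 := by
  unfold genX
  split
  · rw [← map_mul, mul_eq_one_iff_eq_inv.mpr (genK_inv g).symm, map_one]
  · split
    · exact Equiv.ext kFun_kFun
    · exact one_mul _

end CfsgLib.Fi24Act
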