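import Cfsg.Agent.Lib.Fi24Act.Rel
import Cfsg.Agent.Lib.Fi24Pres.Index

/-!
The presented Fi24 acts on the 306936 points: its order, and the stabiliser `subH`.
-/

set_option autoImplicit false

namespace CfsgLib.Fi24Act

open CfsgLib.CosetEnum Cfsg.Spor CfsgLib.Fi24Pres
open CfsgLib.Fi23Pres (certA setupA rho)

theorem cube_one {G : Type*} [Group G] {a b : G} (ha : a * a = 1) (hb : b * b = 1)
    (h : a * b * a = b * a * b) : (a * b) ^ 3 = 1 := by
  have e : (a * b) ^ 3 = a * b * a * (b * a * b) := by simp only [pow_succ, pow_zero, one_mul, mul_assoc]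
  rw [e, ← h]
  simp only [mul_assoc]
  rw [← mul_assoc a a, ha, one_mul, ← mul_assoc b b, hb, one_mul, ha]

theorem exists_hom : ∃ Φ : Fi24 →* Equiv.Perm X, ∀ g < 12, Φ (gen g) = genX g := by
  let φ : Fi24.Gen → Equiv.Perm X := fun x => genX (letters.idxOf x)
  have hidx : ∀ x : Fi24.Gen, letters.idxOf x < 12 ∧ letters.getD (letters.idxOf x) .l = x := by
    intro x; cases x <;> decide
  have hgen : ∀ k < 12, genOf letters φ k = genX k := fun k hk => by
    rw [genOf_of_lt (show k < letters.length from hk)]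
    simp only [φ, List.Nodup.idxOf_getElem (by decide) k (show k < letters.length from hk)]
  have hw : ∀ w : List ℕ, (∀ g ∈ w, g < 12) → prodW (genOf letters φ) w = prodW genX w :=
    fun w hw => prodW_congr fun g hg => hgen g (hw g hg)
  have hR := rel24
  have hrels : ∀ r ∈ coxRelators Fi24.edges ∪ {r | r ∈ Fi24.extra}, FreeGroup.lift φ r = 1 := by
    rintro r (⟨x, -, y, -, rfl⟩ | hr)
    · simp only [map_pow, map_mul, FreeGroup.lift_apply_of]
      have hlab := labels _ (hidx x).1 _ (hidx y).1
      rw [(hidx x).2, (hidx y).2] at hlab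
      show (genX _ * genX _) ^ _ = 1
      rw [hlab]
      by_cases e : letters.idxOf x = letters.idxOf y
      · rw [if_pos e, e, pow_one, hR.sq]
      rw [if_neg e]
      cases ha : adjB (letters.idxOf x) (letters.idxOf y)
      · rw [if_neg (by simp), pow_two,
          (hR.cox.comm _ (hidx x).1 _ (hidx y).1 ha).symm.mul_mul_mul_comm, hR.sq, hR.sq, one_mul]
      · rw [if_pos rfl]
        exact cube_one (hR.sq _) (hR.sq _) (hR.cox.braid _ (hidx x).1 _ (hidx y).1 ha)
    · simp only [Set.mem_ofPred_eq, Fi24.extra, List.mem_cons, List.not_mem_nil, or_false] at hr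
      have h7 : ∀ g ∈ sevenW, g < 12 := by decide +kernel
      have hz : ∀ g ∈ zWord24, g < 12 := by decide +kernel
      have hrev : ∀ w : List ℕ, prodW genX w.reverse = (prodW genX w)⁻¹ := by
        intro w
        induction w with
        | nil => simp
        | cons g w ih =>
          rw [List.reverse_cons, prodW_append, ih, prodW_cons, prodW_cons, prodW_nil, mul_one,
            mul_inv_rev, inv_eq_of_mul_eq_one_right (genX_sq g)]
      rcases hr with rfl | rfl
      · have h1 : prodW (genOf letters φ) (10 :: sevenW.reverse) = 1 := by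
          rw [hw _ (by simpa using h7), prodW_cons, hrev, ← hR.ten, mul_inv_cancel]
        refine Eq.trans ?_ h1
        rw [prodW_cons, show prodW (genOf letters φ) sevenW.reverse =
            (prodW (genOf letters φ) sevenW)⁻¹ by
          rw [hw _ (by simpa using h7), hrev, hw _ h7],
          sevenW, prodW_powWord, map_mul, map_inv, map_pow]
        simp [prodW, genOf, letters, Fi24.l, Fi24.a, Fi24.b, Fi24.c, Fi24.d, Fi24.e, Fi24.f,
          Fi24.h, mul_assoc]
      · have h1 : prodW (genOf letters φ) zWord24 = 1 := by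
          rw [hw _ hz, z_genX]
        refine Eq.trans ?_ h1
        rw [map_pow, zWord24, prodW_powWord]
        simp [prodW, genOf, letters, Fi24.l, Fi24.k, Fi24.a, Fi24.b, Fi24.c, Fi24.d, Fi24.e,
          Fi24.f, Fi24.g, Fi24.j, Fi24.h, Fi24.i, mul_assoc]
  refine ⟨PresentedGroup.toGroup hrels, fun k hk => ?_⟩
  rw [← hgen k hk, gen, presGen, genOf_of_lt (show k < letters.length from hk),
    genOf_of_lt (show k < letters.length from hk)]
  exact PresentedGroup.toGroup.of hrels

/-- the presented Fi24 on the points -/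
noncomputable def actF : Fi24 →* Equiv.Perm X := exists_hom.choose

theorem actF_gen {g : ℕ} (hg : g < 12) : actF (gen g) = genX g := exists_hom.choose_spec g hg

theorem actF_psiK (x : K) : actF (psiK x) = actK x := by
  have h : actF.comp psiK = actK := by
    refine MonoidHom.eq_of_eqOn_dense gen_K_top ?_
    rintro y ⟨g, hg, rfl⟩
    rw [MonoidHom.comp_apply, psiK_genK hg, actF_gen (by omega), genX_small hg]
  exact DFunLike.congr_fun h x

/-- the base point -/
noncomputable def pt0 : X := ptK 0 1

/-- the centraliser of the letter `l` fixes the base point -/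
theorem subH_fix : subH ≤ (MulAction.stabilizer (Equiv.Perm X) pt0).comap actF := by
  rw [subH_eq]
  rintro y ⟨x, rfl⟩
  show actF (psiK x) pt0 = pt0
  rw [actF_psiK, pt0, actK_ptK, ptK_eq]
  trivial

theorem pt_move (s : Fin 3) (x : K) : ptK s x = actK x⁻¹ (ptK s 1) := by
  rw [actK_ptK, inv_inv, one_mul]

theorem edge_vals : (edge 0).s = 0 ∧ (edge 0).rho = [] ∧ (edge 0).t = 1 ∧ (edge 0).sigma = [] ∧
    (edge 4).s = 1 ∧ (edge 4).rho = [10, 0] ∧ (edge 4).t = 2 ∧ (edge 4).sigma = [] :=
  ⟨rfl, rfl, rfl, rfl, rfl, rfl, rfl, rfl⟩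

theorem transitive (p : X) : ∃ g : Fi24, actF g pt0 = p := by
  have hk : ∀ i : Fin 9, actF (gen 11) (src i) = dst i := by
    intro i
    rw [actF_gen (by norm_num), genX_apply, stepX, if_neg (by norm_num), if_pos rfl]
    simpa using kFun_src i (one_mem subRight)
  obtain ⟨e0, e1, e2, e3, f0, f1, f2, f3⟩ := edge_vals
  have hW : ∀ s : ℕ, ptW s [] = ptK (kind s) 1 := fun s => by rw [ptW, prodW_nil]
  have h0 : ∃ g, actF g pt0 = ptK 1 1 := ⟨gen 11, by
    have := hk 0
    rw [src, dst, e0, e1, e2, e3, hW, hW] at this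
    exact this⟩
  have h1 : ∃ g, actF g pt0 = ptK 2 1 := by
    obtain ⟨g, hg⟩ := h0
    have h4 := hk 4
    rw [src, dst, f0, f1, f2, f3, hW, show ptW 1 [10, 0] = actK (prodW genK [10, 0])⁻¹ (ptW 1 []) from
      ptW_shift 1 [] [10, 0], hW] at h4
    refine ⟨gen 11 * psiK (prodW genK [10, 0])⁻¹ * g, ?_⟩
    rw [map_mul, map_mul, Equiv.Perm.mul_apply, Equiv.Perm.mul_apply, hg, actF_psiK]
    exact h4
  obtain ⟨s, x, rfl⟩ := ptK_surj p
  obtain ⟨g, hg⟩ : ∃ g, actF g pt0 = ptK s 1 := by
    fin_cases s
    exacts [⟨1, by rw [map_one]; rfl⟩, h0, h1]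
  exact ⟨psiK x⁻¹ * g, by rw [map_mul, Equiv.Perm.mul_apply, hg, actF_psiK, ← pt_move]⟩

theorem actK_injective : Function.Injective actK := by
  rw [injective_iff_map_eq_one]
  intro u hu
  have hfix : ∀ s x, x * u⁻¹ * x⁻¹ ∈ subS s := fun s x => by
    have h : actK u (ptK s x) = ptK s x := by rw [hu]; rfl
    rw [actK_ptK, ptK_eq] at h
    exact h
  have hu1 : u.1 = 1 := by
    apply Fi23Pres.card_faithful.2
    rw [map_one]
    refine Equiv.ext fun z => ?_
    obtain ⟨y, hy⟩ := setupA.pretransitive z
    obtain ⟨y0, hy0⟩ := setupA.pretransitive ptA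
    have h : (rho (y0 * y⁻¹ * u.1⁻¹ * (y0 * y⁻¹)⁻¹)) ptA = ptA :=
      hfix 2 (y0 * y⁻¹, 1)
    have hz : rho (y0 * y⁻¹)⁻¹ ptA = z := by
      rw [mul_inv_rev, inv_inv, map_mul, map_inv, Equiv.Perm.mul_apply, ← hy0,
        ← Equiv.Perm.mul_apply (rho y0)⁻¹, inv_mul_cancel, Equiv.Perm.one_apply, hy]
    rw [map_mul, map_mul, Equiv.Perm.mul_apply, Equiv.Perm.mul_apply, hz,
      map_inv rho u.1] at h
    rw [Equiv.Perm.one_apply]
    have h2 : (rho u.1)⁻¹ z = z := (rho (y0 * y⁻¹)).injective <| by
      rw [h, ← hz, ← Equiv.Perm.mul_apply, ← map_mul, mul_inv_cancel, map_one, Equiv.Perm.one_apply]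
    exact (Equiv.Perm.inv_eq_iff_eq.mp h2).symm
  have hu2 : u.2 = 1 := by
    have h := hfix 1 1
    rw [one_mul, inv_one, mul_one] at h
    obtain ⟨σ, hσ, e⟩ := h
    rw [Prod.fst_inv, hu1, inv_one] at hσ
    rw [hσ.unique Permutes.one, map_one, Prod.snd_inv, map_inv, inv_eq_one] at e
    exact signZ_inj (e.trans (map_one signZ).symm)
  exact Prod.ext hu1 hu2

theorem psiK_injective : Function.Injective psiK := fun x y h =>
  actK_injective (by rw [← actF_psiK, ← actF_psiK, h])

theorem card_subH : Nat.card subH = 8178940946586009600 := by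
  rw [subH_eq, ← card_K]
  exact (Nat.card_congr (MonoidHom.ofInjective psiK_injective).toEquiv).symm

theorem stab_index : ((MulAction.stabilizer (Equiv.Perm X) pt0).comap actF).index = 306936 := by
  letI : MulAction Fi24 X := MulAction.compHom X actF
  have : MulAction.IsPretransitive Fi24 X := ⟨fun p q => by
    obtain ⟨g, rfl⟩ := transitive p
    obtain ⟨g', rfl⟩ := transitive q
    exact ⟨g' * g⁻¹, by
      show actF (g' * g⁻¹) (actF g pt0) = actF g' pt0
      rw [← Equiv.Perm.mul_apply, ← map_mul, inv_mul_cancel_right]⟩⟩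
  have h := MulAction.index_stabilizer_of_transitive Fi24 pt0
  rw [card_X] at h
  exact h

theorem subH_index : subH.index = 306936 := by
  have := finite_card.1
  have h1 : 306936 ≤ subH.index :=
    stab_index ▸ Nat.le_of_dvd (Nat.pos_of_ne_zero Subgroup.index_ne_zero_of_finite)
      (Subgroup.index_dvd_of_le subH_fix)
  refine le_antisymm ?_ h1
  refine Nat.le_of_mul_le_mul_left ?_ (show 0 < 8178940946586009600 by norm_num)
  calc 8178940946586009600 * subH.index = Nat.card subH * subH.index := by rw [card_subH]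
    _ = Nat.card Fi24 := subH.card_mul_index
    _ ≤ 2510411418381323442585600 := finite_card.2
    _ = 8178940946586009600 * 306936 := by norm_num

theorem card_Fi24 : Nat.card Fi24 = 2510411418381323442585600 := by
  rw [← subH.card_mul_index, card_subH, subH_index]

/-- the stabiliser of the base point is `subH` -/
theorem stab_eq : (MulAction.stabilizer (Equiv.Perm X) pt0).comap actF = subH := by
  have := finite_card.1
  refine (Subgroup.eq_of_le_of_card_ge subH_fix ?_).symm
  have h := ((MulAction.stabilizer (Equiv.Perm X) pt0).comap actF).card_mul_index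
  rw [stab_index, card_Fi24] at h
  rw [card_subH]
  omega

end CfsgLib.Fi24Act
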