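import Cfsg.Agent.Lib.Fi24Act.SymDefs
import Cfsg.Agent.Lib.Fi24Pres.Facts

/-!
Checks of orbits on the points.
-/

set_option autoImplicit false

namespace CfsgLib.Fi24Act

open CfsgLib.CosetEnum CfsgLib.Fi24Pres

/-- an orbit: a word taking the point of `a` into it, a tree, the points -/
structure OrbWit where
  /-- the word -/
  v : List ℕ
  /-- the tree -/
  tree : List (ℕ × ℕ)
  /-- the orbit -/
  mask : ℕ

/-- the check of one orbit -/
noncomputable def orbTreeOK (gens : List (List ℕ)) (o : OrbWit) : Bool :=
  rightOK o.v &&
    match reach Fi23Pres.certA gens o.tree (2 ^ Fi23Pres.certA.run pointA o.v) with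
    | some m => Nat.beq m o.mask
    | none => false

/-- the union of the orbits -/
def orbUnion : List OrbWit → ℕ
  | [] => 0
  | o :: os => o.mask ||| orbUnion os

/-- a point outside the classes is in an orbit -/
noncomputable def orbCoverAt (u : ℕ) (z : ℕ) : Bool :=
  strict z fun z => pick (Nat.beq (clsOf z) 3) (Nat.testBit u z) true

/-- the check of a family of orbits -/
noncomputable def famOK (gens : List (List ℕ)) (os : List OrbWit) : Bool :=
  (gens.all rightOK) && os.all (orbTreeOK gens) &&
    strict (orbUnion os) (fun u => Cert.allPts Fi23Pres.certA.N (orbCoverAt u))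

/-- the generators fix a point -/
noncomputable def gensFix (gens : List (List ℕ)) (q : ℕ) : Bool :=
  gens.all fun w => Nat.beq (Fi23Pres.certA.run q w.reverse) q

end CfsgLib.Fi24Act
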