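import Cfsg.Agent.Lib.Fi24Act.KPerm
import Cfsg.Agent.Lib.Fi24Act.DataLoopZero
import Cfsg.Agent.Lib.Fi24Act.ChkOrbC
import Cfsg.Agent.Lib.Fi24Act.ChkOrbT6
import Cfsg.Agent.Lib.Fi24Act.ChkOrbT7
import Cfsg.Agent.Lib.Fi24Act.ChkOrbT8

/-!
Orbits on the points of the centraliser of `a` among the letters commuting with `k`.
-/

set_option autoImplicit false

namespace CfsgLib.Fi24Act

open CfsgLib.CosetEnum Cfsg.Spor CfsgLib.Fi24Pres
open CfsgLib.Fi23Pres (certA setupA rho)

theorem strip_right {v : List ℕ} (h : rightOK v = true) : strip v = v :=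
  List.filter_eq_self.mpr fun g hg => Nat.blt_eq.mpr ((rightOK_spec h).1 g hg)

theorem rightOK_reverse {v : List ℕ} (h : rightOK v = true) : rightOK v.reverse = true := by
  simpa [rightOK, List.all_reverse] using h

/-- the check of a start of a loop -/
def StartOf (i : Fin 9) (v : List ℕ) : Prop := ((i : ℕ), v) ∈ zeroStarts

theorem orbit_split (i : Fin 9) {gens : List (List ℕ)} {os : List OrbWit}
    (hg : ∀ w ∈ gens, prodW genK w ∈ fixEdge i ⊓ subRight) (hok : famOK gens os = true)
    (hst : ∀ o ∈ os, StartOf i o.v) {u : K} (hu : u ∈ subRight) :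
    ∃ v, StartOf i v ∧ ∃ c ∈ subRight, c.1 ∈ fixA ∧
      actK u (src i) = actK c (actK (prodW genK v.reverse)⁻¹ (src i)) := by
  simp only [famOK, Bool.and_eq_true, List.all_eq_true, strict_eq] at hok
  obtain ⟨⟨hgr, hos⟩, hcov⟩ := hok
  set p : Pts := rho u.1⁻¹ ptA with hp
  have hc3 : clsOf (p : ℕ) = 3 := by
    have h3 : clsOf pointA = 3 := by
      have h := edge_classes
      simp only [Bool.and_eq_true] at h
      exact Nat.eq_of_beq_eq_true h.1.1
    have h := (right_zero (inv_mem hu) ptA).2.mpr h3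
    rwa [Prod.fst_inv] at h
  have hbit := Cert.allPts_spec hcov p p.2
  simp only [orbCoverAt, strict_eq, hc3, Nat.beq_refl, pick_true] at hbit
  obtain ⟨o, ho, hbit⟩ : ∃ o ∈ os, o.mask.testBit (p : ℕ) = true := by
    clear hcov hos hst
    induction os with
    | nil => simp [orbUnion] at hbit
    | cons o os ih =>
      rw [orbUnion, Nat.testBit_or, Bool.or_eq_true] at hbit
      rcases hbit with h | h
      · exact ⟨o, List.mem_cons_self, h⟩
      · obtain ⟨o', h1, h2⟩ := ih h
        exact ⟨o', List.mem_cons_of_mem _ h1, h2⟩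
  have hto := hos o ho
  simp only [orbTreeOK, Bool.and_eq_true] at hto
  obtain ⟨hv, htree⟩ := hto
  cases hr : reach certA gens o.tree (2 ^ certA.run pointA o.v) with
  | none => simp [hr] at htree
  | some m =>
    rw [hr] at htree
    obtain rfl := Nat.eq_of_beq_eq_true htree
    have hq : (edgePt o.v : ℕ) = certA.run pointA o.v := by rw [edgePt_val, strip_right hv]
    obtain ⟨_, τ, hτ, e⟩ := reach_spec
      (P := fun y => ∃ hy : y < certA.N, ∃ τ ∈ fixEdge i ⊓ subRight,
        rho τ.1 (edgePt o.v) = (⟨y, hy⟩ : Pts))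
      (fun y j hj ⟨hy, τ, hτ, e⟩ => by
        have hw : gens.getD j [] ∈ gens := by
          rw [List.getD_eq_getElem _ _ hj]; exact List.getElem_mem hj
        have hlt := (rightOK_spec (hgr _ hw)).1
        have ha := run_rev hlt ⟨y, hy⟩
        rw [← fst_prodW] at ha
        rw [← revInv_eq_reverse hlt] at ha
        refine ⟨ha ▸ Fin.isLt _, prodW genK (gens.getD j []) * τ, mul_mem (hg _ hw) hτ, ?_⟩
        rw [Prod.fst_mul, map_mul, Equiv.Perm.mul_apply, e]
        exact Fin.ext ha)
      _ _ _ hr (fun y hy => by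
        rw [Nat.testBit_two_pow, decide_eq_true_eq] at hy
        refine ⟨hy ▸ hq ▸ Fin.isLt _, 1, one_mem _, Fin.ext ?_⟩
        simpa using hq.trans hy) _ hbit
    have hvU : prodW genK o.v ∈ subRight := right_mem hv
    refine ⟨o.v, hst o ho, u * τ * (prodW genK o.v)⁻¹, mul_mem (mul_mem hu hτ.2) (inv_mem hvU), ?_, ?_⟩
    · show rho (u.1 * τ.1 * (prodW genK o.v).1⁻¹) ptA = ptA
      rw [map_mul, map_mul, Equiv.Perm.mul_apply, Equiv.Perm.mul_apply]
      show rho u.1 (rho τ.1 (edgePt o.v)) = ptA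
      rw [e]
      show rho u.1 (rho u.1⁻¹ ptA) = ptA
      rw [← Equiv.Perm.mul_apply, ← map_mul, mul_inv_cancel, map_one, Equiv.Perm.one_apply]
    · rw [prodW_genK_inv, map_mul, map_mul, map_inv, Equiv.Perm.mul_apply,
        Equiv.Perm.mul_apply, ← Equiv.Perm.mul_apply (actK (prodW genK o.v.reverse)), mul_inv_cancel,
        Equiv.Perm.one_apply, (mem_fixEdge.mp hτ.1).1]

theorem starts_whole : ∀ i : Fin 9, (i : ℕ) < 3 → zeroStarts.contains ((i : ℕ), []) = true := by
  decide +kernel

theorem starts_C : (orbsC.all fun o => zeroStarts.contains (3, o.v) && zeroStarts.contains (4, o.v) &&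
    zeroStarts.contains (5, o.v)) = true := by decide +kernel

theorem starts_T6 : (orbsT6.all fun o => zeroStarts.contains (6, o.v)) = true := by decide +kernel

theorem starts_T7 : (orbsT7.all fun o => zeroStarts.contains (7, o.v)) = true := by decide +kernel

theorem starts_T8 : (orbsT8.all fun o => zeroStarts.contains (8, o.v)) = true := by decide +kernel

theorem gens_fix {gens : List (List ℕ)} {os : List OrbWit} (hok : famOK gens os = true) {q : Pts}
    (hfix : gensFix gens q = true) : ∀ w ∈ gens, prodW genK w ∈ subRight ∧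
      rho (prodW genK w).1 q = q := by
  intro w hw
  simp only [famOK, Bool.and_eq_true, List.all_eq_true] at hok
  have hr := hok.1.1 w hw
  simp only [gensFix, List.all_eq_true] at hfix
  refine ⟨right_mem hr, Fin.ext ?_⟩
  rw [fst_prodW, run_rev (rightOK_spec hr).1]
  exact Nat.eq_of_beq_eq_true (hfix w hw)

theorem gens_seven : ∀ w ∈ gensT7, prodW genK w ∈ fixEdge 7 ⊓ subRight := by
  intro w hw
  have h := orbT7_idx
  simp only [Bool.and_eq_true, List.all_eq_true, Nat.blt_eq, beq_iff_eq, decide_eq_true_eq] at h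
  rw [← h.2, List.mem_map] at hw
  obtain ⟨j, hj, rfl⟩ := hw
  exact basic_seven (h.1 j hj)

/-- every point is a translate, by an element commuting with `k` and `a`, of a start of a loop -/
theorem split_all (i : Fin 9) {u : K} (hu : u ∈ subRight) :
    ∃ v, StartOf i v ∧ ∃ c ∈ subRight, c.1 ∈ fixA ∧
      actK u (src i) = actK c (actK (prodW genK v.reverse)⁻¹ (src i)) := by
  by_cases h3 : (i : ℕ) < 3
  · refine ⟨[], by simpa [StartOf] using starts_whole i h3, 1, one_mem _, one_mem _, ?_⟩
    simpa using (mem_fixEdge.mp (fix_small i hu (Or.inl h3))).1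
  have hC := starts_C
  simp only [List.all_eq_true, Bool.and_eq_true, List.contains_iff_mem] at hC
  have h6 := starts_T6
  have h7 := starts_T7
  have h8 := starts_T8
  simp only [List.all_eq_true, List.contains_iff_mem] at h6 h7 h8
  obtain ⟨i, hi⟩ := i
  simp only at h3
  interval_cases i
  · exact orbit_split ⟨3, hi⟩ (fun w hw => by
      obtain ⟨a, b⟩ := gens_fix orbC_ok (q := ptA) orbC_fix w hw
      exact ⟨fix_small _ a (Or.inr ⟨by simp, b⟩), a⟩) orbC_ok (fun o ho => (hC o ho).1.1) hu
  · exact orbit_split ⟨4, hi⟩ (fun w hw => by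
      obtain ⟨a, b⟩ := gens_fix orbC_ok (q := ptA) orbC_fix w hw
      exact ⟨fix_small _ a (Or.inr ⟨by simp, b⟩), a⟩) orbC_ok (fun o ho => (hC o ho).1.2) hu
  · exact orbit_split ⟨5, hi⟩ (fun w hw => by
      obtain ⟨a, b⟩ := gens_fix orbC_ok (q := ptA) orbC_fix w hw
      exact ⟨fix_small _ a (Or.inr ⟨by simp, b⟩), a⟩) orbC_ok (fun o ho => (hC o ho).2) hu
  · exact orbit_split ⟨6, hi⟩ (fun w hw => by
      obtain ⟨a, b⟩ := gens_fix orbT6_ok (q := edgePt [1, 0]) (by rw [edgePt_val]; exact orbT6_fix) w hw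
      exact ⟨⟨fix_two b, fix_two b⟩, a⟩) orbT6_ok (fun o ho => h6 o ho) hu
  · exact orbit_split 7 gens_seven orbT7_ok (fun o ho => h7 o ho) hu
  · refine orbit_split 8 (fun w hw => ?_) orbT8_ok (fun o ho => h8 o ho) hu
    obtain ⟨a, b⟩ := gens_fix orbT8_ok (q := edgePt rho8) (by rw [edgePt_val]; exact orbT8_fix) w hw
    refine ⟨⟨fix_two b, ?_⟩, a⟩
    have e8 : sigma8 = rho8 := by decide +kernel
    show actK _ (ptW target8 sigma8) = ptW target8 sigma8
    rw [e8]
    exact fix_two b

end CfsgLib.Fi24Act
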