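import Cfsg.Agent.Lib.Fi24Act.Sym

/-!
The 306936 points: cosets of the three stabilisers in `Fi23 × 2`, with the orbits of the letters
commuting with `k`.
-/

set_option autoImplicit false

namespace CfsgLib.Fi24Act

open CfsgLib.CosetEnum Cfsg.Spor CfsgLib.Fi24Pres
open CfsgLib.Fi23Pres (certA setupA rho)

/-- the elements whose first part fixes the point of `a` -/
noncomputable def subS2 : Subgroup K := fixA.comap (MonoidHom.fst Fi23 (Multiplicative (ZMod 2)))

theorem subS2_index : 31671 ≤ subS2.index := by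
  have h1 : Nat.card subS2 ≤ 258247006617600 := by
    let φ : subS2 → fixA × Multiplicative (ZMod 2) := fun x => (⟨x.1.1, x.2⟩, x.1.2)
    have hφ : Function.Injective φ := fun x y e => by
      simp only [φ, Prod.mk.injEq] at e
      exact Subtype.ext (Prod.ext (congrArg (fun c : fixA => (c : Fi23)) e.1) e.2)
    have h := Nat.card_le_card_of_injective φ hφ
    rw [Nat.card_prod, card_fixA, Nat.card_eq_fintype_card (α := Multiplicative (ZMod 2)),
      Fintype.card_multiplicative, ZMod.card] at h
    exact h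
  have h2 := subS2.card_mul_index
  rw [card_K] at h2
  refine Nat.le_of_mul_le_mul_left ?_ (show 0 < 258247006617600 by norm_num)
  calc 258247006617600 * 31671 = 8178940946586009600 := by norm_num
    _ = Nat.card subS2 * subS2.index := h2.symm
    _ ≤ 258247006617600 * subS2.index := Nat.mul_le_mul_right _ h1

/-- the stabilisers in `Fi23 × 2` of the three kinds of points -/
noncomputable def subS : Fin 3 → Subgroup K := ![⊤, subS1, subS2]

/-- the points -/
abbrev X : Type := Σ s : Fin 3, K ⧸ subS s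

theorem card_X_ge : 306936 ≤ Nat.card X := by
  have : Finite K := inferInstance
  rw [Nat.card_sigma, Fin.sum_univ_three]
  have h0 : Nat.card (K ⧸ subS 0) = 1 := Subgroup.index_top
  have h1 : 275264 ≤ Nat.card (K ⧸ subS 1) := subS1_index
  have h2 : 31671 ≤ Nat.card (K ⧸ subS 2) := subS2_index
  omega

/-- the action of `Fi23 × 2` on the points -/
noncomputable def actK : K →* Equiv.Perm X where
  toFun x := Equiv.sigmaCongrRight fun s => MulAction.toPerm (β := K ⧸ subS s) x
  map_one' := Equiv.ext fun ⟨s, q⟩ => by simp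
  map_mul' x y := Equiv.ext fun ⟨s, q⟩ => by simp [mul_smul]

/-- the point of a right coset -/
noncomputable def ptK (s : Fin 3) (x : K) : X := ⟨s, (QuotientGroup.mk x⁻¹ : K ⧸ subS s)⟩

theorem ptK_eq {s : Fin 3} {x y : K} : ptK s x = ptK s y ↔ x * y⁻¹ ∈ subS s := by
  rw [ptK, ptK, Sigma.mk.injEq, heq_eq_eq, QuotientGroup.eq, inv_inv]
  simp

theorem actK_ptK (u : K) (s : Fin 3) (x : K) : actK u (ptK s x) = ptK s (x * u⁻¹) := by
  simp only [actK, MonoidHom.coe_mk, OneHom.coe_mk, ptK, mul_inv_rev, inv_inv]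
  rfl

theorem ptK_surj (p : X) : ∃ s x, ptK s x = p := by
  obtain ⟨s, q⟩ := p
  obtain ⟨y, rfl⟩ := QuotientGroup.mk_surjective q
  exact ⟨s, y⁻¹, by simp [ptK]⟩

theorem fix_ptK {u : K} {s : Fin 3} {x : K} (h : x * u⁻¹ * x⁻¹ ∈ subS s) :
    actK u (ptK s x) = ptK s x := by
  rw [actK_ptK, ptK_eq]
  exact h

theorem fix_ptK_two {u x : K}
    (h : rho u.1 (rho x.1⁻¹ ptA) = rho x.1⁻¹ ptA) : actK u (ptK 2 x) = ptK 2 x := by
  refine fix_ptK (show (x * u⁻¹ * x⁻¹).1 ∈ fixA from ?_)
  rw [mem_fixA, Prod.fst_mul, Prod.fst_mul, Prod.fst_inv, Prod.fst_inv, map_mul, map_mul,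
    Equiv.Perm.mul_apply, Equiv.Perm.mul_apply]
  have h' : rho u.1⁻¹ (rho x.1⁻¹ ptA) = rho x.1⁻¹ ptA := by
    rw [map_inv, Equiv.Perm.inv_eq_iff_eq]
    exact h.symm
  rw [h', ← Equiv.Perm.mul_apply, ← map_mul, mul_inv_cancel, map_one, Equiv.Perm.one_apply]

/-- a number as one of the three kinds -/
def kind (s : ℕ) : Fin 3 := ⟨s % 3, Nat.mod_lt _ (by norm_num)⟩

/-- the point of a kind and a word -/
noncomputable def ptW (s : ℕ) (h : List ℕ) : X := ptK (kind s) (prodW genK h)

theorem genK_inv (g : ℕ) : (genK g)⁻¹ = genK g :=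
  inv_eq_of_mul_eq_one_right (Prod.ext (Fi23Pres.gen_sq g)
    (show Multiplicative.ofAdd (1 : ZMod 2) * Multiplicative.ofAdd 1 = 1 by decide))

theorem actK_ptW (g s : ℕ) (h : List ℕ) : actK (genK g) (ptW s h) = ptW s (h ++ [g]) := by
  rw [ptW, ptW, actK_ptK, genK_inv, prodW_append, prodW_cons, prodW_nil, mul_one]

theorem stab_subS {s : ℕ} {st : List ℕ} {cls : ℕ} (h : stabOK transW s st cls = true) :
    prodW genK (stabW transW s st cls) ∈ subS (kind s) := by
  match s, h with
  | 0, _ => trivial
  | 1, h => exact stab_mem h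
  | 2, h =>
    simp only [stabOK, Bool.and_eq_true] at h
    rw [stabW, if_neg (by norm_num)]
    show (prodW genK st).1 ∈ fixA
    rw [fst_prodW]
    have hlt := strip_lt st
    have h1 := word_fixA (w := (strip st).reverse) (fun g hg => hlt g (List.mem_reverse.mp hg))
      (by rw [List.reverse_reverse]; exact Nat.eq_of_beq_eq_true h.2)
    rw [← revInv_eq_reverse hlt, setupA.model.revInv_eq, inv_mem_iff] at h1
    rw [← fst_prodW, prodW_genK]
    exact h1
  | n + 3, h => simp [stabOK] at h

theorem ptW_eq {s : ℕ} {h h' st : List ℕ} {cls : ℕ} (he : eqK h (stabW transW s st cls ++ h') = true)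
    (hs : stabOK transW s st cls = true) : ptW s h = ptW s h' := by
  rw [ptW, ptW, ptK_eq, eqK_spec he, prodW_append, mul_inv_cancel_right]
  exact stab_subS hs

/-- the edges -/
noncomputable def edges : List Fact := facts7 ++ [fact8]

/-- the edge with a number -/
noncomputable def edge (i : Fin 9) : Fact := edges.getD i ⟨0, [], 0, []⟩

/-- the source of an edge -/
noncomputable def src (i : Fin 9) : X := ptW (edge i).s (edge i).rho

/-- the target of an edge -/
noncomputable def dst (i : Fin 9) : X := ptW (edge i).t (edge i).sigma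

/-- the letters commuting with `k` fixing an edge -/
noncomputable def fixEdge (i : Fin 9) : Subgroup K :=
  (MulAction.stabilizer (Equiv.Perm X) (src i)).comap actK ⊓
    (MulAction.stabilizer (Equiv.Perm X) (dst i)).comap actK

theorem mem_fixEdge {i : Fin 9} {u : K} :
    u ∈ fixEdge i ↔ actK u (src i) = src i ∧ actK u (dst i) = dst i := Iff.rfl

theorem right_classes {u : K} (hu : u ∈ subRight) :
    ∃ σ : Equiv.Perm (Fin 3), Permutes u.1 σ ∧ σ 0 = 0 ∧ signZ u.2 = Equiv.Perm.sign σ := by
  induction hu using Subgroup.closure_induction with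
  | mem y hy =>
    obtain ⟨g, h1, h10, rfl⟩ := hy
    obtain ⟨σ, h, e⟩ := right_le_S1 (Subgroup.subset_closure (k := {y | ∃ g, 1 ≤ g ∧ g < 10 ∧ genK g = y})
      ⟨g, h1, h10, rfl⟩)
    refine ⟨σ, h, ?_, e⟩
    have hc : classOK [g] [0, 2, 1, 3] = true := by
      interval_cases g
      exacts [letter1_ok, letter2_ok, letter3_ok, letter4_ok, letter5_ok, letter6_ok, letter7_ok,
        letter8_ok, letter9_ok]
    have h' := permutes_word hc (Equiv.swap 1 2) (by decide)
    rw [prodW_cons, prodW_nil, mul_one] at h'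
    rw [h.unique h']
    decide
  | one => exact ⟨1, Permutes.one, rfl, by simp⟩
  | mul a b _ _ ha hb =>
    obtain ⟨σ, h, e, f⟩ := ha
    obtain ⟨σ', h', e', f'⟩ := hb
    exact ⟨σ * σ', h.mul h', by simp [e, e'], by rw [Prod.snd_mul, map_mul, f, f', map_mul]⟩
  | inv a _ ha =>
    obtain ⟨σ, h, e, f⟩ := ha
    exact ⟨σ⁻¹, h.inv, by rw [Equiv.Perm.inv_eq_iff_eq, e],
      by rw [Prod.snd_inv, map_inv, f, map_inv]⟩

theorem right_card_le : Nat.card subRight ≤ 2 * 4952179814400 := by
  have h := card_le_classes subRight (Finset.univ.filter fun σ : Equiv.Perm (Fin 3) => σ 0 = 0)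
    fun x hx => by
      obtain ⟨σ, h1, h2, h3⟩ := right_classes hx
      exact ⟨σ, by simpa using h2, h1, h3⟩
  exact h.trans (le_of_eq (congrArg (· * 4952179814400) (by decide +kernel)))

/-- a stabiliser in the letters commuting with `k` has index at most the orbit -/
theorem relIndex_le {T : Subgroup K} (q : Pts) (O : Finset Pts)
    (horb : ∀ u ∈ subRight, rho u.1 q ∈ O)
    (hfix : ∀ u ∈ subRight, rho u.1 q = q → u ∈ T) : T.relIndex subRight ≤ O.card := by
  let f : subRight ⧸ T.subgroupOf subRight → O := fun c => ⟨_, horb c.out c.out.2⟩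
  have hf : Function.Injective f := by
    intro a b e
    have e' : rho a.out.1.1 q = rho b.out.1.1 q := congrArg Subtype.val e
    rw [← QuotientGroup.out_eq' a, ← QuotientGroup.out_eq' b, QuotientGroup.eq,
      Subgroup.mem_subgroupOf]
    refine hfix _ (mul_mem (inv_mem a.out.2) b.out.2) ?_
    show rho (a.out.1.1⁻¹ * b.out.1.1) q = q
    rw [map_mul, map_inv, Equiv.Perm.mul_apply, Equiv.Perm.inv_eq_iff_eq]
    exact e'.symm
  have h := Nat.card_le_card_of_injective f hf
  rwa [Nat.card_eq_finsetCard] at h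

/-- the point where the edge with the number six or eight is fixed -/
noncomputable def edgePt (r : List ℕ) : Pts := rho (prodW genK r).1⁻¹ ptA

theorem edgePt_val (r : List ℕ) : (edgePt r : ℕ) = certA.run pointA (strip r) := by
  have hlt := strip_lt r
  rw [edgePt, prodW_genK, ← setupA.model.revInv_eq, revInv_eq_reverse hlt,
    setupA.rho_prodW (fun g hg => hlt g (List.mem_reverse.mp hg)),
    revInv_eq_reverse (fun g hg => hlt g (List.mem_reverse.mp hg)), List.reverse_reverse]
  rfl

/-- the points of some classes -/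
noncomputable def inClasses (f : ℕ → Bool) : Finset Pts :=
  Finset.univ.filter fun z => f (clsOf z) = true

theorem right_zero {u : K} (hu : u ∈ subRight) (z : Pts) :
    (clsOf (rho u.1 z : ℕ) = 0 ↔ clsOf z = 0) ∧ (clsOf (rho u.1 z : ℕ) = 3 ↔ clsOf z = 3) := by
  obtain ⟨σ, h, h0, -⟩ := right_classes hu
  rw [h z]
  have hlt := clsOf_lt z
  clear h
  generalize clsOf (z : ℕ) = c at hlt ⊢
  revert c
  revert σ
  decide

/-- the kinds of points the letters commuting with `k` keep -/
def keptClasses : List (ℕ → Bool) :=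
  [fun c => Nat.beq c 3, fun c => Nat.beq c 0, fun c => Nat.beq c 1 || Nat.beq c 2]

end CfsgLib.Fi24Act
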