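import Cfsg.Agent.Lib.Fi24Act.Loop
import Cfsg.Agent.Lib.Fi24Act.Orbits
import Cfsg.Agent.Lib.Fi24Act.ChkLoopTen
import Cfsg.Agent.Lib.Fi24Act.ChkLoopZero
import Cfsg.Agent.Lib.Fi24Act.ChkLoopTau
import Cfsg.Agent.Lib.Fi24Act.ChkTauConj
import Cfsg.Agent.Lib.M24.Walk

/-!
The twelve permutations satisfy the relations of the presented Fi24.
-/

set_option autoImplicit false

namespace CfsgLib.Fi24Act

open CfsgLib.CosetEnum Cfsg.Spor CfsgLib.Fi24Pres

theorem zero_fix (p : X) : appW zeroQ p = p := by
  refine points_all (fun q => appW zeroQ q = q) (fun i u hu => ?_) p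
  show appW zeroQ (actK u (src i)) = actK u (src i)
  obtain ⟨v, hv, c, hc, hcA, e⟩ := split_all i hu
  obtain ⟨j, hj, hje⟩ := List.getElem_of_mem hv
  have h := zero_loops
  simp only [List.all_eq_true, List.mem_range] at h
  have h1 := h j hj
  rw [List.getD_eq_getElem _ _ hj, hje] at h1
  obtain ⟨_, h2⟩ := loopFrom_X h1
  have hcomm : ∀ g ∈ zeroQ, ∀ q, stepX g (actK c q) = actK c (stepX g q) := by
    intro g hg q
    have hg' : g = 11 ∨ g = 0 := by
      simp only [zeroQ, List.mem_cons, List.not_mem_nil, or_false] at hg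
      omega
    rcases hg' with rfl | rfl
    · exact step_k hc q
    · exact step_letter (by norm_num) (fix_comm_zero hcA).symm q
  rw [e, appW_comm hcomm]
  exact congrArg _ h2

theorem ten_fix (p : X) : appW tenQ p = p := by
  refine points_all (fun q => appW tenQ q = q) (fun i u hu => ?_) p
  show appW tenQ (actK u (src i)) = actK u (src i)
  have h := ten_loops
  simp only [List.all_eq_true, List.mem_range] at h
  obtain ⟨_, h2⟩ := loopFrom_X (h i i.2)
  rw [prodW_nil, inv_one, map_one, Equiv.Perm.one_apply] at h2
  have hcomm : ∀ g ∈ tenQ, ∀ q, stepX g (actK u q) = actK u (stepX g q) := by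
    intro g hg q
    have hg' : g = 11 ∨ g = 10 := by
      simp only [tenQ, List.mem_cons, List.not_mem_nil, or_false] at hg
      omega
    rcases hg' with rfl | rfl
    · exact step_k hu q
    · exact step_letter (by norm_num) (ten_central u) q
  rw [appW_comm hcomm]
  exact congrArg _ h2

theorem actK_word {w : List ℕ} (hw : ∀ g ∈ w, g < 11) : actK (prodW genK w) = prodW genX w := by
  rw [map_prodW]
  exact prodW_congr fun g hg => by rw [genX, if_pos (hw g hg)]

/-- the third stabiliser element -/
noncomputable def tauK : K := prodW genK tauW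

theorem tau_lt : ∀ g ∈ tauW, g < 11 := ltAll_iff.mp (by decide +kernel)

attribute [local irreducible] tauW

/-- the even words in the letters commuting with `k` -/
noncomputable def subEven : Subgroup K :=
  Subgroup.closure {y | ∃ g, 1 ≤ g ∧ g < 10 ∧ (y = genK g * genK 1 ∨ y = genK 1 * genK g)}

theorem even_le : subEven ≤ subRight := by
  refine (Subgroup.closure_le _).mpr ?_
  rintro y ⟨g, h1, h10, rfl | rfl⟩
  · exact mul_mem (Subgroup.subset_closure ⟨g, h1, h10, rfl⟩)
      (Subgroup.subset_closure ⟨1, le_rfl, by norm_num, rfl⟩)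
  · exact mul_mem (Subgroup.subset_closure ⟨1, le_rfl, by norm_num, rfl⟩)
      (Subgroup.subset_closure ⟨g, h1, h10, rfl⟩)

theorem even_conj {y : K} (hy : y ∈ subEven) : genK 1 * y * genK 1 ∈ subEven := by
  have h1 : genK 1 * genK 1 = 1 := mul_eq_one_iff_eq_inv.mpr (genK_inv 1).symm
  induction hy using Subgroup.closure_induction with
  | mem z hz =>
    obtain ⟨g, g1, g10, rfl | rfl⟩ := hz
    · rw [mul_assoc, mul_assoc, h1, mul_one]
      exact Subgroup.subset_closure ⟨g, g1, g10, Or.inr rfl⟩
    · rw [← mul_assoc, h1, one_mul]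
      exact Subgroup.subset_closure ⟨g, g1, g10, Or.inl rfl⟩
  | one => rw [mul_one, h1]; exact one_mem _
  | mul a b _ _ ha hb =>
    rw [show genK 1 * (a * b) * genK 1 = genK 1 * a * (genK 1 * genK 1) * b * genK 1 by
      rw [h1]; simp only [mul_one, mul_assoc]]
    simpa only [mul_assoc] using mul_mem ha hb
  | inv a _ ha =>
    have := inv_mem ha
    rwa [mul_inv_rev, mul_inv_rev, genK_inv, ← mul_assoc] at this

theorem even_or {u : K} (hu : u ∈ subRight) : u ∈ subEven ∨ u * genK 1 ∈ subEven := by
  have h1 : genK 1 * genK 1 = 1 := mul_eq_one_iff_eq_inv.mpr (genK_inv 1).symm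
  induction hu using Subgroup.closure_induction_left with
  | one => exact Or.inl (one_mem _)
  | mul_left y hy x _ ih =>
    obtain ⟨g, g1, g10, rfl⟩ := hy
    have hg : genK g * genK 1 ∈ subEven := Subgroup.subset_closure ⟨g, g1, g10, Or.inl rfl⟩
    rcases ih with h | h
    · refine Or.inr ?_
      have := mul_mem hg (even_conj h)
      simpa only [mul_assoc, ← mul_assoc (genK 1) (genK 1), h1, one_mul] using this
    · refine Or.inl ?_
      have := mul_mem hg (even_conj h)
      simpa only [mul_assoc, ← mul_assoc (genK 1) (genK 1), h1, one_mul, mul_one] using this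
  | inv_mul_cancel y hy x _ ih =>
    obtain ⟨g, g1, g10, rfl⟩ := hy
    rw [genK_inv]
    have hg : genK g * genK 1 ∈ subEven := Subgroup.subset_closure ⟨g, g1, g10, Or.inl rfl⟩
    rcases ih with h | h
    · refine Or.inr ?_
      have := mul_mem hg (even_conj h)
      simpa only [mul_assoc, ← mul_assoc (genK 1) (genK 1), h1, one_mul] using this
    · refine Or.inl ?_
      have := mul_mem hg (even_conj h)
      simpa only [mul_assoc, ← mul_assoc (genK 1) (genK 1), h1, one_mul, mul_one] using this

theorem tau_conj_gen {g : ℕ} (g1 : 1 ≤ g) (g10 : g < 10) :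
    tauK⁻¹ * (genK g * genK 1) * tauK ∈ subRight ∧ tauK⁻¹ * (genK 1 * genK g) * tauK ∈ subRight := by
  have hm := tau_conjs_mem
  have h := tau_conjs
  revert hm h
  generalize tauConjs = L
  intro hm h
  simp only [List.all_eq_true, Bool.and_eq_true, List.any_eq_true, beq_iff_eq] at hm
  obtain ⟨⟨p, hp, ep⟩, ⟨q, hq, eq⟩⟩ := hm g (by simp only [List.mem_cons, List.not_mem_nil, or_false]; omega)
  simp only [List.all_eq_true, Bool.and_eq_true] at h
  have key : ∀ r ∈ L, tauK⁻¹ * prodW genK r.1 * tauK ∈ subRight := fun r hr => by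
    have e := eqK_spec (h r hr).2
    rw [prodW_append, prodW_append, ← prodW_genK_inv] at e
    rw [tauK, e]
    exact right_mem (h r hr).1
  have a := key p hp
  have b := key q hq
  rw [ep] at a
  rw [eq] at b
  simp only [prodW_cons, prodW_nil, mul_one] at a b
  exact ⟨a, b⟩

theorem tau_conj {y : K} (hy : y ∈ subEven) : tauK⁻¹ * y * tauK ∈ subRight := by
  induction hy using Subgroup.closure_induction with
  | mem z hz =>
    obtain ⟨g, g1, g10, rfl | rfl⟩ := hz
    exacts [(tau_conj_gen g1 g10).1, (tau_conj_gen g1 g10).2]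
  | one => simp
  | mul a b _ _ ha hb =>
    have := mul_mem ha hb
    simpa [mul_assoc] using this
  | inv a _ ha =>
    have := inv_mem ha
    simpa [mul_assoc] using this

theorem tau_rev : prodW genK tauW.reverse = tauK⁻¹ := (prodW_genK_inv tauW).symm

theorem appW_letters {w : List ℕ} (hw : ∀ g ∈ w, g < 11) (p : X) :
    appW w p = actK (prodW genK w)⁻¹ p := by
  rw [appW_eq, ← actK_word (fun g hg => hw g (List.mem_reverse.mp hg)), ← prodW_genK_inv]

theorem appW_tau (q : X) : appW tauQ q = actK tauK (kFun (actK tauK⁻¹ (kFun q))) := by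
  have hk : ∀ p : X, appW [11] p = kFun p := fun p => by
    rw [appW_cons, appW_nil, stepX, if_neg (by norm_num), if_pos rfl]
  rw [tauQ, appW_append, appW_append, appW_append, hk, hk, appW_letters tau_lt,
    appW_letters (fun g hg => tau_lt g (List.mem_reverse.mp hg)), tau_rev, inv_inv]
  rfl

theorem tau_fix_start (i : Fin 9) (e : Bool) :
    appW tauQ (actK (prodW genK (if e then [1] else []))⁻¹ (src i)) =
      actK (prodW genK (if e then [1] else []))⁻¹ (src i) := by
  have h := tau_loops
  simp only [List.all_eq_true, List.mem_range] at h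
  have hi := i.2
  have h1 := h (2 * (i : ℕ) + if e then 1 else 0) (by split <;> omega)
  cases e
  · simp only [Bool.false_eq_true, if_false, Nat.add_zero, Nat.mul_div_cancel_left _ two_pos,
      Nat.mul_mod_right, if_true] at h1 ⊢
    obtain ⟨_, h2⟩ := loopFrom_X h1
    exact h2
  · simp only [if_true, show (2 * (i : ℕ) + 1) / 2 = i by omega,
      show (2 * (i : ℕ) + 1) % 2 = 1 by omega, Nat.one_ne_zero, if_false] at h1 ⊢
    obtain ⟨_, h2⟩ := loopFrom_X h1
    exact h2

theorem tau_fix (q : X) : kFun (actK tauK⁻¹ (kFun q)) = actK tauK⁻¹ q := by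
  refine points_all (fun q => kFun (actK tauK⁻¹ (kFun q)) = actK tauK⁻¹ q) (fun i u hu => ?_) q
  show kFun (actK tauK⁻¹ (kFun (actK u (src i)))) = actK tauK⁻¹ (actK u (src i))
  -- split off a start
  obtain ⟨w, hw, e, he⟩ : ∃ w ∈ subEven, ∃ e : Bool,
      u = w * (prodW genK (if e then [1] else []))⁻¹ := by
    rcases even_or hu with h | h
    · exact ⟨u, h, false, by simp⟩
    · exact ⟨u * genK 1, h, true, by simp⟩
  have h0 := appW_tau (actK (prodW genK (if e then [1] else []))⁻¹ (src i))
  rw [tau_fix_start, map_inv actK tauK] at h0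
  have h1 : kFun (actK tauK⁻¹ (kFun (actK (prodW genK (if e then [1] else []))⁻¹ (src i)))) =
      actK tauK⁻¹ (actK (prodW genK (if e then [1] else []))⁻¹ (src i)) := by
    rw [map_inv actK tauK]
    exact (Equiv.Perm.inv_eq_iff_eq.mpr h0).symm
  set q0 := actK (prodW genK (if e then [1] else []))⁻¹ (src i)
  rw [he, map_mul, Equiv.Perm.mul_apply]
  change kFun (actK tauK⁻¹ (kFun (actK w q0))) = actK tauK⁻¹ (actK w q0)
  have hconj := tau_conj hw
  have eM : ∀ p, actK tauK⁻¹ (actK w p) = actK (tauK⁻¹ * w * tauK) (actK tauK⁻¹ p) := fun p => by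
    rw [← Equiv.Perm.mul_apply, ← map_mul, ← Equiv.Perm.mul_apply, ← map_mul]
    simp [mul_assoc]
  rw [kFun_comm (even_le hw), eM, kFun_comm hconj, h1, ← eM]

theorem tau_commute : Commute (genX 11) (prodW genX tauW) := by
  rw [← actK_word tau_lt]
  have hc : Commute (genX 11) (actK tauK)⁻¹ := by
    rw [← map_inv]
    refine Equiv.ext fun q => ?_
    have hk : ∀ p, genX 11 p = kFun p := fun p => by
      rw [genX_apply, stepX, if_neg (by norm_num), if_pos rfl]
    rw [Equiv.Perm.mul_apply, Equiv.Perm.mul_apply, hk, hk]
    have h := tau_fix (kFun q)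
    rwa [kFun_kFun] at h
  simpa [tauK] using hc.inv_right

theorem genX_small {g : ℕ} (hg : g < 11) : genX g = actK (genK g) := by rw [genX, if_pos hg]

theorem cube_of_fix {g : ℕ} (h : ∀ p, appW [11, g, 11, g, 11, g] p = p) :
    genX 11 * genX g * genX 11 = genX g * genX 11 * genX g := by
  have h6 : prodW genX [g, 11, g, 11, g, 11] = 1 := Equiv.ext fun p => by
    have := h p
    rw [appW_eq] at this
    simpa using this
  simp only [prodW_cons, prodW_nil, mul_one] at h6
  have i1 : ∀ x, (genX x)⁻¹ = genX x := fun x => inv_eq_of_mul_eq_one_right (genX_sq x)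
  have e : genX g * genX 11 * genX g * (genX 11 * genX g * genX 11) = 1 := by
    simpa only [mul_assoc] using h6
  rw [mul_eq_one_iff_eq_inv] at e
  rw [e, mul_inv_rev, mul_inv_rev, i1, i1, ← mul_assoc]

theorem rel24 : M24.Rel24 genX where
  sq := genX_sq
  ten := by
    have h7 : ∀ g ∈ sevenW, g < 11 := by decide +kernel
    rw [genX_small (by norm_num), ← actK_word h7, ← eqK_spec ten_seven]
    simp
  cox :=
    { sq := fun g _ => genX_sq g
      comm := fun a ha b hb hab => by
        have hsym : ∀ x < 12, ∀ y < 12, adjB x y = adjB y x := by decide +kernel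
        have hk : ∀ g < 11, adjB 11 g = false → Commute (genX 11) (genX g) := by
          intro g hg hadj
          have hg' : 1 ≤ g ∧ g < 10 := by
            revert hadj
            revert g
            decide +kernel
          refine Equiv.ext fun q => ?_
          have hmem : genK g ∈ subRight := Subgroup.subset_closure ⟨g, hg'.1, hg'.2, rfl⟩
          rw [Equiv.Perm.mul_apply, Equiv.Perm.mul_apply, genX_small hg, genX_apply, genX_apply]
          exact step_k hmem q
        rcases Nat.lt_or_ge a 11 with ha' | ha' <;> rcases Nat.lt_or_ge b 11 with hb' | hb'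
        · have h := cox_pairs
          simp only [List.all_eq_true, List.mem_range] at h
          have h1 := h a ha' b hb'
          rw [coxPairOK, hab, if_neg (by simp)] at h1
          have e := eqK_spec h1
          simp only [prodW_cons, prodW_nil, mul_one] at e
          rw [genX_small ha', genX_small hb']
          exact Commute.map e actK
        · obtain rfl : b = 11 := by omega
          exact (hk a ha' (by rw [← hsym a ha 11 hb]; exact hab)).symm
        · obtain rfl : a = 11 := by omega
          exact hk b hb' hab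
        · obtain rfl : a = 11 := by omega
          obtain rfl : b = 11 := by omega
          exact Commute.refl _
      braid := fun a ha b hb hab => by
        have hcases : ∀ x < 12, ∀ y < 12, adjB x y = true → (x < 11 ∧ y < 11) ∨
            (x = 11 ∧ (y = 0 ∨ y = 10)) ∨ (y = 11 ∧ (x = 0 ∨ x = 10)) := by
          intro x hx y hy
          revert hy
          revert y
          revert hx
          revert x
          set_option synthInstance.maxSize 1000 in
          decide +kernel
        have h0 : genX 11 * genX 0 * genX 11 = genX 0 * genX 11 * genX 0 := cube_of_fix zero_fix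
        have h10 : genX 11 * genX 10 * genX 11 = genX 10 * genX 11 * genX 10 := cube_of_fix ten_fix
        rcases hcases a ha b hb hab with ⟨ha', hb'⟩ | ⟨rfl, rfl | rfl⟩ | ⟨rfl, rfl | rfl⟩
        · have h := cox_pairs
          simp only [List.all_eq_true, List.mem_range] at h
          have h1 := h a ha' b hb'
          rw [coxPairOK, hab, if_pos rfl] at h1
          have e := congrArg actK (eqK_spec h1)
          simp only [prodW_cons, prodW_nil, mul_one, map_mul, ← mul_assoc] at e
          rw [genX_small ha', genX_small hb']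
          exact e
        · exact h0
        · exact h10
        · exact h0.symm
        · exact h10.symm }

theorem z_genX : prodW genX zWord24 = 1 := M24.z_rel rel24 tau_commute

end CfsgLib.Fi24Act
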