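import Cfsg.Agent.Lib.Fi24Act.Main
import Cfsg.Agent.Lib.Fi23Pres.Main

/-!
The commutator subgroup of the presented Fi24 is simple of index two.
-/

set_option autoImplicit false

namespace CfsgLib.Fi24Act

open scoped commutatorElement
open CfsgLib.CosetEnum Cfsg.Spor CfsgLib.Fi24Pres
open CfsgLib.Fi23Pres (certA setupA rho)

theorem exists_par : ∃ ε : Fi24 →* Multiplicative (ZMod 2), ∀ g < 12, ε (gen g) = Multiplicative.ofAdd 1 := by
  have hrels : ∀ r ∈ coxRelators Fi24.edges ∪ {r | r ∈ Fi24.extra},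
      FreeGroup.lift (fun _ => Multiplicative.ofAdd (1 : ZMod 2)) r = 1 := by
    rintro r (⟨x, -, y, -, rfl⟩ | hr)
    · simp only [map_pow, map_mul, FreeGroup.lift_apply_of]
      rw [show Multiplicative.ofAdd (1 : ZMod 2) * Multiplicative.ofAdd 1 = 1 by decide, one_pow]
    · simp only [Set.mem_ofPred_eq, Fi24.extra, List.mem_cons, List.not_mem_nil, or_false] at hr
      rcases hr with rfl | rfl <;>
      · simp only [map_pow, map_mul, map_inv, Fi24.l, Fi24.k, Fi24.a, Fi24.b, Fi24.c, Fi24.d,
          Fi24.e, Fi24.f, Fi24.g, Fi24.j, Fi24.h, Fi24.i, FreeGroup.lift_apply_of]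
        decide
  refine ⟨PresentedGroup.toGroup hrels, fun k hk => ?_⟩
  rw [gen, presGen, genOf_of_lt (show k < letters.length from hk)]
  exact PresentedGroup.toGroup.of hrels

/-- the parity -/
noncomputable def par : Fi24 →* Multiplicative (ZMod 2) := exists_par.choose

theorem par_gen {g : ℕ} (hg : g < 12) : par (gen g) = Multiplicative.ofAdd 1 :=
  exists_par.choose_spec g hg

theorem par_psiK (x : K) : par (psiK x) = x.2 := by
  have h : par.comp psiK = MonoidHom.snd Fi23 (Multiplicative (ZMod 2)) := by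
    refine MonoidHom.eq_of_eqOn_dense gen_K_top ?_
    rintro y ⟨g, hg, rfl⟩
    rw [MonoidHom.comp_apply, psiK_genK hg, par_gen (by omega)]
    rfl
  exact DFunLike.congr_fun h x

theorem par_surjective : Function.Surjective par := by
  intro b
  exact ⟨psiK (1, b), par_psiK _⟩

theorem ker_par_index : par.ker.index = 2 := by
  rw [Subgroup.index_ker, MonoidHom.range_eq_top.mpr par_surjective, Subgroup.card_top,
    Nat.card_eq_fintype_card, Fintype.card_multiplicative, ZMod.card]

theorem actF_injective : Function.Injective actF := by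
  rw [injective_iff_map_eq_one]
  intro g hg
  have hmem : g ∈ subH := by
    rw [← stab_eq]
    show actF g pt0 = pt0
    rw [hg]; rfl
  rw [subH_eq] at hmem
  obtain ⟨x, rfl⟩ := hmem
  rw [actF_psiK] at hg
  rw [actK_injective (hg.trans (map_one actK).symm), map_one]

theorem kind_cards : Nat.card (K ⧸ subS 1) = 275264 ∧ Nat.card (K ⧸ subS 2) = 31671 ∧
    Nat.card (K ⧸ subS 0) = 1 := by
  have h := card_X
  rw [Nat.card_sigma, Fin.sum_univ_three] at h
  have h0 : Nat.card (K ⧸ subS 0) = 1 := Subgroup.index_top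
  have h1 : 275264 ≤ Nat.card (K ⧸ subS 1) := subS1_index
  have h2 : 31671 ≤ Nat.card (K ⧸ subS 2) := subS2_index
  omega

theorem kind_ncard (s : Fin 3) : ({p : X | p.1 = s} : Set X).ncard = Nat.card (K ⧸ subS s) := by
  rw [← Nat.card_coe_set_eq]
  refine Nat.card_congr ?_
  exact { toFun := fun p => p.2 ▸ p.1.2
          invFun := fun q => ⟨⟨s, q⟩, rfl⟩
          left_inv := fun ⟨⟨t, q⟩, h⟩ => by
            change t = s at h
            subst h; rfl
          right_inv := fun q => rfl }

/-- an element of the third stabilisers of odd parity -/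
theorem exists_odd_stab (s : Fin 3) : ∃ t ∈ subS s, t.2 = Multiplicative.ofAdd (1 : ZMod 2) := by
  fin_cases s
  · exact ⟨genK 10, trivial, rfl⟩
  · exact ⟨genK 1, right_le_S1 (Subgroup.subset_closure ⟨1, le_rfl, by norm_num, rfl⟩), rfl⟩
  · refine ⟨genK 10, ?_, rfl⟩
    show Fi23Pres.gen 10 ∈ fixA
    rw [ten_fst]
    exact one_mem _

/-- the even elements of the stabiliser reach every point of each kind -/
theorem even_move (p : X) : ∃ y : Fi23, actK (y, 1) (ptK p.1 1) = p := by
  obtain ⟨s, x, rfl⟩ := ptK_surj p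
  show ∃ y : Fi23, actK (y, 1) (ptK s 1) = ptK s x
  obtain ⟨t, ht, ht2⟩ := exists_odd_stab s
  have hcases : x⁻¹.2 = 1 ∨ (x⁻¹ * t).2 = 1 := by
    rw [Prod.snd_mul, ht2]
    generalize x⁻¹.2 = b
    revert b
    decide
  rcases hcases with h | h
  · refine ⟨x⁻¹.1, ?_⟩
    rw [show ((x⁻¹.1, 1) : K) = x⁻¹ from Prod.ext rfl h.symm, ← pt_move]
  · refine ⟨(x⁻¹ * t).1, ?_⟩
    rw [show (((x⁻¹ * t).1, 1) : K) = x⁻¹ * t from Prod.ext rfl h.symm, map_mul,
      Equiv.Perm.mul_apply, fix_ptK (by simpa using ht), ← pt_move]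

theorem kind_act (x : K) (p : X) : (actK x p).1 = p.1 := by
  obtain ⟨s, y, rfl⟩ := ptK_surj p
  rw [actK_ptK]
  rfl

noncomputable instance : MulAction par.ker X := MulAction.compHom X (actF.comp par.ker.subtype)

theorem ker_smul (n : par.ker) (p : X) : n • p = actF n.1 p := rfl

/-- an element of Fi23 in the even part -/
noncomputable def evenH : Fi23 →* par.ker :=
  (psiK.comp (MonoidHom.inl Fi23 (Multiplicative (ZMod 2)))).codRestrict par.ker fun y => by
    rw [MonoidHom.mem_ker]
    exact par_psiK _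

theorem evenH_smul (y : Fi23) (p : X) : evenH y • p = actK (y, 1) p := by
  rw [ker_smul]
  exact congrArg (fun e : Equiv.Perm X => e p) (actF_psiK (y, 1))

theorem evenH_injective : Function.Injective evenH := fun a b h => by
  have := psiK_injective (congrArg Subtype.val h : psiK (a, 1) = psiK (b, 1))
  exact (Prod.mk.injEq _ _ _ _ ▸ this).1

theorem stab_ker (n : par.ker) (h : n • pt0 = pt0) : ∃ y, evenH y = n := by
  have hmem : n.1 ∈ subH := by rw [← stab_eq]; exact h
  rw [subH_eq] at hmem
  obtain ⟨⟨y, b⟩, e⟩ := hmem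
  have hb := n.2
  rw [MonoidHom.mem_ker, ← e, par_psiK] at hb
  refine ⟨y, Subtype.ext ?_⟩
  show psiK (y, 1) = n.1
  rw [← e]
  exact congrArg (fun z => psiK (y, z)) hb.symm

instance ker_pretransitive : MulAction.IsPretransitive par.ker X := by
  have h : ∀ p : X, ∃ n : par.ker, n • pt0 = p := fun p => by
    obtain ⟨g, hg⟩ := transitive p
    obtain ⟨b, hb⟩ : ∃ b, par g = b := ⟨_, rfl⟩
    refine ⟨⟨g * psiK (1, b), ?_⟩, ?_⟩
    · rw [MonoidHom.mem_ker, map_mul, par_psiK, hb]
      show b * b = 1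
      exact (show ∀ b : Multiplicative (ZMod 2), b * b = 1 by decide) b
    · rw [ker_smul]
      show actF (g * psiK (1, b)) pt0 = p
      rw [map_mul, Equiv.Perm.mul_apply, actF_psiK, pt0, actK_ptK, show ptK 0 (1 * (1, b)⁻¹) = ptK 0 1 from
        ptK_eq.mpr trivial]
      exact hg
  exact ⟨fun p q => by
    obtain ⟨a, rfl⟩ := h p
    obtain ⟨b, rfl⟩ := h q
    exact ⟨b * a⁻¹, by rw [← mul_smul, inv_mul_cancel_right]⟩⟩

theorem ker_smul_faithful {n : par.ker} (h : ∀ p : X, n • p = p) : n = 1 :=
  Subtype.ext (actF_injective ((Equiv.ext h : actF n.1 = 1).trans (map_one actF).symm))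

theorem orbit_one_or_all {N : Subgroup par.ker} [N.Normal] (hN : N ≠ ⊥) :
    ∀ p : X, ∃ n ∈ N, n • pt0 = p := by
  set B := MulAction.orbit N pt0 with hB
  have hblock : MulAction.IsBlock par.ker B := MulAction.IsBlock.orbit_of_normal pt0
  have h0 : pt0 ∈ B := MulAction.mem_orbit_self _
  have hinv : ∀ (y : Fi23) (p : X), p ∈ B → actK (y, 1) p ∈ B := by
    rintro y p ⟨n, rfl⟩
    refine ⟨⟨evenH y * n.1 * (evenH y)⁻¹, Subgroup.Normal.conj_mem inferInstance n.1 n.2 _⟩, ?_⟩
    show (evenH y * n.1 * (evenH y)⁻¹) • pt0 = actK (y, 1) (n.1 • pt0)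
    have hfix : (evenH y)⁻¹ • pt0 = pt0 := by
      rw [inv_smul_eq_iff, evenH_smul]
      exact (subH_fix (psiK_mem (y, 1)) |> fun h => (actF_psiK (y, 1) ▸ h : actK (y, 1) pt0 = pt0)).symm
    rw [mul_smul, mul_smul, hfix, evenH_smul]
  have hkind : ∀ p ∈ B, ∀ q : X, q.1 = p.1 → q ∈ B := fun p hp q hq => by
    obtain ⟨y, hy⟩ := even_move p
    obtain ⟨z, hz⟩ := even_move q
    rw [hq] at hz
    have h1 := hinv z _ (hinv y⁻¹ p hp)
    have e : actK (y⁻¹, 1) p = ptK p.1 1 := by
      conv_lhs => rw [← hy]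
      rw [← Equiv.Perm.mul_apply, ← map_mul, Prod.mk_mul_mk, inv_mul_cancel, mul_one]
      exact congrArg (fun e : Equiv.Perm X => e _) (map_one actK)
    rw [e, hz] at h1
    exact h1
  have hdvd : B.ncard ∣ 306936 := card_X ▸ hblock.ncard_dvd_card ⟨pt0, h0⟩
  obtain ⟨c1, c2, c0⟩ := kind_cards
  by_cases hone : ∃ p ∈ B, p.1 = (1 : Fin 3)
  · obtain ⟨p, hp, hp1⟩ := hone
    by_cases htwo : ∃ p ∈ B, p.1 = (2 : Fin 3)
    · obtain ⟨q, hq, hq2⟩ := htwo
      intro r
      have hr : r ∈ B := by
        rcases (show r.1 = 0 ∨ r.1 = 1 ∨ r.1 = 2 by omega) with h | h | h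
        · exact hkind _ h0 r h
        · exact hkind _ hp r (h.trans hp1.symm)
        · exact hkind _ hq r (h.trans hq2.symm)
      obtain ⟨n, hn⟩ := hr
      exact ⟨n.1, n.2, hn⟩
    · exfalso
      push Not at htwo
      have e : B = {q : X | q.1 = (0 : Fin 3)} ∪ {q : X | q.1 = (1 : Fin 3)} := by
        refine Set.ext fun q => ⟨fun hq => ?_, fun hq => ?_⟩
        · have := htwo q hq
          simp only [Set.mem_union, Set.mem_ofPred_eq]
          omega
        · rcases hq with h | h
          exacts [hkind _ h0 q h, hkind _ hp q (h.trans hp1.symm)]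
      have hdis : Disjoint {q : X | q.1 = (0 : Fin 3)} {q : X | q.1 = (1 : Fin 3)} :=
        Set.disjoint_left.mpr fun q h h' => absurd (h.symm.trans h') (by decide)
      rw [e, Set.ncard_union_eq hdis (Set.toFinite _) (Set.toFinite _), kind_ncard, kind_ncard, c0, c1] at hdvd
      norm_num at hdvd
  · push Not at hone
    by_cases htwo : ∃ p ∈ B, p.1 = (2 : Fin 3)
    · exfalso
      obtain ⟨p, hp, hp2⟩ := htwo
      have e : B = {q : X | q.1 = (0 : Fin 3)} ∪ {q : X | q.1 = (2 : Fin 3)} := by
        refine Set.ext fun q => ⟨fun hq => ?_, fun hq => ?_⟩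
        · have := hone q hq
          simp only [Set.mem_union, Set.mem_ofPred_eq]
          omega
        · rcases hq with h | h
          exacts [hkind _ h0 q h, hkind _ hp q (h.trans hp2.symm)]
      have hdis : Disjoint {q : X | q.1 = (0 : Fin 3)} {q : X | q.1 = (2 : Fin 3)} :=
        Set.disjoint_left.mpr fun q h h' => absurd (h.symm.trans h') (by decide)
      rw [e, Set.ncard_union_eq hdis (Set.toFinite _) (Set.toFinite _), kind_ncard, kind_ncard, c0, c2] at hdvd
      norm_num at hdvd
    · push Not at htwo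
      exfalso
      refine hN ((Subgroup.eq_bot_iff_forall _).mpr fun n hn => ker_smul_faithful fun p => ?_)
      obtain ⟨g, rfl⟩ := MulAction.exists_smul_eq par.ker pt0 p
      have hmem : (g⁻¹ * n * g) • pt0 ∈ B :=
        ⟨⟨_, Subgroup.Normal.conj_mem' inferInstance n hn g⟩, rfl⟩
      have hk : ((g⁻¹ * n * g) • pt0).1 = (0 : Fin 3) := by
        have := hone _ hmem
        have := htwo _ hmem
        omega
      have e : (g⁻¹ * n * g) • pt0 = pt0 := by
        obtain ⟨s, x, hx⟩ := ptK_surj ((g⁻¹ * n * g) • pt0)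
        rw [← hx] at hk ⊢
        obtain rfl : s = 0 := hk
        exact ptK_eq.mpr trivial
      rwa [mul_smul, mul_smul, inv_smul_eq_iff] at e

theorem card_ker : Nat.card par.ker = 1255205709190661721292800 := by
  have h := par.ker.card_mul_index
  rw [ker_par_index, card_Fi24] at h
  omega

theorem simple_ker : IsSimpleGroup par.ker := by
  haveI := finite_card.1
  haveI : IsSimpleGroup Fi23 := Fi23Pres.isFi23.1
  haveI : Nontrivial par.ker :=
    Finite.one_lt_card_iff_nontrivial.mp (by rw [card_ker]; norm_num)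
  refine ⟨fun N hN => or_iff_not_imp_left.mpr fun hne => ?_⟩
  haveI := hN
  have htr := orbit_one_or_all hne
  rcases (inferInstance : (N.comap evenH).Normal).eq_bot_or_eq_top with hb | ht
  · exfalso
    -- regular: conjugation has two classes on `N \ 1`
    have hreg : ∀ a ∈ N, ∀ b ∈ N, a • pt0 = b • pt0 → a = b := by
      intro a ha b hb' e
      obtain ⟨y, hy⟩ := stab_ker (b⁻¹ * a) (by rw [mul_smul, e, inv_smul_smul])
      have hy' : y ∈ N.comap evenH := by
        rw [Subgroup.mem_comap, hy]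
        exact mul_mem (inv_mem hb') ha
      rw [hb, Subgroup.mem_bot] at hy'
      rw [hy', map_one] at hy
      exact (inv_mul_eq_one.mp hy.symm).symm
    have hord : ∀ a ∈ N, ∀ b ∈ N, (a • pt0).1 = (b • pt0).1 → orderOf a = orderOf b := by
      intro a ha b hb' e
      obtain ⟨y, hy⟩ := even_move (a • pt0)
      obtain ⟨z, hz⟩ := even_move (b • pt0)
      rw [← e] at hz
      set w := evenH (z * y⁻¹)
      have hw : w • (a • pt0) = b • pt0 := by
        rw [evenH_smul]
        conv_lhs => rw [← hy]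
        rw [← Equiv.Perm.mul_apply, ← map_mul, Prod.mk_mul_mk, inv_mul_cancel_right, mul_one, hz]
      have hfix : w⁻¹ • pt0 = pt0 := by
        rw [inv_smul_eq_iff, evenH_smul, pt0, actK_ptK]
        exact ptK_eq.mpr trivial
      have : w * a * w⁻¹ = b := hreg _ (hN.conj_mem a ha w) b hb' (by
        rw [mul_smul, mul_smul, hfix, hw])
      rw [← this]
      exact (orderOf_injective (MulAut.conj w).toMonoidHom (MulAut.conj w).injective a).symm
    have hcard : Nat.card N = 306936 := by
      rw [← card_X]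
      refine Nat.card_eq_of_bijective (fun n : N => n.1 • pt0)
        ⟨fun a b e => Subtype.ext (hreg _ a.2 _ b.2 e), fun p => ?_⟩
      obtain ⟨n, hn, e⟩ := htr p
      exact ⟨⟨n, hn⟩, e⟩
    have hp : ∀ p : ℕ, p.Prime → p ∣ 306936 → ∃ a ∈ N, orderOf a = p ∧ (a • pt0).1 ≠ (0 : Fin 3) := by
      intro p hp hdvd
      haveI := Fact.mk hp
      obtain ⟨a, ha⟩ := exists_prime_orderOf_dvd_card' (G := N) p (hcard ▸ hdvd)
      refine ⟨a.1, a.2, (orderOf_injective N.subtype N.subtype_injective a).trans ha, ?_⟩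
      intro h0
      have e : a.1 • pt0 = (1 : par.ker) • pt0 := by
        rw [one_smul]
        obtain ⟨s, x, hx⟩ := ptK_surj (a.1 • pt0)
        rw [← hx] at h0 ⊢
        obtain rfl : s = 0 := h0
        exact ptK_eq.mpr trivial
      have h1 : a = 1 := Subtype.ext (hreg _ a.2 _ (one_mem N) e)
      rw [h1, orderOf_one] at ha
      exact hp.ne_one ha.symm
    obtain ⟨a, haN, oa, ka⟩ := hp 2 Nat.prime_two (by norm_num)
    obtain ⟨b, hbN, ob, kb⟩ := hp 3 Nat.prime_three (by norm_num)
    obtain ⟨c, hcN, oc, kc⟩ := hp 7 (by norm_num) (by norm_num)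
    rcases (show (a • pt0).1 = (b • pt0).1 ∨ (a • pt0).1 = (c • pt0).1 ∨ (b • pt0).1 = (c • pt0).1 by
      omega) with e | e | e
    · have := hord a haN b hbN e; omega
    · have := hord a haN c hcN e; omega
    · have := hord b hbN c hcN e; omega
  · refine eq_top_iff.mpr fun g _ => ?_
    obtain ⟨n, hn, e⟩ := htr (g • pt0)
    obtain ⟨y, hy⟩ := stab_ker (n⁻¹ * g) (by rw [mul_smul, ← e, inv_smul_smul])
    have hy' : evenH y ∈ N := by
      rw [← Subgroup.mem_comap, ht]; trivial
    rw [show g = n * evenH y by rw [hy, mul_inv_cancel_left]]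
    exact mul_mem hn hy'

theorem commutator_eq : commutator Fi24 = par.ker := by
  refine le_antisymm (Abelianization.commutator_subset_ker par) ?_
  haveI := simple_ker
  have hna : commutator par.ker ≠ ⊥ := by
    intro hb
    have hcomm : ∀ a b : par.ker, a * b = b * a := fun a b => by
      have hm : ⁅a, b⁆ ∈ commutator par.ker := by
        rw [commutator_def]; exact Subgroup.commutator_mem_commutator (Subgroup.mem_top a) (Subgroup.mem_top b)
      rw [hb, Subgroup.mem_bot] at hm
      exact commutatorElement_eq_one_iff_mul_comm.mp hm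
    letI : CommGroup par.ker := { (inferInstance : Group par.ker) with mul_comm := hcomm }
    have hprime := IsSimpleGroup.prime_card (α := par.ker)
    rw [card_ker] at hprime
    exact (by norm_num : ¬ Nat.Prime 1255205709190661721292800) hprime
  have htop : commutator par.ker = ⊤ :=
    ((inferInstance : (commutator par.ker).Normal).eq_bot_or_eq_top).resolve_left hna
  intro g hg
  have h1 : (⟨g, hg⟩ : par.ker) ∈ commutator par.ker := htop ▸ Subgroup.mem_top _
  have hle : (commutator par.ker).map par.ker.subtype ≤ commutator Fi24 := by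
    rw [commutator_def, commutator_def, Subgroup.map_commutator]
    exact Subgroup.commutator_mono le_top le_top
  exact hle ⟨_, h1, rfl⟩

theorem isFi24' : Cfsg.IsFi24' Fi24' := by
  let e : par.ker ≃* Fi24' := MulEquiv.subgroupCongr commutator_eq.symm
  haveI := simple_ker
  exact ⟨MulEquiv.isSimpleGroup e.symm,
    (Nat.card_congr e.toEquiv).symm.trans card_ker⟩

end CfsgLib.Fi24Act
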